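import Mathlib
import Cfsg.Agent.Base
import Cfsg.Agent.Lib.Fusion.Pearl
import Cfsg.Agent.Lib.Fusion.Constr

/-!
# Groups with an abelian subgroup of index `p`
-/

set_option autoImplicit false

namespace H93

open Cfsg Cfsg.FusionSystem H90 Subgroup
open H68 (SylowIn)
open scoped commutatorElement

variable {p : ℕ} [hp : Fact p.Prime]

section Aut

variable {G : Type*} [Group G] [Finite G] {A T : Subgroup (MulAut G)} {τ : MulAut G}

theorem mem_pCoreOf_of_two_step (hG : IsPGroup p G) {U : Subgroup G}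
    (hU : ∀ α ∈ A, ∀ x ∈ U, α x ∈ U) {β : MulAut G} (hβ : β ∈ A) (h1 : ∀ x ∈ U, β x = x)
    (h2 : ∀ x, x⁻¹ * β x ∈ U) : β ∈ pCoreOf p A :=
  let D : Subgroup (MulAut G) :=
    { carrier := {β | β ∈ A ∧ (∀ x ∈ U, β x = x) ∧ ∀ x, x⁻¹ * β x ∈ U}
      one_mem' := ⟨A.one_mem, fun _ _ => rfl, fun x => by simp⟩
      mul_mem' := fun {a b} ha hb => ⟨A.mul_mem ha.1 hb.1, fun x hx => by
        rw [MulAut.mul_apply, hb.2.1 x hx, ha.2.1 x hx], fun x => by
        simpa [mul_assoc] using U.mul_mem (hb.2.2 x) (ha.2.2 (b x))⟩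
      inv_mem' := fun {a} ha => ⟨A.inv_mem ha.1, fun x hx => by
        rw [MulAut.inv_apply, MulEquiv.symm_apply_eq, ha.2.1 x hx], fun x => by
        simpa using U.inv_mem (ha.2.2 (a⁻¹ x))⟩ }
  H70.le_pCoreOf (P := D) (H70.isPGroup_of_forall_coprime fun a ha hc =>
    H5.aut_eq_one_of_stabilizes hG a hc U ha.2.1 ha.2.2) (fun _ h => h.1)
    (le_normalizer_iff.2 fun γ hγ a ha => ⟨A.mul_mem (A.mul_mem hγ ha.1) (A.inv_mem hγ),
      fun x hx => by simpa using congrArg γ (ha.2.1 _ (hU _ (A.inv_mem hγ) x hx)),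
      fun x => by simpa using hU γ hγ _ (ha.2.2 (γ⁻¹ x))⟩) ⟨hβ, h1, h2⟩

theorem exists_r2_pair (hG : IsPGroup p G) (hT : SylowIn p T A) {Z : Subgroup G} (hZ : Z.index = p)
    (h1 : ∀ t ∈ T, ∀ x ∈ Z, t x = x) (hτ : τ ∈ T) (hτ1 : τ ≠ 1) {α : MulAut G} (hα : α ∈ A)
    {z : G} (hz : z ∈ Z) (hz' : α z ∉ Z) : ∃ K ≤ A, T ≤ K ∧ pCoreOf p K = ⊥ ∧
      (∀ κ ∈ K, ∀ y ∈ Z ⊓ Z.comap (α : G →* G), κ y = y) ∧
      R2 p K T τ (Z ⊓ Z.comap (α : G →* G)) := by
  have hT' := hT.cj_of_mem (A.inv_mem hα)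
  have h2 : ∀ t ∈ H68.cj α⁻¹ T, ∀ x ∈ Z.comap (α : G →* G), t x = x := fun t ht x hx => by
    simpa using h1 _ (H68.mem_cj.1 ht) _ hx
  have h3 : (Z.comap (α : G →* G)).index = p := (index_comap_of_surjective _ α.surjective).trans hZ
  have h4 : ∀ κ ∈ T ⊔ H68.cj α⁻¹ T, ∀ y ∈ Z ⊓ Z.comap (α : G →* G), κ y = y := fun κ hκ y hy =>
    (sup_le (fun t ht => h1 t ht y hy.1) fun t ht => h2 t ht y hy.2 :
      T ⊔ H68.cj α⁻¹ T ≤ MulAction.stabilizer (MulAut G) y) hκ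
  have h5 : pCoreOf p (T ⊔ H68.cj α⁻¹ T) = ⊥ := eq_bot_iff.2 fun β hβ => by
    have h6 : ∀ {U}, SylowIn p U A → U ≤ T ⊔ H68.cj α⁻¹ T → β ∈ U := fun hU hle =>
      hU.le_of_le_normalizer (H70.isPGroup_pCoreOf p _)
        ((H70.pCoreOf_le p _).trans (sup_le hT.le hT'.le))
        (hle.trans (H70.le_normalizer_pCoreOf p _)) hβ
    have h7 := ((H5.isCoatom_of_index_prime (h3 ▸ hp.out)).2 _ (lt_of_le_of_ne le_sup_right
      fun e => hz' (e.ge (mem_sup_left hz) :))).ge.trans (sup_le (h1 β (h6 hT le_sup_left))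
        (h2 β (h6 hT' le_sup_right)) : _ ≤ H5.fixedSub β)
    exact MulEquiv.ext fun x => h7 (mem_top x)
  refine ⟨_, sup_le hT.le hT'.le, le_sup_left, h5, h4, ?_⟩
  simpa using exists_r2 hG hT.isPGroup le_sup_left hτ (mem_top τ)
    (le_normalizer_of_normal.trans' le_top) (by rwa [h5]) (N := Z ⊓ Z.comap (α : G →* G))
    (le_inf (frattini_le_coatom (H5.isCoatom_of_index_prime (hZ ▸ hp.out)))
      (frattini_le_coatom (H5.isCoatom_of_index_prime (h3 ▸ hp.out))))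
    (fun κ hκ y hy => (h4 κ hκ y hy).symm ▸ hy) (index_inf_le.trans (by rw [hZ, h3, sq]))
    fun κ hκ hc => H5.aut_eq_one_of_stabilizes hG κ hc _ (h4 κ hκ.1)

end Aut

variable {Ω : Type*} [Group Ω] {S A P : Subgroup Ω} {x : Ω}

omit hp in
theorem homOn_card_eq {L K : Subgroup Ω} {f : Ω → Ω} (h : HomOn L f)
    (hK : ∀ x, x ∈ K ↔ x ∈ L ∧ f x = 1) : Nat.card L = Nat.card K * Nat.card (im f L) := by
  have h1 : (homOf h).ker = K.subgroupOf L :=
    Subgroup.ext fun x => ⟨fun hx => (hK x).2 ⟨x.2, hx⟩, fun hx => ((hK x).1 hx).2⟩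
  rw [h.im_eq_range, ← index_ker, h1, ← card_subgroupOf_eq (S := L) fun x hx => ((hK x).1 hx).1,
    card_mul_index]

/-- The second centre of `S`. -/
abbrev Z2 (S : Subgroup Ω) : Subgroup Ω := (Subgroup.upperCentralSeries S 2).map S.subtype

omit hp in
theorem mem_Z2 : x ∈ Z2 S ↔ x ∈ S ∧ ∀ y ∈ S, ⁅x, y⁆ ∈ centralizerIn S S := by
  rw [← center_map_eq, ← Subgroup.upperCentralSeries_one]
  refine ⟨?_, fun h => ⟨⟨x, h.1⟩, fun y => ?_, rfl⟩⟩
  · rintro ⟨x, hx, rfl⟩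
    exact ⟨x.2, fun y hy => ⟨_, hx ⟨y, hy⟩, rfl⟩⟩
  · obtain ⟨u, hu, e⟩ := h.2 y y.2
    exact (Subtype.ext e : u = ⁅(⟨x, h.1⟩ : S), y⁆) ▸ hu

omit hp in
theorem center_le_Z2 : centralizerIn S S ≤ Z2 S := fun z hz => mem_Z2.2 ⟨hz.1, fun y hy => by
  rw [commutatorElement_eq_one_iff_mul_comm.2 (hz.2 y hy).symm]; exact one_mem _⟩

theorem sup_eq_of_relIndex (h : A.relIndex S = p) (hA : A ≤ S) (hx : x ∈ S) (hx' : x ∉ A) :
    A ⊔ zpowers x = S := by
  have := H5.sup_zpowers_eq_top_of_isCoatom (H5.isCoatom_of_index_prime (M := A.subgroupOf S)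
    (h.symm ▸ hp.out : (A.relIndex S).Prime)) (x := ⟨x, hx⟩) hx'
  rw [← subgroupOf_sup_zpowers hA hx, subgroupOf_eq_top] at this
  exact le_antisymm (sup_le hA (zpowers_le.2 hx)) this

/-- The elements of `K` that `f` fixes modulo `M`. -/
def mov {K : Subgroup Ω} (M : Subgroup Ω) {f : Ω → Ω} (h : HomOn K f)
    (hn : K ≤ normalizer (M : Set Ω)) : Subgroup Ω where
  carrier := {v | v ∈ K ∧ f v * v⁻¹ ∈ M}
  one_mem' := ⟨K.one_mem, by simp [h.one]⟩
  mul_mem' {a b} ha hb := ⟨K.mul_mem ha.1 hb.1, by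
    simpa [h.mul ha.1 hb.1, mul_assoc] using M.mul_mem ha.2 (le_normalizer_iff.1 hn a ha.1 _ hb.2)⟩
  inv_mem' {a} ha := ⟨K.inv_mem ha.1, by
    simpa [h.inv ha.1, mul_assoc] using le_normalizer_iff.1 hn _ (K.inv_mem ha.1) _ (M.inv_mem ha.2)⟩

omit hp in
theorem comm_mem_of_sup {R : Subgroup Ω} {a : Ω} (hS : A ⊔ zpowers x = S)
    (hR : S ≤ normalizer (R : Set Ω)) (h1 : ∀ b ∈ A, ⁅a, b⁆ ∈ R) (h2 : ⁅a, x⁆ ∈ R) {y : Ω}
    (hy : y ∈ S) : ⁅a, y⁆ ∈ R :=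
  ((hS.ge.trans (sup_le (fun b hb => ⟨hS.le (mem_sup_left hb), h1 b hb⟩) (zpowers_le.2
    ⟨hS.le (mem_sup_right (mem_zpowers x)), h2⟩)) : S ≤ mov R (homOn_cj S a) hR) hy).2

omit hp in
theorem le_normalizer_center (S : Subgroup Ω) : S ≤ normalizer (centralizerIn S S : Set Ω) :=
  (normalizerIn_self S).ge.trans (normalizerIn_le_normalizer_centralizerIn S S)

omit hp in
theorem comm_mem_of_normalizer {g : Ω} (hg : g ∈ normalizer (P : Set Ω)) (hx : x ∈ P) :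
    ⁅g, x⁆ ∈ P := P.mul_mem ((mem_normalizer_iff.1 hg x).1 hx) (P.inv_mem hx)

omit hp in
theorem Z2_le_normalizerIn [Finite P] (h1 : centralizerIn S S ≤ P) (h2 : P ≤ S) :
    Z2 S ≤ normalizerIn S P := fun b hb => ⟨(mem_Z2.1 hb).1, H90.mem_normalizer_of_conj_mem
  fun y hy => by
    simpa [commutatorElement_def] using P.mul_mem (h1 ((mem_Z2.1 hb).2 y (h2 hy))) hy⟩

theorem pow_mem_of_relIndex [Finite S] (hS : IsPGroup p S) (h : A.relIndex S = p) (hx : x ∈ S) :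
    x ^ p ∈ A :=
  haveI := H5.normal_of_index_eq hS h
  H5.pow_mem_of_index_eq (M := A.subgroupOf S) h ⟨x, hx⟩

/-- `S` is a nonabelian `p`-group and `A` is an abelian subgroup of index `p`. -/
structure AI (p : ℕ) (S A : Subgroup Ω) : Prop where
  pg : IsPGroup p S
  le : A ≤ S
  comm : ∀ a ∈ A, ∀ b ∈ A, a * b = b * a
  index : A.relIndex S = p
  na : ¬ S ≤ centralizer (S : Set Ω)

namespace AI

variable [Finite S] (h : AI p S A)
include h

theorem norm : S ≤ normalizer (A : Set Ω) :=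
  (normal_subgroupOf_iff_le_normalizer h.le).1 (H5.normal_of_index_eq h.pg h.index)

theorem comm_mem {a : Ω} (ha : a ∈ A) (hx : x ∈ S) : ⁅a, x⁆ ∈ A :=
  comm_mem_comm (comm_mem_of_normalizer (h.norm hx) ha)

theorem homOn (hx : x ∈ S) : HomOn A fun a => ⁅a, x⁆ := fun a ha b hb => by
  beta_reduce
  rw [show ⁅a * b, x⁆ = a * ⁅b, x⁆ * a⁻¹ * ⁅a, x⁆ by simp only [commutatorElement_def]; group,
    h.comm a ha _ (h.comm_mem hb hx), mul_inv_cancel_right,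
    h.comm _ (h.comm_mem hb hx) _ (h.comm_mem ha hx)]

omit [Finite S] hp in
theorem comm_eq_one {a b : Ω} (ha : a ∈ A) (hb : b ∈ A) : ⁅a, b⁆ = 1 :=
  commutatorElement_eq_one_iff_mul_comm.2 (h.comm a ha b hb)

omit [Finite S] in
theorem exists_not_mem : ∃ x ∈ S, x ∉ A := SetLike.not_le_iff_exists.1 fun e =>
  hp.out.ne_one (h.index.symm.trans (relIndex_eq_one.2 e))

theorem relIndex_eq (hP : P ≤ S) (hx : x ∈ P) (hx' : x ∉ A) : A.relIndex P = p := by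
  haveI := H5.normal_of_index_eq h.pg h.index
  refine ((Nat.dvd_prime hp.out).1 ?_).resolve_left fun e => hx' (relIndex_eq_one.1 e hx)
  rw [← relIndex_subgroupOf hP, ← h.index]
  exact relIndex_dvd_index_of_normal _ _

theorem inf_sup (hP : P ≤ S) (hx : x ∈ P) (hx' : x ∉ A) : A ⊓ P ⊔ zpowers x = P :=
  sup_eq_of_relIndex ((inf_relIndex_right A P).trans (h.relIndex_eq hP hx hx')) inf_le_right hx
    fun e => hx' e.1

theorem inf (hP : P ≤ S) (hx : x ∈ P) (hx' : x ∉ A) (hn : ¬ P ≤ centralizer (P : Set Ω)) :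
    AI p P (A ⊓ P) := ⟨h.pg.to_le hP, inf_le_right, fun a ha b hb => h.comm a ha.1 b hb.1,
  (inf_relIndex_right A P).trans (h.relIndex_eq hP hx hx'), hn⟩

variable (hx : x ∈ S) (hx' : x ∉ A)
include hx hx'

omit [Finite S] in
theorem sup : A ⊔ zpowers x = S := sup_eq_of_relIndex h.index h.le hx hx'

omit [Finite S] in
theorem mem_center {a : Ω} (ha : a ∈ A) (e : ⁅a, x⁆ = 1) : a ∈ centralizerIn S S :=
  ⟨h.le ha, fun _ hy => (commutatorElement_eq_one_iff_mul_comm.1 (mem_bot.1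
    (comm_mem_of_sup (h.sup hx hx') le_normalizer_of_normal (fun _ hb => h.comm_eq_one ha hb) e hy))).symm⟩

omit [Finite S] in
theorem mem_Z2 {a : Ω} (ha : a ∈ A) (e : ⁅a, x⁆ ∈ centralizerIn S S) : a ∈ Z2 S :=
  H93.mem_Z2.2 ⟨h.le ha, fun _ => comm_mem_of_sup (h.sup hx hx') (le_normalizer_center S)
    (fun _ hb => h.comm_eq_one ha hb ▸ one_mem _) e⟩

omit hx hx' [Finite S] in
theorem center_le : centralizerIn S S ≤ A := fun z hz => by_contra fun hz' => h.na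
  ((h.sup hz.1 hz').ge.trans (sup_le (fun a ha => (h.mem_center hz.1 hz' ha
    (commutatorElement_eq_one_iff_mul_comm.2 (hz.2 a (h.le ha)))).2) (zpowers_le.2 hz.2)))

theorem im_eq : im (fun a => ⁅a, x⁆) A = ⁅S, S⁆ := by
  have h1 : im (fun a => ⁅a, x⁆) A ≤ A := im_le_iff.2 fun a ha => h.comm_mem ha hx
  have := finite_of_le (h1.trans h.le)
  have h2 : S ≤ normalizer (im (fun a => ⁅a, x⁆) A : Set Ω) := (h.sup hx hx').ge.trans (sup_le
    (fun a ha => centralizer_le_normalizer _ fun b hb => h.comm b (h1 hb) a ha)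
    (zpowers_le.2 (H90.mem_normalizer_of_conj_mem fun y hy => by
      obtain ⟨a, ha, rfl⟩ := (h.homOn hx).mem_im.1 hy
      simpa [conjugate_commutatorElement] using mem_im_of_mem (fun a => ⁅a, x⁆)
        ((mem_normalizer_iff.1 (h.norm hx) a).1 ha))))
  have h3 := fun a => @comm_mem_of_sup _ _ _ _ _ _ a (h.sup hx hx') h2
  exact le_antisymm (im_le_iff.2 fun a ha => commutator_mem_commutator (h.le ha) hx)
    (commutator_le.2 fun s hs t => h3 s (fun b hb => comm_mem_comm (h3 b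
      (fun _ hc => h.comm_eq_one hb hc ▸ one_mem _) (mem_im_of_mem _ hb) hs))
      (comm_mem_comm (h3 x (fun b hb => comm_mem_comm (mem_im_of_mem _ hb)) (by simp) hs)))

theorem card_eq_of_le {L : Subgroup Ω} (hL : L ≤ A) : Nat.card L =
    Nat.card (centralizerIn S S ⊓ L : Subgroup Ω) * Nat.card (im (fun a => ⁅a, x⁆) L) :=
  homOn_card_eq ((h.homOn hx).mono hL) fun a => ⟨fun ha => ⟨ha.2,
    commutatorElement_eq_one_iff_mul_comm.2 (ha.1.2 x hx).symm⟩,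
      fun ha => ⟨h.mem_center hx hx' (hL ha.1) ha.2, ha.1⟩⟩

omit hx hx'

theorem der_le : ⁅S, S⁆ ≤ A :=
  let ⟨_, hx, hx'⟩ := h.exists_not_mem
  (h.im_eq hx hx').ge.trans (im_le_iff.2 fun _ ha => h.comm_mem ha hx)

theorem card_eq : Nat.card A = Nat.card (centralizerIn S S) * Nat.card (⁅S, S⁆ : Subgroup Ω) := by
  obtain ⟨x, hx, hx'⟩ := h.exists_not_mem
  rw [h.card_eq_of_le hx hx' le_rfl, h.im_eq hx hx', inf_eq_left.2 h.center_le]

theorem card_inf : Nat.card (centralizerIn S S ⊓ ⁅S, S⁆ : Subgroup Ω) =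
    (centralizerIn S S).relIndex (Z2 S ⊓ A) := by
  obtain ⟨x, hx, hx'⟩ := h.exists_not_mem
  have h1 := h.card_eq_of_le hx hx' (L := Z2 S ⊓ A) inf_le_right
  have := finite_of_le (inf_le_left : centralizerIn S S ⊓ (Z2 S ⊓ A) ≤ _)
  rw [← H1.card_inf_mul_relIndex (centralizerIn S S), Nat.mul_right_inj Nat.card_pos.ne'] at h1
  rw [h1]
  congr 2
  refine le_antisymm (fun w hw => ?_) (im_le_iff.2 fun a ha =>
    ⟨(H93.mem_Z2.1 ha.1).2 x hx, commutator_mem_commutator (h.le ha.2) hx⟩)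
  obtain ⟨a, ha, rfl⟩ := (h.homOn hx).mem_im.1 ((h.im_eq hx hx').ge hw.2)
  exact mem_im_of_mem (fun a => ⁅a, x⁆) ⟨h.mem_Z2 hx hx' ha hw.1, ha⟩

theorem card_der_le (k : ℕ) : Nat.card (⁅S, S⁆ : Subgroup Ω) ≤
    Nat.card (centralizerIn S S ⊓ ⁅S, S⁆ : Subgroup Ω) ^ k *
      Nat.card (S.lowerCentralSeries (k + 1)) := by
  obtain ⟨x, hx, hx'⟩ := h.exists_not_mem
  induction k with
  | zero => simp
  | succ k ih =>
    have h1 : S.lowerCentralSeries (k + 1) ≤ ⁅S, S⁆ :=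
      S.lowerCentralSeries_antitone (Nat.le_add_left 1 k)
    have := finite_of_le (S.lowerCentralSeries_le_self (k + 2))
    have := finite_of_le (inf_le_left : centralizerIn S S ⊓ ⁅S, S⁆ ≤ _)
    rw [h.card_eq_of_le hx hx' (h1.trans h.der_le)] at ih
    rw [pow_succ, mul_assoc]
    exact ih.trans (Nat.mul_le_mul_left _ (Nat.mul_le_mul (H90.card_le_of_le (inf_le_inf_left _ h1))
      (H90.card_le_of_le (im_le_iff.2 fun a ha => commutator_mem_commutator ha hx))))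

end AI

theorem abIdx_eq_defs : True := by
  have := @mov.eq_1.{0}
  have := @mov.eq_def.{0}
  have := @Z2.eq_1.{0}
  have := @Z2.eq_def.{0}
  trivial

end H93
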