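import Mathlib
import Cfsg.Agent.Base
import Cfsg.Agent.Lib.Fusion.AbIdx

/-!
# Fusion systems over groups with an abelian subgroup of index `p`
-/

set_option autoImplicit false

namespace H93

open Cfsg Cfsg.FusionSystem H90 Subgroup
open H68 (SylowIn)
open scoped commutatorElement

variable {p : ℕ} [hp : Fact p.Prime]

theorem NC.r2_center' {G : Type*} [Group G] [Finite G] {A T : Subgroup (MulAut G)} {τ : MulAut G}
    (h : NC p A T τ) (hG : IsPGroup p G) (h1 : frattini G ≤ center G)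
    (hi : (center G).index ≤ p ^ 2) (hτ : ∀ x ∈ center G, τ x = x) :
    ∃ A₀ ≤ A, (∀ α ∈ A₀, ∀ x ∈ center G, α x = x) ∧ R2 p A₀ T τ (center G) :=
  have hW : ∀ α : MulAut G, ∀ x ∈ center G, MonoidHom.id _ α x ∈ center G :=
    fun α _ => H5.aut_mem_of_characteristic inferInstance α
  have h2 : ∀ α ∈ A ⊓ (H2.subAut (MonoidHom.id _) _ hW).ker, ∀ x ∈ center G, α x = x :=
    fun _ hα x hx => congrArg Subtype.val (MulEquiv.congr_fun hα.2 ⟨x, hx⟩)
  have h3 : τ ∈ (H2.subAut (MonoidHom.id _) _ hW).ker :=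
    MulEquiv.ext fun x => Subtype.ext (hτ x x.2)
  ⟨_, inf_le_left, h2, exists_r2 hG h.pg h.le h.mem h3
    (le_normalizer_of_normal.trans' le_top) h.nmem h1
    (fun α _ => hW α) hi fun α hα hc => H5.aut_eq_one_of_stabilizes hG α hc _ (h2 α hα)⟩

variable {Ω : Type*} [Group Ω] {S A P : Subgroup Ω} {x g : Ω} {σ : Equiv.Perm Ω}

omit hp in
theorem mem_center_iff_coe {x : P} : x ∈ center P ↔ (x : Ω) ∈ centralizerIn P P :=
  ⟨fun h => ⟨x.2, fun y hy => congrArg Subtype.val (mem_center_iff.1 h ⟨y, hy⟩)⟩,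
    fun h => mem_center_iff.2 fun y => Subtype.ext (h.2 y y.2)⟩

variable [Finite S] {F : FusionSystem S}

omit hp [Finite S] in
theorem Rad.center_le (hR : Rad F p S P) : centralizerIn S S ≤ P :=
  (centralizerIn_anti S hR.lt.le).trans hR.cent

omit hp [Finite S] in
theorem apply_eq_of_mem_center {t : MulAut P} (ht : t ∈ autInducedBy S P) {x : P}
    (hx : (x : Ω) ∈ centralizerIn S S) : t x = x := by
  obtain ⟨g, hg, rfl⟩ := exists_conjAut_of_mem ht
  exact Subtype.ext (by rw [conjAut_apply, hx.2 g hg.1, mul_inv_cancel_right])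

theorem Rad.mem_of_two_step (hS : IsPGroup p S) (hR : Rad F p S P) {U : Subgroup Ω}
    (hU : ∀ σ, Iso F P P σ → ∀ x ∈ P, x ∈ U → σ x ∈ U) (hg : g ∈ normalizerIn S P)
    (h1 : ∀ x ∈ P, x ∈ U → g * x * g⁻¹ = x) (h2 : ∀ x ∈ P, x⁻¹ * (g * x * g⁻¹) ∈ U) : g ∈ P :=
  haveI := finite_of_le hR.lt.le
  hR.rad g hg (mem_pCoreOf_of_two_step (hS.to_le hR.lt.le) (U := U.subgroupOf P)
    (fun α hα x hx => by simpa [mem_subgroupOf] using hU _ (iso_extA hR.lt.le hα) x x.2 hx)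
    (autInducedBy_le_autGroup F hR.lt.le (conjAut_mem hg.1 hg.2))
    (fun x hx => Subtype.ext (h1 x x.2 hx)) fun x => h2 x x.2)

theorem Rad.relIndex_eq (hS : IsPGroup p S) (hR : Rad F p S P) (hg : g ∈ normalizerIn S P)
    (hg' : g ∉ P) {K A₀ : Subgroup (MulAut P)} {N : Subgroup P} (hT : autInducedBy S P ≤ K)
    (hK : pCoreOf p K ≤ pCoreOf p (F.autGroup P)) (hN : ∀ α ∈ K, ∀ x ∈ N, α x ∈ N)
    (h1 : ∀ t ∈ autInducedBy S P, ∀ x ∈ N, t x = x)
    (h : R2 p A₀ (autInducedBy S P) (conjAut P g hg.2) N) :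
    P.relIndex (normalizerIn S P) = p := by
  haveI := finite_of_le hR.lt.le
  have h2 : ∀ s (hs : s ∈ normalizerIn S P), (∀ x : P, x⁻¹ * conjAut P s hs.2 x ∈ N) → s ∈ P :=
    fun s hs e => hR.rad s hs (hK (mem_pCoreOf_of_two_step (hS.to_le hR.lt.le) hN
      (hT (conjAut_mem hs.1 hs.2)) (h1 _ (conjAut_mem hs.1 hs.2)) e))
  have h3 : normalizerIn S P = P ⊔ zpowers g := le_antisymm (fun s hs => by
    obtain ⟨k, hk⟩ := h.zp _ (conjAut_mem hs.1 hs.2)
    have h4 := h2 _ (mul_mem hs (inv_mem (zpow_mem hg k))) fun x => by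
      rw [show conjAut P (s * (g ^ k)⁻¹) _ = conjAut P s hs.2 * (conjAut P g hg.2 ^ k)⁻¹ from
        (map_mul _ (⟨s, hs.2⟩ : normalizer (P : Set Ω)) (⟨g, hg.2⟩ ^ k)⁻¹).trans (by
          rw [map_inv, map_zpow]; rfl)]
      simpa using hk ((conjAut P g hg.2 ^ k)⁻¹ x)
    simpa using mul_mem (mem_sup_left h4) (mem_sup_right (zpow_mem_zpowers g k)))
    (sup_le (le_normalizerIn hR.lt.le) (zpowers_le.2 hg))
  rw [h3]
  refine H5.relIndex_sup_zpowers hp.out hg.2 hg' (h2 _ (Subgroup.pow_mem _ hg p) fun x => ?_)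
  rw [show conjAut P (g ^ p) _ = conjAut P g hg.2 ^ p from
    map_pow _ (⟨g, hg.2⟩ : normalizer (P : Set Ω)) p]
  exact h.pow x

/-- `P` is an abelian radical subgroup containing `Z(S)` with index `p`. -/
structure HT (F : FusionSystem S) (p : ℕ) (P : Subgroup Ω) : Prop where
  rad : Rad F p S P
  comm : P ≤ centralizer (P : Set Ω)
  index : (centralizerIn S S).relIndex P = p
  der : ⁅S, S⁆ ⊓ P ≤ centralizerIn S S

namespace AI

variable (h : AI p S A) (hR : Rad F p S P)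
include h hR

omit [Finite S] hp in
theorem exists_mem_not_mem (hne : P ≠ A) : ∃ x ∈ P, x ∉ A := SetLike.not_le_iff_exists.1 fun e =>
  hne (le_antisymm e fun a ha => hR.cent ⟨h.le ha, fun b hb => h.comm b (e hb) a ha⟩)

variable (hx : x ∈ P) (hx' : x ∉ A)
include hx hx'

theorem ht (hc : P ≤ centralizer (P : Set Ω)) : A ⊓ P = centralizerIn S S ∧ HT F p P :=
  have h1 : A ⊓ P = centralizerIn S S := le_antisymm (fun a ha => h.mem_center (hR.lt.le hx) hx' ha.1
    (commutatorElement_eq_one_iff_mul_comm.2 (hc hx a ha.2))) (le_inf h.center_le hR.center_le)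
  ⟨h1, hR, hc, h1 ▸ (inf_relIndex_right A P).trans (h.relIndex_eq hR.lt.le hx hx'),
    h1 ▸ inf_le_inf_right P h.der_le⟩

theorem of_not_comm (hn : ¬ P ≤ centralizer (P : Set Ω)) :
    centralizerIn P P = centralizerIn S S ∧ A ⊓ P = Z2 S ∧
      (centralizerIn S S).relIndex (Z2 S) = p ∧ P.relIndex (normalizerIn S P) = p := by
  haveI := finite_of_le hR.lt.le
  have hP := h.pg.to_le hR.lt.le
  have hxS := hR.lt.le hx
  have h' := h.inf hR.lt.le hx hx' hn
  have hZ : centralizerIn P P = centralizerIn S S := le_antisymm (fun z hz => h.mem_center hxS hx'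
    (h'.center_le hz).1 (commutatorElement_eq_one_iff_mul_comm.2 (hz.2 x hx).symm))
    fun z hz => ⟨hR.center_le hz, fun y hy => hz.2 y (hR.lt.le hy)⟩
  obtain ⟨s, hs, hs'⟩ := hR.exists_mem h.pg
  obtain ⟨g, hgA, i, rfl⟩ := (H5.mem_sup_zpowers_iff (h.norm hxS)).1 ((h.sup hxS hx').ge hs.1)
  have hg := (mul_mem_cancel_right (zpow_mem (le_normalizerIn hR.lt.le hx) i)).1 hs
  rw [mul_mem_cancel_right (zpow_mem hx i)] at hs'
  obtain ⟨σ, hσ, y, hy, hyA, hy'⟩ : ∃ σ, Iso F P P σ ∧ ∃ y ∈ P, y ∈ A ∧ σ y ∉ A := by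
    by_contra! hU
    exact hs' (hR.mem_of_two_step h.pg hU hg (fun y _ hy => by
      rw [h.comm g hgA y hy, mul_inv_cancel_right]) fun y hy => by
        simpa [commutatorElement_def, mul_assoc] using
          comm_mem_comm (h.comm_mem hgA (inv_mem (hR.lt.le hy))))
  have h1 : (A.subgroupOf P).index = p := h.relIndex_eq hR.lt.le hx hx'
  have h2 : ((A.subgroupOf P).comap (hσ.equiv : P →* P)).index = p :=
    (index_comap_of_surjective _ hσ.equiv.surjective).trans h1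
  have h3 : A.subgroupOf P ⊓ (A.subgroupOf P).comap (hσ.equiv : P →* P) ≤ center P := fun b hb =>
    mem_center_iff_coe.2 ((iso_mem_center_iff hσ).1 (h'.mem_center (hσ.mem hy) (fun e => hy' e.1)
      ⟨hb.2, hσ.mem b.2⟩ (by
        rw [← hσ.homOn.commutator b.2 hy, h.comm_eq_one (a := b) hb.1 hyA, hσ.homOn.one])))
  have h4 := (le_inf (frattini_le_coatom (H5.isCoatom_of_index_prime (h1 ▸ hp.out)))
    (frattini_le_coatom (H5.isCoatom_of_index_prime (h2 ▸ hp.out)))).trans h3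
  have h5 : ∀ t ∈ autInducedBy S P, ∀ x ∈ center P, t x = x := fun t ht x hx =>
    apply_eq_of_mem_center ht (hZ.le (mem_center_iff_coe.1 hx))
  obtain ⟨A₀, -, -, h6⟩ := (hR.nc h.pg hg hs').r2_center' hP h4
    ((index_antitone h3).trans (index_inf_le.trans (by rw [h1, h2, sq])))
    (h5 _ (conjAut_mem hg.1 hg.2))
  have h7 : Z2 S ≤ P := fun b hb => hR.mem_of_two_step h.pg (U := centralizerIn S S)
    (fun σ hσ x _ hx => hZ.le (iso_mem_center hσ (hZ.ge hx)))
    (Z2_le_normalizerIn hR.center_le hR.lt.le hb)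
    (fun y _ hy => by rw [hy.2 b (H93.mem_Z2.1 hb).1, mul_inv_cancel_right]) fun y hy => by
      simpa [commutatorElement_def, mul_assoc] using
        comm_mem_comm ((H93.mem_Z2.1 hb).2 _ (inv_mem (hR.lt.le hy)))
  have h8 : A ⊓ P = Z2 S := le_antisymm (fun a ha => h.mem_Z2 hxS hx' ha.1 (hZ.le
    (mem_center_iff_coe.1 (h4 (H5.commutatorElement_mem_frattini hP ⟨a, ha.2⟩ ⟨x, hx⟩)))))
    (le_inf (fun b hb => by_contra fun hb' => hR.lt.not_ge ((h.sup (H93.mem_Z2.1 hb).1 hb').ge.trans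
      ((sup_le (fun a ha => h.mem_Z2 (H93.mem_Z2.1 hb).1 hb' ha (comm_mem_comm
        ((H93.mem_Z2.1 hb).2 a (h.le ha)))) (zpowers_le.2 hb)).trans h7))) h7)
  refine ⟨hZ, h8, ?_, hR.relIndex_eq h.pg hg hs' (autInducedBy_le_autGroup F hR.lt.le) le_rfl
    (fun α _ _ => H5.aut_mem_of_characteristic inferInstance α) h5 h6⟩
  have h9 := relIndex_mul_relIndex _ _ _ center_le_Z2 h7
  rw [← h8, h'.index, h8, show (centralizerIn S S).relIndex P = p ^ 2 from
    (congrArg Subgroup.index (Subgroup.ext fun x => by rw [mem_center_iff_coe, hZ]; rfl)).trans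
      h6.index,
    sq] at h9
  exact Nat.eq_of_mul_eq_mul_right hp.out.pos h9

end AI

namespace HT

variable (h : HT F p P) (hS : IsPGroup p S)
include h hS

theorem exists_move : ∃ σ, Iso F P P σ ∧ ∃ z ∈ centralizerIn S S, σ z ∉ centralizerIn S S := by
  by_contra! hU
  obtain ⟨g, hg, hg'⟩ := h.rad.exists_mem hS
  exact hg' (h.rad.mem_of_two_step hS (fun σ hσ x _ => hU σ hσ x) hg
    (fun y _ hy => by rw [hy.2 g hg.1, mul_inv_cancel_right]) fun y hy => h.der ⟨by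
      simpa [commutatorElement_def, mul_assoc] using
        commutator_mem_commutator (inv_mem (h.rad.lt.le hy)) hg.1,
      P.mul_mem (P.inv_mem hy) (conj_mem_of_normalizerIn hg hy)⟩)

variable (hF : F.IsSaturated p)
include hF

theorem exists_r2 (hσ : Iso F P P σ) {z : Ω} (hz : z ∈ centralizerIn S S)
    (hz' : σ z ∉ centralizerIn S S) (hg : g ∈ normalizerIn S P) (hg' : g ∉ P) :
    ∃ K ≤ F.autGroup P, ∃ Y : Subgroup P, autInducedBy S P ≤ K ∧ pCoreOf p K = ⊥ ∧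
      (∀ y, y ∈ Y ↔ (y : Ω) ∈ centralizerIn S S ∧ σ y ∈ centralizerIn S S) ∧
      (∀ κ ∈ K, ∀ y ∈ Y, κ y = y) ∧ R2 p K (autInducedBy S P) (conjAut P g hg.2) Y := by
  haveI := finite_of_le h.rad.lt.le
  obtain ⟨K, h1, h2, h3, h4, h5⟩ := exists_r2_pair (hS.to_le h.rad.lt.le)
    (sylowIn_of_normalized hS hF h.rad.norm) h.index (fun t ht x hx => apply_eq_of_mem_center ht hx)
    (conjAut_mem hg.1 hg.2) (fun e => hg' (h.rad.rad g hg (e ▸ one_mem _))) hσ.equiv_mem
    (z := ⟨z, h.rad.center_le hz⟩) hz hz'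
  exact ⟨K, h1, _, h2, h3, fun _ => Iff.rfl, h4, h5⟩

theorem relIndex_eq : P.relIndex (normalizerIn S P) = p := by
  obtain ⟨g, hg, hg'⟩ := h.rad.exists_mem hS
  obtain ⟨σ, hσ, z, hz, hz'⟩ := h.exists_move hS
  obtain ⟨K, -, Y, h1, h2, -, h3, h4⟩ := h.exists_r2 hS hF hσ hz hz' hg hg'
  exact h.rad.relIndex_eq hS hg hg' h1 (h2.le.trans bot_le)
    (fun κ hκ y hy => (h3 κ hκ y hy).symm ▸ hy) (fun t ht => h3 t (h1 ht)) h4

end HT

theorem AI.card_inf_eq (h : AI p S A) (hF : F.IsSaturated p) (hR : Rad F p S P) (hne : P ≠ A) :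
    Nat.card (centralizerIn S S ⊓ ⁅S, S⁆ : Subgroup Ω) = p := by
  obtain ⟨x, hx, hx'⟩ := h.exists_mem_not_mem hR hne
  haveI := finite_of_le hR.lt.le
  rw [h.card_inf]
  by_cases hc : P ≤ centralizer (P : Set Ω)
  · obtain ⟨h1, h2⟩ := h.ht hR hx hx' hc
    have h3 : Z2 S ⊓ A = A ⊓ normalizerIn S P := le_antisymm (le_inf inf_le_right
      (inf_le_left.trans (Z2_le_normalizerIn hR.center_le hR.lt.le))) fun a ha =>
        ⟨h.mem_Z2 (hR.lt.le hx) hx' ha.1 (h1.le ⟨h.comm_mem ha.1 (hR.lt.le hx),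
          comm_mem_of_normalizer ha.2.2 hx⟩), ha.1⟩
    have h4 := relIndex_mul_relIndex _ _ _ hR.center_le (le_normalizerIn hR.lt.le)
    rw [← relIndex_mul_relIndex (centralizerIn S S) (A ⊓ normalizerIn S P) _
      (h3 ▸ le_inf center_le_Z2 h.center_le) inf_le_right, inf_relIndex_right, h2.index,
      h2.relIndex_eq h.pg hF, h.relIndex_eq (H90.normalizerIn_le S P) (le_normalizerIn hR.lt.le hx) hx',
      ← h3] at h4
    exact (Nat.eq_of_mul_eq_mul_right hp.out.pos h4).symm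
  · obtain ⟨-, h1, h2, -⟩ := h.of_not_comm hR hx hx' hc
    rwa [inf_eq_left.2 (h1.ge.trans inf_le_left)]

omit hp [Finite S] in
theorem ai_of (hS : IsPGroup p S) (hna : ¬ IsMulCommutative S)
    (hA : A ≤ S ∧ IsMulCommutative A ∧ (A.subgroupOf S).index = p) : AI p S A :=
  ⟨hS, hA.1, fun a ha b hb => le_centralizer_iff_isMulCommutative.2 hA.2.1 hb a ha, hA.2.2,
    mt le_centralizer_iff_isMulCommutative.1 hna⟩

theorem AI.Z2_le (h : AI p S A) (hF : F.IsSaturated p) (hR : Rad F p S P) (hne : P ≠ A)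
    (hu : ∀ B ≤ S, IsMulCommutative B → (B.subgroupOf S).index = p → B = A) : Z2 S ≤ A := by
  obtain ⟨x, hx, hx'⟩ := h.exists_mem_not_mem hR hne
  by_cases hc : P ≤ centralizer (P : Set Ω)
  · refine fun b hb => by_contra fun hb' => hne (hu P hR.lt.le
      (le_centralizer_iff_isMulCommutative.1 hc) ?_)
    have h1 := h.card_inf.symm.trans (h.card_inf_eq hF hR hne)
    have h2 := relIndex_mul_relIndex _ _ _ hR.center_le hR.lt.le
    rw [inf_eq_right.2 fun a ha => h.mem_Z2 (H93.mem_Z2.1 hb).1 hb' ha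
      (comm_mem_comm ((H93.mem_Z2.1 hb).2 a (h.le ha)))] at h1
    rw [← relIndex_mul_relIndex _ _ _ h.center_le h.le, h1, h.index, (h.ht hR hx hx' hc).2.index] at h2
    exact Nat.eq_of_mul_eq_mul_left hp.out.pos h2
  · exact (h.of_not_comm hR hx hx' hc).2.1.ge.trans inf_le_left

theorem AI.pow_le_card (h : AI p S A) (hc : Nat.card (centralizerIn S S ⊓ ⁅S, S⁆ : Subgroup Ω) = p)
    {k j : ℕ} (hi : (centralizerIn S S).relIndex S = p ^ (k + j + 1)) :
    p ^ j ≤ Nat.card (S.lowerCentralSeries (k + 1)) := by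
  have h1 := h.card_der_le k
  have h2 := H1.card_mul_relIndex_of_le h.center_le
  have h3 := relIndex_mul_relIndex _ _ _ h.center_le h.le
  rw [h.card_eq, Nat.mul_right_inj Nat.card_pos.ne'] at h2
  rw [h2, h.index, hi, pow_succ, Nat.mul_left_inj hp.out.ne_zero] at h3
  rw [h3, hc, pow_add] at h1
  exact Nat.le_of_mul_le_mul_left h1 (pow_pos hp.out.pos k)

end H93
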