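import Mathlib
import Cfsg.Agent.Base
import Cfsg.Agent.Lib.Fusion.AbIdxF
import Cfsg.Agent.Lib.Fusion.GenExtra

/-!
# Essential subgroups `Z(S)⟨x⟩`
-/

set_option autoImplicit false

namespace H93

open Cfsg Cfsg.FusionSystem H90 Subgroup
open scoped commutatorElement

variable {p : ℕ} {Ω : Type*} [Group Ω] {S A P : Subgroup Ω} {x y z g : Ω} {σ δ δ' : Equiv.Perm Ω}
  {F : FusionSystem S}

theorem iso_mem_der (h : Iso F P P σ) (hx : x ∈ ⁅P, P⁆) : σ x ∈ ⁅P, P⁆ :=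
  HomOn.mem_of_closure (h.homOn.mono (commutator_le_self P)) (by
    rintro _ ⟨a, ha, b, hb, rfl⟩
    exact h.homOn.commutator ha hb ▸ commutator_mem_commutator (h.mem ha) (h.mem hb)) x hx

omit [Group Ω] in
theorem perm_apply_inv (σ : Equiv.Perm Ω) (x : Ω) : σ (σ⁻¹ x) = x := σ.apply_symm_apply x

theorem center_comm (hx : x ∈ centralizerIn S S) (hy : y ∈ S) : x * y = y * x := (hx.2 y hy).symm

/-- `δ` inverts `Z(S) ∩ S'` and centralizes `Z(S)` modulo it. -/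
structure Neg (F : FusionSystem S) (δ : Equiv.Perm Ω) : Prop where
  iso : Iso F (centralizerIn S S) (centralizerIn S S) δ
  mem : ∀ z ∈ centralizerIn S S, z⁻¹ * δ z ∈ ⁅S, S⁆
  inv : ∀ z ∈ centralizerIn S S, z ∈ ⁅S, S⁆ → δ z = z⁻¹

variable [hp : Fact p.Prime]

theorem le_zpowers_of_card {U : Subgroup Ω} (hc : Nat.card U = p) (hz : z ∈ U) (h1 : z ≠ 1) :
    U ≤ zpowers z :=
  haveI : Finite U := Nat.finite_of_card_ne_zero (hc ▸ hp.out.ne_zero)
  (H90.eq_of_le_of_card_le (zpowers_le.2 hz) (by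
    rw [hc, Nat.card_zpowers, orderOf_eq_prime (orderOf_dvd_iff_pow_eq_one.1
      (hc ▸ H1.orderOf_dvd_card_of_mem hz)) h1])).ge

theorem exists_ne_one_of_card {U : Subgroup Ω} (hc : Nat.card U = p) : ∃ z ∈ U, z ≠ 1 :=
  (bot_or_exists_ne_one U).resolve_left fun e => hp.out.ne_one (by rw [← hc, e, card_bot])

variable [Finite S] (hS : IsPGroup p S) (hF : F.IsSaturated p)
include hS hF

theorem exists_ext_center (h : Iso F (centralizerIn S S) (centralizerIn S S) σ) :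
    ∃ γ, Iso F S S γ ∧ ∀ z ∈ centralizerIn S S, γ z = σ z :=
  have h1 : S ≤ centralizer (centralizerIn S S : Set Ω) := fun _ hs _ hz => center_comm hz hs
  let ⟨τ, hτ, e, _⟩ := h.extend_centralizer (receptive_of_centralized hS hF
    (isFullyCentralized_of_le_centralizer inf_le_left h1))
  ⟨τ, (hτ.mono (le_sup_right.trans' (le_inf le_rfl h1))).iso_top, e⟩

theorem center_iso_mem_der (h : Iso F (centralizerIn S S) (centralizerIn S S) σ)
    (hz : z ∈ centralizerIn S S) (hz' : z ∈ ⁅S, S⁆) : σ z ∈ ⁅S, S⁆ :=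
  let ⟨_, hγ, e⟩ := exists_ext_center hS hF h
  e z hz ▸ iso_mem_der hγ hz'

theorem eq_of_center_iso (h : Iso F (centralizerIn S S) (centralizerIn S S) σ)
    (h1 : ∀ z ∈ centralizerIn S S, z⁻¹ * σ z ∈ ⁅S, S⁆)
    (h2 : ∀ z ∈ centralizerIn S S, z ∈ ⁅S, S⁆ → σ z = z) (hz : z ∈ centralizerIn S S) : σ z = z :=
  congrArg Subtype.val (apply_eq_of_mem_center (pCoreOf_le_autInducedBy hS hF
    (isFullyNormalized_of_le_normalizer inf_le_left (le_normalizer_center S))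
    (mem_pCoreOf_of_two_step (hS.to_le (H90.centralizerIn_le S S)) (U := ⁅S, S⁆.subgroupOf _)
      (fun α hα x hx => by
        simpa [mem_subgroupOf] using center_iso_mem_der hS hF (iso_extA (H90.centralizerIn_le S S) hα) x.2 hx)
      h.equiv_mem (fun x hx => Subtype.ext (h2 x x.2 hx)) fun x => h1 x x.2)) (x := ⟨z, hz⟩) hz)

theorem Neg.eq (h : Neg F δ) (h' : Neg F δ') (hz : z ∈ centralizerIn S S) : δ z = δ' z := by
  rw [← Equiv.Perm.inv_eq_iff_eq]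
  refine eq_of_center_iso hS hF (h.iso.trans h'.iso.symm) (fun z hz => ?_) (fun z hz hz' => ?_) hz
  · simpa [mul_assoc] using mul_mem (h.mem z hz) (inv_mem (h'.mem _ (h'.iso.inv_mem (h.iso.mem hz))))
  · rw [Equiv.Perm.mul_apply, Equiv.Perm.inv_eq_iff_eq, h.inv z hz hz', h'.inv z hz hz']

theorem Neg.conj (h : Neg F δ) (hσ : Iso F (centralizerIn S S) (centralizerIn S S) σ) :
    Neg F (σ * δ * σ⁻¹) := by
  refine ⟨hσ.conj h.iso, fun z hz => ?_, fun z hz hz' => ?_⟩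
  · have h1 := hσ.inv_mem hz
    have h2 := center_iso_mem_der hS hF hσ (mul_mem (inv_mem h1) (h.iso.mem h1)) (h.mem _ h1)
    rwa [hσ.homOn.mul (inv_mem h1) (h.iso.mem h1), hσ.homOn.inv h1, perm_apply_inv] at h2
  · rw [Equiv.Perm.mul_apply, Equiv.Perm.mul_apply, h.inv _ (hσ.inv_mem hz)
      (center_iso_mem_der hS hF hσ.symm hz hz'), hσ.homOn.inv (hσ.inv_mem hz), perm_apply_inv]

namespace HT

variable (h : HT F p P) (hσ : Iso F P P σ)
include h hσ

omit hS hF hp in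
theorem iso_center (h1 : ∀ z ∈ centralizerIn S S, σ z ∈ centralizerIn S S) :
    Iso F (centralizerIn S S) (centralizerIn S S) σ := (hσ.1.mono h.rad.center_le).iso_self h1

theorem exists_neg_trans (hn : ¬ ∀ z ∈ centralizerIn S S, σ z ∈ centralizerIn S S) :
    (∃ u ∈ centralizerIn S S, u ∈ ⁅S, S⁆ ∧ σ u ∉ centralizerIn S S) ∧
    (∃ δ, Iso F P P δ ∧ (∀ y ∈ centralizerIn S S, σ y ∈ centralizerIn S S → δ y = y) ∧
      ∀ x ∈ P, x * δ x ∈ centralizerIn S S ∧ σ (x * δ x) ∈ centralizerIn S S) ∧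
    ∀ x ∈ P, ∀ y ∈ P, σ x ∉ centralizerIn S S → y ∉ centralizerIn S S →
      ∃ κ, Iso F P P κ ∧ (∀ y ∈ centralizerIn S S, σ y ∈ centralizerIn S S → κ y = y) ∧
        σ (y⁻¹ * κ x) ∈ centralizerIn S S := by
  push Not at hn
  obtain ⟨z, hz, hz'⟩ := hn
  obtain ⟨g, hg, hg'⟩ := h.rad.exists_mem hS
  obtain ⟨K, h1, Y, -, -, h2, h3, h4⟩ := h.exists_r2 hS hF hσ hz hz' hg hg'
  have h5 : ∀ κ ∈ K, ∀ y ∈ centralizerIn S S, σ y ∈ centralizerIn S S → extA P κ y = y :=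
    fun κ hκ y hy hy' => (extA_of_mem κ (h.rad.center_le hy)).trans
      (congrArg Subtype.val (h3 κ hκ _ ((h2 _).2 ⟨hy, hy'⟩)))
  refine ⟨?_, ?_, fun x hx y hy hx' hy' => ?_⟩
  · obtain ⟨x, hx⟩ := h4.ne
    have h6 : (x : Ω)⁻¹ * (g * x * g⁻¹) ∈ ⁅S, S⁆ := by
      simpa [commutatorElement_def, mul_assoc] using
        commutator_mem_commutator (inv_mem (h.rad.lt.le x.2)) hg.1
    have h7 := h.der ⟨h6, (x⁻¹ * conjAut P g hg.2 x).2⟩
    exact ⟨_, h7, h6, fun e => hx ((h2 _).2 ⟨h7, e⟩)⟩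
  · obtain ⟨δ, hδ, h6⟩ := h4.neg
    exact ⟨_, iso_extA h.rad.lt.le (h1 hδ), h5 δ hδ, fun x hx =>
      extA_of_mem δ hx ▸ (h2 _).1 (h6 ⟨x, hx⟩)⟩
  · obtain ⟨κ, hκ, h6⟩ := h4.trans ⟨x, hx⟩ (fun e => hx' ((h2 _).1 e).2) ⟨y, hy⟩
      fun e => hy' ((h2 _).1 e).1
    exact ⟨_, iso_extA h.rad.lt.le (h1 hκ), h5 κ hκ, extA_of_mem κ hx ▸ ((h2 _).1 h6).2⟩

omit hS hF in
theorem exists_zpow (hx : x ∈ P) (hx' : σ x ∉ centralizerIn S S) (hy : y ∈ P) :
    ∃ k : ℤ, σ (y * x ^ k) ∈ centralizerIn S S := by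
  obtain ⟨w, hw, k, e⟩ := (H5.mem_sup_zpowers_iff (le_normalizer_center S (h.rad.lt.le
    (hσ.mem hx)))).1 ((sup_eq_of_relIndex h.index h.rad.center_le (hσ.mem hx) hx').ge (hσ.mem hy))
  exact ⟨-k, by rwa [hσ.homOn.mul hy (zpow_mem hx _), hσ.homOn.zpow hx, e, zpow_neg,
    mul_inv_cancel_right]⟩

variable (hc : Nat.card (centralizerIn S S ⊓ ⁅S, S⁆ : Subgroup Ω) = p)
include hc

theorem mem_center (hz : z ∈ centralizerIn S S ⊓ ⁅S, S⁆) (h1 : z ≠ 1)
    (h2 : σ z ∈ centralizerIn S S) : ∀ z ∈ centralizerIn S S, σ z ∈ centralizerIn S S :=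
  by_contra fun hn => by
    obtain ⟨u, hu, hu', h3⟩ := (h.exists_neg_trans hS hF hσ hn).1
    obtain ⟨k, rfl⟩ := le_zpowers_of_card hc hz h1 ⟨hu, hu'⟩
    exact h3 (hσ.homOn.zpow (h.rad.center_le hz.1) k ▸ zpow_mem h2 k)

theorem exists_ext : ∃ γ, Iso F S S γ ∧
    ∀ y ∈ centralizerIn S S, σ y ∈ centralizerIn S S → γ y = σ y := by
  by_cases hn : ∀ z ∈ centralizerIn S S, σ z ∈ centralizerIn S S
  · obtain ⟨γ, hγ, e⟩ := exists_ext_center hS hF (h.iso_center hσ hn)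
    exact ⟨γ, hγ, fun y hy _ => e y hy⟩
  obtain ⟨z, hz, h1⟩ := exists_ne_one_of_card hc
  have h2 := h.rad.center_le hz.1
  obtain ⟨κ, hκ, h3, h4⟩ := (h.exists_neg_trans hS hF hσ hn).2.2 z h2 _ (hσ.inv_mem h2)
    (fun e => hn (h.mem_center hS hF hσ hc hz h1 e)) fun e => hn fun _ =>
      (h.iso_center hσ.symm (h.mem_center hS hF hσ.symm hc hz h1 e)).inv_mem
  rw [hσ.homOn.mul (inv_mem (hσ.inv_mem h2)) (hκ.mem h2), hσ.homOn.inv (hσ.inv_mem h2),
    perm_apply_inv, mul_mem_cancel_left ((centralizerIn S S).inv_mem hz.1)] at h4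
  obtain ⟨γ, hγ, e⟩ := exists_ext_center hS hF
    (h.iso_center (hκ.trans hσ) (h.mem_center hS hF (hκ.trans hσ) hc hz h1 h4))
  exact ⟨γ, hγ, fun y hy hy' => by rw [e y hy, Equiv.Perm.mul_apply, h3 y hy hy']⟩

theorem exists_neg (h2 : p ≠ 2) (hn : ¬ ∀ z ∈ centralizerIn S S, σ z ∈ centralizerIn S S) :
    ∃ δ, Neg F δ ∧ ∀ y ∈ centralizerIn S S, δ y = y ↔ σ y ∈ centralizerIn S S := by
  obtain ⟨⟨u, hu, hu', h1⟩, ⟨δ, hδ, h3, h4⟩, -⟩ := h.exists_neg_trans hS hF hσ hn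
  have h5 := h.iso_center hδ fun z hz => (mul_mem_cancel_left hz).1 (h4 z (h.rad.center_le hz)).1
  refine ⟨δ, ⟨h5, fun z hz => ?_, fun z hz hz' => ?_⟩, fun y hy => ⟨fun e => ?_, h3 y hy⟩⟩
  · obtain ⟨k, hk⟩ := h.exists_zpow hσ (h.rad.center_le hu) h1 (h.rad.center_le hz)
    have h6 := h3 _ (mul_mem hz (zpow_mem hu k)) hk
    rw [h5.homOn.mul hz (zpow_mem hu k), ← eq_mul_inv_iff_mul_eq] at h6
    simpa [h6, mul_assoc] using mul_mem (zpow_mem hu' k)
      (inv_mem (center_iso_mem_der hS hF h5 (zpow_mem hu k) (zpow_mem hu' k)))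
  · refine eq_inv_of_mul_eq_one_right (by_contra fun e => hn ?_)
    exact h.mem_center hS hF hσ hc ⟨mul_mem hz (h5.mem hz),
      mul_mem hz' (center_iso_mem_der hS hF h5 hz hz')⟩ e (h4 z (h.rad.center_le hz)).2
  · have hy' := h.rad.center_le hy
    have := finite_of_le h.rad.lt.le
    have h6 := (h4 y hy').2
    have h7 := pow_mem_of_relIndex (hS.to_le h.rad.lt.le) h.index (hσ.mem hy')
    obtain ⟨k, hk⟩ := hp.out.odd_of_ne_two h2
    rw [e, hσ.homOn.mul hy' hy', ← sq] at h6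
    rwa [hk, pow_succ, pow_mul, mul_mem_cancel_left (pow_mem h6 k)] at h7

end HT

theorem eq_bot_of_inv (hcore : F.core = ⊥) {Y : Subgroup Ω} (hY : Y ≤ centralizerIn S S)
    (h : ∀ P, P = S ∨ F.IsEssential p P → ∀ σ, Iso F P P σ → ∀ y ∈ Y, σ y ∈ Y) : Y = ⊥ :=
  eq_bot_iff.2 ((H91.IsNormal.le_core' (isNormal_of_essential hS hF fun P hP => ⟨hY.trans
    (hP.elim (fun e => e ▸ inf_le_left) fun e => (rad_of_isEssential hS hF e).center_le),
      h P hP⟩)).trans hcore.le)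

theorem center_le_der_of_odd (h2 : p ≠ 2) (hcore : F.core = ⊥)
    (hc : Nat.card (centralizerIn S S ⊓ ⁅S, S⁆ : Subgroup Ω) = p)
    (h : ∀ P, F.IsEssential p P → HT F p P ∨ centralizerIn P P = centralizerIn S S) :
    (∃ P, F.IsEssential p P ∧ HT F p P) ∧ centralizerIn S S ≤ ⁅S, S⁆ := by
  have h1 : ∀ P, P = S ∨ F.IsEssential p P → HT F p P ∨
      ∀ σ, Iso F P P σ → Iso F (centralizerIn S S) (centralizerIn S S) σ := fun P hP =>
    (hP.elim (fun e => Or.inr (by rw [e])) (h P)).imp_right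
      fun (e : centralizerIn P P = centralizerIn S S) σ hσ => e ▸ (hσ.1.mono inf_le_left).iso_self fun _ => iso_mem_center hσ
  obtain ⟨P, hP, hP'⟩ : ∃ P, F.IsEssential p P ∧ HT F p P := by
    by_contra! hn
    obtain ⟨z, hz, h3⟩ := exists_ne_one_of_card hc
    exact h3 ((eq_bot_of_inv hS hF hcore le_rfl fun P hP σ hσ _ => hP.elim
      (fun e => by subst e; exact iso_mem_center hσ)
      fun e => ((h1 P hP).resolve_left (hn P e) σ hσ).mem).le hz.1)
  refine ⟨⟨P, hP, hP'⟩, fun z hz => ?_⟩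
  obtain ⟨σ, hσ, hn⟩ := hP'.exists_move hS
  replace hn : ¬ ∀ z ∈ centralizerIn S S, σ z ∈ centralizerIn S S := by simpa using hn
  obtain ⟨δ, hδ, h3⟩ := hP'.exists_neg hS hF hσ hc h2 hn
  have h4 : ∀ y, y ∈ mov ⊥ hδ.iso.homOn le_normalizer_of_normal ↔
      y ∈ centralizerIn S S ∧ δ y = y := fun y => and_congr_right fun _ => mul_inv_eq_one
  have h5 : ∀ β, Iso F (centralizerIn S S) (centralizerIn S S) β → ∀ y ∈ centralizerIn S S,
      δ y = y → β y ∈ centralizerIn S S ∧ δ (β y) = β y := fun β hβ y hy e =>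
    ⟨hβ.mem hy, by simp [hδ.eq hS hF (hδ.conj hS hF hβ) (hβ.mem hy), e]⟩
  have h6 := eq_bot_of_inv hS hF hcore (fun y hy => ((h4 y).1 hy).1) fun R hR β hβ y hy => by
    obtain ⟨hy, e⟩ := (h4 y).1 hy
    refine (h4 _).2 ((h1 R hR).elim (fun hR' => ?_) fun hR' => h5 β (hR' β hβ) y hy e)
    obtain ⟨γ, hγ, h6⟩ := hR'.exists_ext hS hF hβ hc
    rw [← h6 y hy (by_contra fun e' => by
      obtain ⟨δ', hδ', h7⟩ := hR'.exists_neg hS hF hβ hc h2 fun h8 => e' (h8 y hy)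
      exact e' ((h7 y hy).1 ((hδ'.eq hS hF hδ hy).trans e)))]
    exact h5 γ ((hγ.1.mono inf_le_left).iso_self fun _ => iso_mem_center hγ) y hy e
  obtain ⟨u, hu, hu', h7⟩ := (hP'.exists_neg_trans hS hF hσ hn).1
  obtain ⟨k, hk⟩ := hP'.exists_zpow hσ (hP'.rad.center_le hu) h7 (hP'.rad.center_le hz)
  have h8 := mul_mem hz (zpow_mem hu k)
  exact eq_inv_of_mul_eq_one_left (mem_bot.1 (h6.le ((h4 _).2 ⟨h8, (h3 _ h8).2 hk⟩))) ▸
    inv_mem (zpow_mem hu' k)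

omit hF in
theorem le_relIndex {H K : Subgroup Ω} (h : H < K) (hK : K ≤ S) : p ≤ H.relIndex K := by
  have := finite_of_le hK
  obtain ⟨n, hn⟩ := (hS.to_le hK).index (H.subgroupOf K)
  exact (Nat.le_self_pow (fun e => h.not_ge (relIndex_eq_one.1 (by
    rwa [e, pow_zero] at hn))) p).trans hn.ge

omit hS hF hp [Finite S] in
theorem le_normalizer_of_der_le (h1 : ⁅S, S⁆ ≤ P) (h2 : P ≤ S) : S ≤ normalizer (P : Set Ω) :=
  le_normalizer_iff.2 fun s hs x hx => by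
    simpa [commutatorElement_def] using P.mul_mem (h1 (commutator_mem_commutator hs (h2 hx))) hx

omit hS hF hp [Finite S] in
theorem mul_mem_iff_of_relIndex (h : A.relIndex P = 2) (hx : x ∈ P) (hy : y ∈ P) :
    x * y ∈ A ↔ (x ∈ A ↔ y ∈ A) := mul_mem_iff_of_index_two h (a := ⟨x, hx⟩) (b := ⟨y, hy⟩)

omit hS hF

/-- `S` is a nonabelian `p`-group whose centre has index `p ^ 2`. -/
structure CI (p : ℕ) (S : Subgroup Ω) : Prop where
  pg : IsPGroup p S
  na : ¬ S ≤ centralizer (S : Set Ω)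
  index : (centralizerIn S S).relIndex S ≤ p ^ 2

/-- `P` is a proper centric radical subgroup. -/
structure CR (F : FusionSystem S) (p : ℕ) (P : Subgroup Ω) : Prop where
  lt : P < S
  cent : F.IsCentric P
  rad : F.IsRadical p P

theorem cr_of_isEssential (hS : IsPGroup p S) (hF : F.IsSaturated p) (h : F.IsEssential p P) :
    CR F p P := ⟨lt_of_isEssential hS hF h, h.1, isRadical_of_isEssential hS h⟩

omit hp in
theorem CR.conj (h : CR F p P) (hσ : Iso F S S σ) : CR F p (im σ P) :=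
  have h1 := hσ.restrict h.lt.le
  ⟨lt_of_le_of_ne h1.le' fun e => (H90.card_lt_of_lt h.lt).ne (h1.card_eq.trans (by rw [e])),
    h1.isCentric h.cent, h1.isRadical h.rad⟩

namespace CI

variable (h : CI p S)
include h

theorem ai (hx : x ∈ S) (hx' : x ∉ centralizerIn S S) : AI p S (centralizerIn S S ⊔ zpowers x) ∧
    (centralizerIn S S).relIndex (centralizerIn S S ⊔ zpowers x) = p := by
  have h1 : centralizerIn S S ⊔ zpowers x ≤ S := sup_le inf_le_left (zpowers_le.2 hx)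
  have h2 := le_centralizer_iff_isMulCommutative.2 (H5.isMulCommutative_sup_zpowers
    (le_centralizer_iff_isMulCommutative.1 fun _ hz _ hw => center_comm hw hz.1)
    (fun _ hz => center_comm hz hx : x ∈ centralizer (centralizerIn S S : Set Ω)))
  have h3 := le_relIndex h.pg (lt_of_le_of_ne h1 fun e => h.na (by rwa [e] at h2)) le_rfl
  have h4 := le_relIndex h.pg (lt_of_le_of_ne (le_sup_left : centralizerIn S S ≤ _) fun e =>
    hx' (e.ge (mem_sup_right (mem_zpowers x)))) h1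
  have h5 := (relIndex_mul_relIndex _ _ _ le_sup_left h1).le.trans h.index
  have := hp.out.pos
  exact ⟨⟨h.pg, h1, fun a ha b hb => h2 hb a ha, by nlinarith, h.na⟩, by nlinarith⟩

theorem der_le : ⁅S, S⁆ ≤ centralizerIn S S := fun a ha => by
  obtain ⟨x, hx, hx'⟩ := SetLike.not_le_iff_exists.1 (mt (·.trans inf_le_right) h.na)
  have h1 := (h.ai hx hx').1
  obtain ⟨y, hy, hy'⟩ := h1.exists_not_mem
  have h2 := (h.ai hy fun e => hy' (mem_sup_left e)).1
  exact h1.mem_center hy hy' (h1.der_le ha)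
    (h2.comm_eq_one (h2.der_le ha) (mem_sup_right (mem_zpowers y)))

theorem eq_sup (h1 : centralizerIn S S ≤ P) (h2 : P < S) (hx : x ∈ P) (hx' : x ∉ centralizerIn S S) :
    centralizerIn S S ⊔ zpowers x = P :=
  have h3 := (h.ai (h2.le hx) hx').1
  (sup_le h1 (zpowers_le.2 hx)).eq_of_not_lt fun e => h2.ne (eq_of_lt_of_card h.pg
    (by rw [← h3.index, H1.card_mul_relIndex_of_le h3.le]) e h2.le)

theorem ht (hP : CR F p P) : HT F p P ∧ AI p S P := by
  have h1 := (centralizerIn_anti S hP.lt.le).trans (isCentric_self_le hP.cent)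
  have hR : Rad F p S P := ⟨stronglyClosed_top F, hP.lt, isFullyNormalized_of_le_normalizer hP.lt.le
    (le_normalizer_of_der_le (h.der_le.trans h1) hP.lt.le), isCentric_self_le hP.cent,
    fun _ hg => mem_of_conjAut_mem_pCoreOf hP.cent hP.rad hg⟩
  obtain ⟨x, hx, hx'⟩ := SetLike.not_le_iff_exists.1 fun e : P ≤ centralizerIn S S =>
    hP.lt.not_ge fun s hs => hR.cent ⟨hs, fun _ hz => center_comm (e hz) hs⟩
  obtain ⟨h2, h3⟩ := h.ai (hP.lt.le hx) hx'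
  rw [h.eq_sup h1 hP.lt hx hx'] at h2 h3
  exact ⟨⟨hR, fun a ha b hb => h2.comm b hb a ha, h3, inf_le_left.trans h.der_le⟩, h2⟩

theorem card_der : Nat.card (centralizerIn S S ⊓ ⁅S, S⁆ : Subgroup Ω) = p := by
  obtain ⟨x, hx, hx'⟩ := SetLike.not_le_iff_exists.1 (mt (·.trans inf_le_right) h.na)
  obtain ⟨h1, h2⟩ := h.ai hx hx'
  have h3 := h1.card_eq
  rw [← H1.card_mul_relIndex_of_le le_sup_left, h2, Nat.mul_right_inj Nat.card_pos.ne'] at h3
  rw [inf_eq_right.2 h.der_le, h3]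

theorem index_eq : (centralizerIn S S).relIndex S = p ^ 2 := by
  obtain ⟨x, hx, hx'⟩ := SetLike.not_le_iff_exists.1 (mt (·.trans inf_le_right) h.na)
  obtain ⟨h1, h2⟩ := h.ai hx hx'
  rw [← relIndex_mul_relIndex _ _ _ le_sup_left h1.le, h2, h1.index, sq]

theorem pow_mem (hx : x ∈ S) : x ^ p ∈ centralizerIn S S := by
  by_cases hx' : x ∈ centralizerIn S S
  · exact Subgroup.pow_mem _ hx' p
  obtain ⟨h1, h2⟩ := h.ai hx hx'
  have := finite_of_le h1.le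
  exact pow_mem_of_relIndex (h.pg.to_le h1.le) h2 (mem_sup_right (mem_zpowers x))

theorem center_le_of_odd (hF : F.IsSaturated p) (h2 : p ≠ 2) (hcore : F.core = ⊥) :
    centralizerIn S S ≤ ⁅S, S⁆ :=
  (center_le_der_of_odd h.pg hF h2 hcore h.card_der fun _ hP =>
    .inl (h.ht (cr_of_isEssential h.pg hF hP)).1).2

end CI

end H93
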