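import Mathlib
import Cfsg.Agent.Base
import Cfsg.Agent.Lib.Fusion.NormalSub
import Cfsg.Agent.Lib.Fusion.Product
import Cfsg.Agent.Lib.Fusion.Pearl

/-!
# Fusion systems on Heisenberg-like groups: nontrivial core implies constrained
-/

set_option autoImplicit false

namespace H90

open Cfsg Cfsg.FusionSystem H91
open H68 (SylowIn)

variable {Ω : Type*} [Group Ω] {S : Subgroup Ω} {F : FusionSystem S} {p : ℕ}

/-- `S` looks like the group of upper unitriangular `3 × 3` matrices with centre `Z`. -/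
structure Heis (S Z : Subgroup Ω) : Prop where
  le : Z ≤ S
  cent : ∀ z ∈ Z, ∀ s ∈ S, s * z = z * s
  comm : ∀ x ∈ S, ∀ s ∈ S, x⁻¹ * (s * x * s⁻¹) ∈ Z
  ab : ∀ x ∈ S, x ∉ Z → ∀ a ∈ S, ∀ b ∈ S, x * a = a * x → x * b = b * x → a * b = b * a
  surj : ∀ x ∈ S, x ∉ Z → ∀ z ∈ Z, ∃ s ∈ S, s * x * s⁻¹ = x * z

theorem exists_max_of_bdd {α : Type*} {s : α → Prop} {f : α → ℕ} {N : ℕ}
    (hb : ∀ a, s a → f a ≤ N) (hne : ∃ a, s a) : ∃ a, s a ∧ ∀ b, s b → f b ≤ f a := by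
  obtain ⟨a, ha⟩ := hne
  have hbd : BddAbove (f '' {a | s a}) := ⟨N, by rintro _ ⟨b, hb', rfl⟩; exact hb b hb'⟩
  obtain ⟨c, hc, e⟩ := Nat.sSup_mem (s := f '' {a | s a}) ⟨_, a, ha, rfl⟩ hbd
  exact ⟨c, hc, fun b hb' => e ▸ le_csSup hbd ⟨b, hb', rfl⟩⟩

/-- Automorphisms trivial on `Z` and on `E / Z`. -/
def stab2 (E Z : Subgroup Ω) : Subgroup (MulAut E) where
  carrier := {α | (∀ x ∈ E, x ∈ Z → extA E α x = x) ∧ ∀ x ∈ E, x⁻¹ * extA E α x ∈ Z}
  one_mem' := ⟨fun x _ _ => by simp, fun x _ => by simp⟩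
  mul_mem' := by
    rintro α β ⟨a1, a2⟩ ⟨b1, b2⟩
    refine ⟨fun x hx hz => by rw [extA_mul_apply, b1 x hx hz, a1 x hx hz], fun x hx => ?_⟩
    have := mul_mem (b2 x hx) (a2 _ (extA_mem β hx))
    rw [extA_mul_apply]
    simpa [mul_assoc] using this
  inv_mem' := by
    rintro α ⟨a1, a2⟩
    refine ⟨fun x hx hz => ?_, fun x hx => ?_⟩
    · rw [extA_inv_apply, Equiv.Perm.inv_eq_iff_eq, a1 x hx hz]
    · have := inv_mem (a2 _ (extA_inv_mem α hx))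
      rw [extA_inv_apply]
      simpa using this

theorem mem_stab2 {E Z : Subgroup Ω} {α : MulAut E} : α ∈ stab2 E Z ↔
    (∀ x ∈ E, x ∈ Z → extA E α x = x) ∧ ∀ x ∈ E, x⁻¹ * extA E α x ∈ Z := Iff.rfl

theorem isPGroup_stab2 {E : Subgroup Ω} [Finite E] [Fact p.Prime] (hE : IsPGroup p E)
    (Z : Subgroup Ω) : IsPGroup p (stab2 E Z) := by
  obtain ⟨n, hn⟩ := IsPGroup.iff_card.1 hE
  rintro ⟨α, h1, h2⟩
  refine ⟨n, Subtype.ext (extA_eq_one_iff.2 fun x hx => ?_)⟩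
  have hd : x⁻¹ * extA E α x ∈ E := mul_mem (inv_mem hx) (extA_mem α hx)
  have key : ∀ k : ℕ, extA E (α ^ k) x = x * (x⁻¹ * extA E α x) ^ k := by
    intro k
    induction k with
    | zero => simp
    | succ k ih =>
      rw [pow_succ', extA_mul_apply, ih, (homOn_extA α).mul hx (pow_mem hd k),
        h1 _ (pow_mem hd k) (pow_mem (h2 x hx) k), pow_succ']
      simp [mul_assoc]
  have h3 : (x⁻¹ * extA E α x) ^ p ^ n = 1 := by
    have := pow_card_eq_one' (G := E) (x := ⟨_, hd⟩)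
    rw [hn] at this
    exact congrArg Subtype.val this
  change extA E (α ^ p ^ n) x = x
  rw [key, h3, mul_one]

theorem conj_mem_stab2 {E Z : Subgroup Ω} {ρ α : MulAut E}
    (hρ : ∀ x ∈ E, extA E ρ x ∈ Z ↔ x ∈ Z) (hα : α ∈ stab2 E Z) : ρ * α * ρ⁻¹ ∈ stab2 E Z := by
  refine ⟨fun x hx hz => ?_, fun x hx => ?_⟩
  · have h1 := extA_inv_mem ρ hx
    rw [extA_mul_apply, extA_mul_apply, extA_inv_apply, hα.1 _ h1 ((hρ _ h1).1 (by simpa using hz))]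
    simp
  · have h1 := extA_inv_mem ρ hx
    have h2 := hα.2 _ h1
    have h3 := (hρ _ (mul_mem (inv_mem h1) (extA_mem α h1))).2 h2
    rw [(homOn_extA ρ).mul (inv_mem h1) (extA_mem α h1), (homOn_extA ρ).inv h1] at h3
    rw [extA_mul_apply, extA_mul_apply, extA_inv_apply]
    simpa using h3

variable [Finite S] [Fact p.Prime]

/-- A `p`-element of `Aut_F(E)` stabilising `Z` is induced by `S`, when `Aut_S(E)` is trivial on `Z`
and `E / Z`. -/
theorem mem_autInducedBy_of_stab2 (hS : IsPGroup p S) (hF : F.IsSaturated p) {E Z : Subgroup Ω}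
    (hE : F.IsFullyNormalized E) (hT : autInducedBy S E ≤ stab2 E Z) {ρ : MulAut E}
    (hρA : ρ ∈ F.autGroup E) (hρp : ∃ k, ρ ^ p ^ k = 1)
    (hρ : ∀ x ∈ E, extA E ρ x ∈ Z ↔ x ∈ Z) : ρ ∈ autInducedBy S E := by
  have := finite_of_le hE.1
  have := finite_mulAut_of_le hE.1
  have hsyl := sylowIn_of_normalized hS hF hE
  have h1 : stab2 E Z ⊓ F.autGroup E = autInducedBy S E :=
    hsyl.2.2 _ ((isPGroup_stab2 (hS.to_le hE.1) Z).to_inf_left) (le_inf hT hsyl.1) inf_le_right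
  have hn : ρ ∈ Subgroup.normalizer (autInducedBy S E : Set (MulAut E)) := by
    refine mem_normalizer_of_conj_mem fun α hα => ?_
    rw [← h1] at hα ⊢
    exact ⟨conj_mem_stab2 hρ hα.1, (F.autGroup E).mul_mem ((F.autGroup E).mul_mem hρA hα.2)
      ((F.autGroup E).inv_mem hρA)⟩
  have hp : IsPGroup p (Subgroup.zpowers ρ) := by
    obtain ⟨k, hk⟩ := hρp
    rintro ⟨_, j, rfl⟩
    refine ⟨k, Subtype.ext ?_⟩
    change (ρ ^ j) ^ p ^ k = 1
    rw [← zpow_natCast, ← zpow_mul, mul_comm, zpow_mul, zpow_natCast, hk, one_zpow]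
  have h2 : IsPGroup p (Subgroup.zpowers ρ ⊔ autInducedBy S E : Subgroup (MulAut E)) :=
    IsPGroup.to_sup_of_normal_right' hp hsyl.2.1 (Subgroup.zpowers_le.2 hn)
  have h3 := hsyl.2.2 _ h2 le_sup_right (sup_le (Subgroup.zpowers_le.2 hρA) hsyl.1)
  rw [← h3]
  exact Subgroup.mem_sup_left (Subgroup.mem_zpowers ρ)

namespace Heis

variable {Z : Subgroup Ω} (h : Heis S Z) (hS : IsPGroup p S) (hF : F.IsSaturated p)
include h

omit [Finite S] [Fact p.Prime] in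
theorem le_of_centric {E : Subgroup Ω} (hE : F.IsCentric E) : Z ≤ E := fun z hz =>
  hE.2 E (isConj_refl F hE.1) ⟨h.le hz, fun x hx => h.cent z hz x (hE.1 hx)⟩

omit [Fact p.Prime] in
theorem le_normalizer {E : Subgroup Ω} (hE : E ≤ S) (hZ : Z ≤ E) :
    S ≤ Subgroup.normalizer (E : Set Ω) := fun s hs =>
  have := finite_of_le hE
  mem_normalizer_of_conj_mem fun x hx => by
    simpa using mul_mem hx (hZ (h.comm x (hE hx) s hs))

include hS hF

theorem exists_move {E : Subgroup Ω} (hE : F.IsEssential p E) :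
    ∃ σ, Iso F E E σ ∧ ∃ x ∈ Z, σ x ∉ Z := by
  by_contra hn
  push Not at hn
  have hcr := centric_radical_of_essential hS hF (Or.inr hE)
  have : S ≤ E := by
    refine le_of_stable hS hcr.1 hcr.2 (fun V W => (V = E ∧ W = Z) ∨ (V = Z ∧ W = ⊥)) ?_ ?_ le_rfl
      (hE.1.1.trans Subgroup.le_normalizer) ?_
    · rintro V W (⟨rfl, rfl⟩ | ⟨rfl, rfl⟩) σ hσ
      · exact ⟨fun x hx _ => hσ.mem hx, fun x _ hx => hn σ hσ x hx⟩
      · exact ⟨fun x _ hx => hn σ hσ x hx, fun x _ hx => by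
          rw [Subgroup.mem_bot.1 hx, hσ.map.map_one]; exact one_mem _⟩
    · intro α _ _ hα x hx
      refine hα E Z (Or.inl ⟨rfl, rfl⟩) (hα Z ⊥ (Or.inr ⟨rfl, rfl⟩) fun y _ hy => ?_) x hx hx
      rw [Subgroup.mem_bot.1 hy, (homOn_extA α).one]
    · rintro g hg V W (⟨rfl, rfl⟩ | ⟨rfl, rfl⟩) x hx hx'
      · exact h.comm x (hE.1.1 hx) g hg
      · rw [h.cent x hx' g hg]; simp
  exact (lt_of_isEssential hS hF hE).not_ge this

theorem ess_comm {E : Subgroup Ω} (hE : F.IsEssential p E) : ∀ a ∈ E, ∀ b ∈ E, a * b = b * a := by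
  obtain ⟨σ, hσ, x, hx, hx'⟩ := h.exists_move hS hF hE
  have hxE := h.le_of_centric hE.1 hx
  have hc : σ x ∈ centralizerIn E E :=
    H93.iso_mem_center hσ ⟨hxE, fun y hy => h.cent x hx y (hE.1.1 hy)⟩
  intro a ha b hb
  exact h.ab _ (hE.1.1 hc.1) hx' a (hE.1.1 ha) b (hE.1.1 hb) (hc.2 a ha).symm (hc.2 b hb).symm

theorem ess_eq {E : Subgroup Ω} (hE : F.IsEssential p E) {x : Ω} (hx : x ∈ E) (hZ : x ∉ Z)
    {s : Ω} (hs : s ∈ S) (e : x * s = s * x) : s ∈ E :=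
  hE.1.2 E (isConj_refl F hE.1.1) ⟨hs, fun y hy => h.ab x (hE.1.1 hx) hZ y (hE.1.1 hy) s hs
    (h.ess_comm hS hF hE x hx y hy) e⟩

theorem not_le_of_inv {E W : Subgroup Ω} (hE : F.IsEssential p E) (hW : W ≠ ⊥)
    (hinv : ∀ σ, Iso F E E σ → ∀ x ∈ W, σ x ∈ W) : ¬ W ≤ Z := by
  intro hWZ
  have hZE := h.le_of_centric hE.1
  have hN := h.le_normalizer hE.1.1 hZE
  have := finite_of_le h.le
  let D : Equiv.Perm Ω → Subgroup Ω := fun σ => Z ⊓ im ⇑σ⁻¹ Z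
  have hD : ∀ σ, Iso F E E σ → ∀ x, x ∈ D σ ↔ x ∈ Z ∧ σ x ∈ Z := fun σ hσ x => by
    change x ∈ Z ∧ x ∈ im ⇑σ⁻¹ Z ↔ _
    rw [(hσ.symm.homOn.mono hZE).mem_im_perm, inv_inv]
  obtain ⟨σ₀, hσ₀, x₀, hx₀, hx₀'⟩ := h.exists_move hS hF hE
  obtain ⟨σ, ⟨hσ, u, hu, hu'⟩, hmax⟩ := exists_max_of_bdd
    (s := fun σ => Iso F E E σ ∧ ∃ x ∈ Z, σ x ∉ Z) (f := fun σ => Nat.card (D σ))
    (N := Nat.card Z) (fun σ _ => card_le_of_le inf_le_left) ⟨σ₀, hσ₀, x₀, hx₀, hx₀'⟩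
  obtain ⟨d, hd, hd1⟩ := (Subgroup.bot_or_exists_ne_one W).resolve_left hW
  have hv := hσ.mem (hZE hu)
  obtain ⟨s, hs, e⟩ := h.surj _ (hE.1.1 hv) hu' d (hWZ hd)
  have hcs := iso_cj F hE.1.1 hs (hN hs)
  have hρ : Iso F E E (σ⁻¹ * cj s * σ) := by
    simpa [mul_assoc] using hσ.symm.conj hcs
  have hd' : σ⁻¹ d ∈ W := hinv _ hσ.symm d hd
  have hρu : (σ⁻¹ * cj s * σ) u = u * σ⁻¹ d := by
    rw [Equiv.Perm.mul_apply, Equiv.Perm.mul_apply, cj_apply, e,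
      hσ.symm.map.map_mul hv (hZE (hWZ hd))]
    simp
  have hlt : D σ < D (σ⁻¹ * cj s * σ) := by
    refine lt_of_le_of_ne (fun x hx => ?_) fun he => ?_
    · rw [hD _ hσ] at hx
      rw [hD _ hρ, Equiv.Perm.mul_apply, Equiv.Perm.mul_apply, cj_apply, h.cent _ hx.2 s hs]
      simpa using hx.1
    · have : u ∈ D σ := by
        rw [he, hD _ hρ, hρu]
        exact ⟨hu, mul_mem hu (hWZ hd')⟩
      exact hu' ((hD _ hσ _).1 this).2
  have : Finite (D (σ⁻¹ * cj s * σ)) := Finite.of_injective _ (Subgroup.inclusion_injective inf_le_left)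
  have hstab : ∀ x ∈ Z, (σ⁻¹ * cj s * σ) x ∈ Z := by
    by_contra hn
    push Not at hn
    exact (hmax _ ⟨hρ, hn⟩).not_gt (card_lt_of_lt hlt)
  have hiso : Iso F Z Z (σ⁻¹ * cj s * σ) := (hρ.map.mono hZE).iso_self hstab
  have hT : autInducedBy S E ≤ stab2 E Z := fun α hα => by
    obtain ⟨g, hg, e⟩ := mem_autInducedBy.1 hα
    exact ⟨fun x hx hz => by rw [e x hx, h.cent x hz g hg.1]; simp,
      fun x hx => by rw [e x hx]; exact h.comm x (hE.1.1 hx) g hg.1⟩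
  obtain ⟨k, hk⟩ := hS ⟨s, hs⟩
  have hk' : s ^ p ^ k = 1 := congrArg Subtype.val hk
  have hmem := mem_autInducedBy_of_stab2 hS hF hE.2.1 hT hρ.equiv_mem ⟨k, extA_eq_one_iff.2 fun x hx => by
      rw [extA_pow_apply (σ := σ⁻¹ * cj s * σ) (fun y hy => extA_equiv hρ hy) _ x hx]
      have : (σ⁻¹ * cj s * σ) ^ p ^ k = σ⁻¹ * cj s ^ p ^ k * σ := by
        simpa using conj_pow (a := σ⁻¹) (b := cj s) (i := p ^ k)
      rw [this, ← map_pow, hk', map_one]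
      simp⟩ fun x hx => by rw [extA_equiv hρ hx]; exact hiso.mem_iff
  have := (hT hmem).1 u (hZE hu) hu
  rw [extA_equiv hρ (hZE hu), hρu, mul_eq_left, Equiv.Perm.inv_eq_iff_eq, hσ.map.map_one] at this
  exact hd1 this

theorem isConstrained (hc : F.core ≠ ⊥) : F.IsConstrained p := by
  have hW := isNormal_core F
  have hW' := (isNormal_iff_essential hS hF).1 hW
  by_cases he : ∃ E, F.IsEssential p E
  · obtain ⟨E, hE⟩ := he
    obtain ⟨v, hv, hvZ⟩ := SetLike.not_le_iff_exists.1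
      (h.not_le_of_inv hS hF hE hc (hW' E (Or.inr hE)).2)
    have key : ∀ E', F.IsEssential p E' → ∀ w ∈ F.core, w ∉ Z → ∀ s,
        s ∈ E' ↔ s ∈ S ∧ w * s = s * w := fun E' hE' w hw hwZ s =>
      ⟨fun hs => ⟨hE'.1.1 hs, h.ess_comm hS hF hE' _ ((hW' E' (Or.inr hE')).1 hw) _ hs⟩,
        fun hs => h.ess_eq hS hF hE' ((hW' E' (Or.inr hE')).1 hw) hwZ hs.1 hs.2⟩
    refine ⟨hF, E, isNormal_of_essential hS hF ?_, hE.1⟩
    rintro P (rfl | hP)
    · refine ⟨hE.1.1, fun σ hσ x hx => ?_⟩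
      have hv' : σ⁻¹ v ∈ F.core := (hW' P (Or.inl rfl)).2 _ hσ.symm v hv
      have hvS := core_le' F hv
      have hxS := hE.1.1 hx
      refine (key E hE v hv hvZ _).2 ⟨hσ.mem hxS, ?_⟩
      have h1 : σ⁻¹ v * x = x * σ⁻¹ v :=
        h.ess_comm hS hF hE _ ((hW' E (Or.inr hE)).1 hv') _ hx
      have h2 := congrArg σ h1
      rw [hσ.map.map_mul (hσ.inv_mem hvS) hxS, hσ.map.map_mul hxS (hσ.inv_mem hvS)] at h2
      simpa using h2
    · have : P = E := by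
        ext s
        rw [key P hP v hv hvZ, key E hE v hv hvZ]
      subst this
      exact ⟨le_rfl, fun σ hσ x hx => hσ.mem hx⟩
  · push Not at he
    refine ⟨hF, S, isNormal_of_essential hS hF ?_, (centric_radical_of_essential hS hF (Or.inl rfl)).1⟩
    rintro P (rfl | hP)
    · exact ⟨le_rfl, fun σ hσ x hx => hσ.mem hx⟩
    · exact absurd hP (he P)

end Heis

omit [Finite S] [Fact p.Prime] in
theorem heis_eq_defs : True := by
  have := @stab2.eq_1.{0}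
  trivial

end H90
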