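import Mathlib
import Cfsg.Agent.Base
import Cfsg.Agent.Lib.Fusion.Heis

/-!
# Strong embedding for essential subgroups, in elementwise form
-/

set_option autoImplicit false

namespace H90

open Cfsg Cfsg.FusionSystem H91
open H68 (SylowIn)
open scoped commutatorElement

variable {Ω : Type*} [Group Ω] {S : Subgroup Ω} {F : FusionSystem S} {p : ℕ}
variable [Finite S] [Fact p.Prime]

/-- If a `p`-subgroup of `Aut_F(E)` contains a non-inner element of `Aut_S(E)` and the `σ`-conjugate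
of another such element, then `σ` lies in the strongly embedded subgroup `extAut F E`. -/
theorem mem_extAut_of_link (hS : IsPGroup p S) (hF : F.IsSaturated p) {E : Subgroup Ω}
    (hE : F.IsFullyNormalized E) {P : Subgroup (MulAut E)} (hP : IsPGroup p P)
    (hPA : P ≤ F.autGroup E) {β γ σ : MulAut E} (hβ : β ∈ autInducedBy S E) (hβ' : β ∉ Inn E)
    (hγ : γ ∈ autInducedBy S E) (hγ' : γ ∉ Inn E) (hσ : σ ∈ F.autGroup E) (h1 : β ∈ P)
    (h2 : σ * γ * σ⁻¹ ∈ P) : σ ∈ extAut F E := by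
  have := finite_mulAut_of_le hE.1
  have hr := receptive_of_normalized hS hF hE
  obtain ⟨a, ha, hle⟩ := (sylowIn_of_normalized hS hF hE).exists_cj_le hP hPA
  have h3 := mem_extAut_of_conj_mem hr ha hβ hβ' (H68.cj_le_iff'.1 hle _ h1)
  have h4 := mem_extAut_of_conj_mem hr (mul_mem ha hσ) hγ hγ' (by
    simpa [mul_assoc] using H68.cj_le_iff'.1 hle _ h2)
  simpa using mul_mem ((extAut F E).inv_mem h3) h4

/-- Version for elements of `S`: if `g, h ∈ N_S(E) ∖ E` and `W ≤ E` are such that both `g` and the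
`σ`-conjugate of `h` act trivially on `W` and `E / W`, then `σ ∈ extAut F E`. -/
theorem mem_extAut_of_stab2 (hS : IsPGroup p S) (hF : F.IsSaturated p) {E : Subgroup Ω}
    (hE : F.IsEssential p E) {σ : MulAut E} (hσ : σ ∈ F.autGroup E) {g h : Ω}
    (hg : g ∈ normalizerIn S E) (hg' : g ∉ E) (hh : h ∈ normalizerIn S E) (hh' : h ∉ E)
    {W : Subgroup Ω} (h1 : conjAut E g hg.2 ∈ stab2 E W)
    (h2 : σ * conjAut E h hh.2 * σ⁻¹ ∈ stab2 E W) : σ ∈ extAut F E := by
  have := finite_of_le hE.1.1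
  have hC := hE.1.2 E (isConj_refl F hE.1.1)
  have hA := autInducedBy_le_autGroup F hE.1.1
  exact mem_extAut_of_link hS hF hE.2.1 ((isPGroup_stab2 (hS.to_le hE.1.1) W).to_inf_left)
    inf_le_right (conjAut_mem hg.1 hg.2) (fun e => hg' (mem_of_conjAut_mem_inn hE.1.1 hC hg e))
    (conjAut_mem hh.1 hh.2) (fun e => hh' (mem_of_conjAut_mem_inn hE.1.1 hC hh e)) hσ
    ⟨h1, hA (conjAut_mem hg.1 hg.2)⟩
    ⟨h2, (F.autGroup E).mul_mem ((F.autGroup E).mul_mem hσ (hA (conjAut_mem hh.1 hh.2)))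
      ((F.autGroup E).inv_mem hσ)⟩

omit [Finite S] [Fact p.Prime] in
theorem index_centralizer_le_of_extraspecial {Q : Type*} [Group Q] [Finite Q]
    (hQ : IsExtraspecial p Q) (y : Q) : (Subgroup.centralizer {y}).index ∣ p := by
  have hc : ∀ g : Q, ⁅g, y⁆ ∈ Subgroup.center Q := fun g =>
    hQ.1.2.2.le (Subgroup.commutator_mem_commutator (Subgroup.mem_top g) (Subgroup.mem_top y))
  let f : Q →* Subgroup.center Q := MonoidHom.mk' (fun g => ⟨⁅g, y⁆, hc g⟩) fun a b => by
    refine Subtype.ext ?_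
    have := Subgroup.mem_center_iff.1 (hc b) a
    simp only [Subgroup.coe_mul, commutatorElement_def] at this ⊢
    calc a * b * y * (a * b)⁻¹ * y⁻¹ = (a * (b * y * b⁻¹ * y⁻¹)) * y * a⁻¹ * y⁻¹ := by group
      _ = (b * y * b⁻¹ * y⁻¹) * (a * y * a⁻¹ * y⁻¹) := by rw [this]; group
      _ = _ := by
        have h2 := Subgroup.mem_center_iff.1 (hc b) ⁅a, y⁆
        simp only [commutatorElement_def] at h2
        exact h2.symm
  have hk : f.ker = Subgroup.centralizer {y} := by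
    ext g
    rw [MonoidHom.mem_ker, Subgroup.mem_centralizer_singleton_iff, Subtype.ext_iff]
    exact commutatorElement_eq_one_iff_mul_comm
  rw [← hk, Subgroup.index_ker, ← hQ.2]
  exact Subgroup.card_subgroup_dvd_card _

omit [Finite S] in
theorem exists_centralizer_not_le {Q : Type*} [Group Q] [Finite Q] (hQ : IsExtraspecial p Q)
    (hc : p ^ 3 < Nat.card Q) {E : Subgroup Q} (hE : E ≠ ⊤) (hab : ∀ a ∈ E, ∀ b ∈ E, a * b = b * a)
    (y : Q) : ∃ g, g ∉ E ∧ y * g = g * y := by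
  have hp : p.Prime := Fact.out
  by_contra hn
  push Not at hn
  have h1 : Subgroup.centralizer {y} ≤ E := fun g hg => by
    by_contra h
    exact hn g h (Subgroup.mem_centralizer_singleton_iff.1 hg).symm
  obtain ⟨x, hx⟩ : ∃ x, x ∉ E := by
    by_contra h
    push Not at h
    exact hE ((Subgroup.eq_top_iff' E).2 h)
  have h2 : Subgroup.centralizer {x} ⊓ Subgroup.centralizer {y} ≤ Subgroup.center Q := by
    rintro c ⟨hcx, hcy⟩
    have h3 : E ≤ Subgroup.centralizer {c} := fun a ha =>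
      Subgroup.mem_centralizer_singleton_iff.2 (hab a ha c (h1 hcy))
    have h4 : x ∈ Subgroup.centralizer {c} :=
      Subgroup.mem_centralizer_singleton_iff.2 (Subgroup.mem_centralizer_singleton_iff.1 hcx).symm
    have h5 := (Subgroup.index_dvd_of_le h1).trans (index_centralizer_le_of_extraspecial hQ y)
    have h6 : E.index = p := ((Nat.dvd_prime hp).1 h5).resolve_left fun e =>
      hE (Subgroup.index_eq_one.1 e)
    have h7 : Subgroup.centralizer {c} = ⊤ := by
      rcases (Nat.dvd_prime hp).1 (h6 ▸ Subgroup.index_dvd_of_le h3) with e | e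
      · exact Subgroup.index_eq_one.1 e
      · refine absurd (?_ : x ∈ E) hx
        have h8 := Subgroup.relIndex_mul_index h3
        rw [h6, e] at h8
        exact Subgroup.relIndex_eq_one.1 (Nat.eq_of_mul_eq_mul_right hp.pos (by rw [h8, one_mul])) h4
    exact Subgroup.mem_center_iff.2 fun g =>
      Subgroup.mem_centralizer_singleton_iff.1 (h7 ▸ Subgroup.mem_top g)
  have h3 : (Subgroup.center Q).index ≤ p * p :=
    (Nat.le_of_dvd (Nat.pos_of_ne_zero Subgroup.index_ne_zero_of_finite)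
      (Subgroup.index_dvd_of_le h2)).trans (Subgroup.index_inf_le.trans (Nat.mul_le_mul
        (Nat.le_of_dvd hp.pos (index_centralizer_le_of_extraspecial hQ x))
        (Nat.le_of_dvd hp.pos (index_centralizer_le_of_extraspecial hQ y))))
  have h4 := (Subgroup.center Q).card_mul_index
  rw [hQ.2] at h4
  have := Nat.mul_le_mul_left p h3
  rw [h4] at this
  exact hc.not_ge (by rw [pow_succ', sq]; exact this)

theorem eq_of_essential_le_extraspecial (hS : IsPGroup p S) (hF : F.IsSaturated p)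
    {Q E : Subgroup Ω} (hQS : Q ≤ S) (hQ : IsExtraspecial p Q) (hc : p ^ 3 < Nat.card Q)
    (hEQ : E ≤ Q) (hE : F.IsEssential p E) : E = Q := by
  have hp : p.Prime := Fact.out
  have := finite_of_le hQS
  have := finite_of_le hEQ
  by_contra hne
  set Z := centralizerIn Q Q with hZ
  have hZc : Nat.card Z = p := by
    rw [hZ, ← H93.center_map_eq, Subgroup.card_map_of_injective Q.subtype_injective, hQ.2]
  have hcm : ∀ x ∈ Q, ∀ g ∈ Q, x⁻¹ * (g * x * g⁻¹) ∈ Z := fun x hx g hg => by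
    rw [hZ, ← H93.center_map_eq]
    refine ⟨⁅(⟨x, hx⟩ : Q)⁻¹, ⟨g, hg⟩⁆, hQ.1.2.2.le (Subgroup.commutator_mem_commutator
      (Subgroup.mem_top _) (Subgroup.mem_top _)), ?_⟩
    simp [commutatorElement_def, mul_assoc]
  have hZE : Z ≤ E := fun z hz =>
    hE.1.2 E (isConj_refl F hE.1.1) ⟨hQS hz.1, fun x hx => hz.2 x (hEQ hx)⟩
  have hN : ∀ g ∈ Q, g ∈ normalizerIn S E := fun g hg => ⟨hQS hg,
    mem_normalizer_of_conj_mem fun x hx => by simpa using mul_mem hx (hZE (hcm x (hEQ hx) g hg))⟩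
  have : Finite Z := finite_of_le (S := Q) inf_le_left
  have : IsSimpleGroup Z := isSimpleGroup_of_prime_card hZc
  have hgen : ∀ z ∈ Z, z ≠ 1 → ∀ w ∈ Z, w ∈ Subgroup.zpowers z := fun z hz hz1 w hw => by
    have h1 : Subgroup.zpowers z = Z := eq_of_le_of_card_le (Subgroup.zpowers_le.2 hz) (by
      rw [hZc, Nat.card_zpowers]
      have h2 : orderOf z ∣ p := hZc ▸ Subgroup.orderOf_dvd_natCard Z hz
      rcases (Nat.dvd_prime hp).1 h2 with e | e
      · exact absurd (orderOf_eq_one_iff.1 e) hz1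
      · exact e.ge)
    exact h1 ▸ hw
  obtain ⟨z, hz, hz1⟩ : ∃ z ∈ Z, z ≠ 1 := (Subgroup.bot_or_exists_ne_one Z).resolve_left fun e =>
    hp.ne_one (by rw [← hZc, e, Subgroup.card_bot])
  have key : ∀ σ : MulAut E, ∃ g ∈ Q, g ∉ E ∧ ∀ w ∈ Z, extA E σ w * g = g * extA E σ w := by
    intro σ
    suffices h : ∃ g ∈ Q, g ∉ E ∧ extA E σ z * g = g * extA E σ z by
      obtain ⟨g, hg, hg', e⟩ := h
      refine ⟨g, hg, hg', fun w hw => ?_⟩
      obtain ⟨k, rfl⟩ := hgen z hz hz1 w hw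
      rw [(homOn_extA σ).zpow (hZE hz)]
      exact (Commute.zpow_left e k)
    by_cases hab : ∀ a ∈ E, ∀ b ∈ E, a * b = b * a
    · obtain ⟨g, hg, e⟩ := exists_centralizer_not_le hQ hc (E := E.subgroupOf Q)
        (fun e => hne (le_antisymm hEQ (Subgroup.subgroupOf_eq_top.1 e)))
        (fun a ha b hb => Subtype.ext (hab _ ha _ hb)) ⟨extA E σ z, hEQ (extA_mem σ (hZE hz))⟩
      exact ⟨g, g.2, hg, congrArg Subtype.val e⟩
    · push Not at hab
      obtain ⟨a, ha, b, hb, e⟩ := hab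
      obtain ⟨g, hg, hg'⟩ := SetLike.exists_of_lt (lt_of_le_of_ne hEQ hne)
      refine ⟨g, hg, hg', Eq.symm (centralizerIn_le_centralizer Q Q ?_ g hg)⟩
      have h1 : a⁻¹ * (b * a * b⁻¹) ≠ 1 := fun h => e (by
        rw [inv_mul_eq_one, eq_mul_inv_iff_mul_eq] at h; exact h)
      obtain ⟨k, rfl⟩ := hgen _ (hcm a (hEQ ha) b (hEQ hb)) h1 z hz
      have hh := homOn_extA σ
      have h2 := (hh.conj hb ha)
      rw [hh.zpow (hZE (hcm a (hEQ ha) b (hEQ hb))),
        hh.mul (inv_mem ha) (mul_mem (mul_mem hb ha) (inv_mem hb)), hh.inv ha, h2]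
      exact zpow_mem (hcm _ (hEQ (extA_mem σ ha)) _ (hEQ (extA_mem σ hb))) k
  refine extAut_ne_of_isEssential hS hF hE (le_antisymm (extAut_le F E) fun σ hσ => ?_)
  obtain ⟨g, hg, hg', e1⟩ := key σ
  obtain ⟨h, hh, hh', e2⟩ := key σ⁻¹
  have hhom := homOn_extA σ
  have hW : ∀ {α : MulAut E}, (∀ w ∈ Z, extA E α w = w) → (∀ w ∈ Z, extA E α (extA E σ w) = extA E σ w) →
      ∀ x ∈ E, x ∈ Z ⊔ im (extA E σ) Z → extA E α x = x := fun {α} h1 h2 x _ hx =>
    ((homOn_extA α).mono (sup_le hZE (im_le_iff.2 fun w hw => extA_mem σ (hZE hw)))).eq_on_sup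
      (g := fun x => x) (fun _ _ _ _ => rfl) h1 (fun y hy => by
        obtain ⟨w, hw, rfl⟩ := (hhom.mono hZE).mem_im.1 hy
        exact h2 w hw) x hx
  refine mem_extAut_of_stab2 hS hF hE hσ (hN g hg) hg' (hN h hh) hh' (W := Z ⊔ im (extA E σ) Z)
    ⟨hW (fun w hw => ?_) fun w hw => ?_, fun x hx => ?_⟩ ⟨hW (fun w hw => ?_) fun w hw => ?_, fun x hx => ?_⟩
  · rw [extA_conjAut _ (hZE hw), hw.2 g hg]; simp
  · rw [extA_conjAut _ (extA_mem σ (hZE hw)), ← e1 w hw]; simp
  · rw [extA_conjAut _ hx]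
    exact Subgroup.mem_sup_left (hcm x (hEQ hx) g hg)
  · rw [extA_mul_apply, extA_mul_apply, extA_conjAut _ (extA_mem _ (hZE hw)), ← e2 w hw]
    simp
  · have h1 : extA E σ⁻¹ (extA E σ w) = w := by simp
    rw [extA_mul_apply, extA_mul_apply, h1, extA_conjAut _ (hZE hw), hw.2 h hh]
    simp
  · have h1 := extA_mem σ⁻¹ hx
    have h2 := mem_im_of_mem (extA E σ) (hcm _ (hEQ h1) h hh)
    refine Subgroup.mem_sup_right ?_
    rw [hhom.mul (inv_mem h1) (conj_mem_of_normalizerIn (hN h hh) h1), hhom.inv h1] at h2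
    rw [extA_mul_apply, extA_mul_apply, extA_conjAut _ h1]
    simpa [extA_inv_apply] using h2

end H90
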