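import Mathlib

/-!
A group `G` acting on an oriented graph (`src tgt : E → V` equivariant): paths as elements of the
free group on the edges, the semidirect product `FreeGroup E ⋊ G`, and the fixed point theorem for
subgroups of bounded displacement.
-/

set_option autoImplicit false

namespace H93.FreeGraph

open FreeGroup SemidirectProduct

/-- An oriented graph with an action of `G`. -/
structure Graph (G V E : Type*) [Group G] [MulAction G V] [MulAction G E] where
  src : E → V
  tgt : E → V
  src_smul : ∀ (g : G) (e : E), src (g • e) = g • src e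
  tgt_smul : ∀ (g : G) (e : E), tgt (g • e) = g • tgt e

variable {G V E : Type*} [Group G] [MulAction G V] [MulAction G E]

/-- Action on letters. -/
def act (g : G) (l : E × Bool) : E × Bool := (g • l.1, l.2)

/-- Inverse letter. -/
def rev (l : E × Bool) : E × Bool := (l.1, !l.2)

theorem rev_rev (l : E × Bool) : rev (rev l) = l := by simp [rev]

theorem invRev_cons' (l : E × Bool) (L : List (E × Bool)) :
    invRev (l :: L) = invRev L ++ [rev l] := by
  rw [invRev_cons]; rfl

/-- The action of `G` on the free group on `E`. -/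
def phi (G E : Type*) [Group G] [MulAction G E] : G →* MulAut (FreeGroup E) :=
  MonoidHom.mk' (fun g => freeGroupCongr (MulAction.toPerm g)) (fun g h => by
    apply MulEquiv.toMonoidHom_injective
    ext e
    show FreeGroup.map _ (of e) = FreeGroup.map _ (FreeGroup.map _ (of e))
    rw [map.of, map.of, map.of]
    exact congrArg of (mul_smul g h e))

theorem phi_mk (g : G) (L : List (E × Bool)) : phi G E g (mk L) = mk (L.map (act g)) := rfl

theorem isReduced_map_act (g : G) {L : List (E × Bool)} (h : IsReduced L) :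
    IsReduced (L.map (act g)) := by
  unfold FreeGroup.IsReduced at h ⊢
  rw [List.isChain_map]
  refine h.imp fun a b hab e => hab ?_
  exact (MulAction.injective g) e

variable [DecidableEq E]

theorem toWord_mk_of_isReduced {L : List (E × Bool)} (h : IsReduced L) : (mk L).toWord = L := by
  rw [toWord_mk, h.reduce_eq]

theorem toWord_phi (g : G) (w : FreeGroup E) :
    (phi G E g w).toWord = w.toWord.map (act g) := by
  conv_lhs => rw [← mk_toWord (x := w), phi_mk]
  exact toWord_mk_of_isReduced (isReduced_map_act g isReduced_toWord)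

theorem norm_phi (g : G) (w : FreeGroup E) : (phi G E g w).norm = w.norm := by
  show (phi G E g w).toWord.length = w.toWord.length
  rw [toWord_phi, List.length_map]

theorem norm_inv_mul_of_ne {w w' : FreeGroup E} {l l' : E × Bool} {L L' : List (E × Bool)}
    (h : w.toWord = l :: L) (h' : w'.toWord = l' :: L') (hne : l ≠ l') :
    (w⁻¹ * w').norm = w.norm + w'.norm := by
  have h1 : IsReduced (invRev L ++ [rev l]) := by
    rw [← invRev_cons', ← h, ← toWord_inv]; exact isReduced_toWord
  have h2 : IsReduced ([rev l] ++ (l' :: L')) := by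
    refine isReduced_cons_cons.2 ⟨fun e => ?_, h' ▸ isReduced_toWord⟩
    obtain ⟨a, b⟩ := l
    obtain ⟨a', b'⟩ := l'
    have e' : a = a' := e
    subst e'
    have : b ≠ b' := fun hb => hne (by rw [hb])
    show (!b) = b'
    cases b <;> cases b' <;> simp_all
  have h3 := h1.append_overlap h2 (by simp)
  show (w⁻¹ * w').toWord.length = w.toWord.length + w'.toWord.length
  rw [toWord_mul, toWord_inv, h, h', invRev_cons', h3.reduce_eq]
  simp
  omega

namespace Graph

variable (Γ : Graph G V E)

/-- Initial vertex of a letter. -/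
def beg (l : E × Bool) : V := if l.2 then Γ.src l.1 else Γ.tgt l.1

/-- `L` is a path from `x` to `y`. -/
inductive LP : V → List (E × Bool) → V → Prop
  | nil (x : V) : LP x [] x
  | cons (l : E × Bool) {L : List (E × Bool)} {y : V} :
      LP (Γ.beg (rev l)) L y → LP (Γ.beg l) (l :: L) y

variable {Γ}

omit [DecidableEq E] in
theorem beg_act (g : G) (l : E × Bool) : Γ.beg (act g l) = g • Γ.beg l := by
  obtain ⟨e, b⟩ := l
  cases b
  · exact Γ.tgt_smul g e
  · exact Γ.src_smul g e

omit [DecidableEq E] in
theorem lp_nil {x y : V} : Γ.LP x [] y ↔ x = y :=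
  ⟨fun h => by cases h; rfl, fun h => h ▸ .nil x⟩

omit [DecidableEq E] in
theorem lp_cons {x y : V} {l : E × Bool} {L : List (E × Bool)} :
    Γ.LP x (l :: L) y ↔ x = Γ.beg l ∧ Γ.LP (Γ.beg (rev l)) L y :=
  ⟨fun h => by cases h; exact ⟨rfl, ‹_›⟩, fun h => h.1 ▸ .cons l h.2⟩

omit [DecidableEq E] in
theorem lp_append {x z : V} {L M : List (E × Bool)} :
    Γ.LP x (L ++ M) z ↔ ∃ y, Γ.LP x L y ∧ Γ.LP y M z := by
  induction L generalizing x with
  | nil => simp [lp_nil]
  | cons l L ih =>
    simp only [List.cons_append, lp_cons, ih]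
    exact ⟨fun ⟨h, y, h1, h2⟩ => ⟨y, ⟨h, h1⟩, h2⟩, fun ⟨y, ⟨h, h1⟩, h2⟩ => ⟨h, y, h1, h2⟩⟩

omit [DecidableEq E] in
theorem LP.step {x y : V} {L M : List (E × Bool)} (h : Γ.LP x L y) (s : Red.Step L M) :
    Γ.LP x M y := by
  obtain @⟨L₁, L₂, e, b⟩ := s
  obtain ⟨z, h1, h2⟩ := lp_append.1 h
  obtain ⟨h3, h4⟩ := lp_cons.1 h2
  obtain ⟨-, h5⟩ := lp_cons.1 h4
  refine lp_append.2 ⟨z, h1, ?_⟩
  have : rev (e, !b) = (e, b) := rev_rev (e, b)
  rw [this, ← h3] at h5
  exact h5

omit [DecidableEq E] in
theorem LP.red {x y : V} {L M : List (E × Bool)} (h : Γ.LP x L y) (s : Red L M) :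
    Γ.LP x M y := by
  induction s with
  | refl => exact h
  | tail _ s ih => exact ih.step s

omit [DecidableEq E] in
theorem LP.invRev {x y : V} {L : List (E × Bool)} (h : Γ.LP x L y) : Γ.LP y (invRev L) x := by
  induction h with
  | nil x => exact .nil x
  | cons l _ ih =>
    rw [invRev_cons']
    refine lp_append.2 ⟨_, ih, lp_cons.2 ⟨rfl, ?_⟩⟩
    rw [rev_rev]
    exact .nil _

omit [DecidableEq E] in
theorem LP.smul {x y : V} {L : List (E × Bool)} (h : Γ.LP x L y) (g : G) :
    Γ.LP (g • x) (L.map (act g)) (g • y) := by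
  induction h with
  | nil x => exact .nil _
  | cons l _ ih =>
    refine lp_cons.2 ⟨(beg_act g l).symm, ?_⟩
    have : rev (act g l) = act g (rev l) := rfl
    rw [this, beg_act]
    exact ih

variable (Γ) in
/-- `w` is (the class of) a path from `x` to `y`. -/
def Pth (x : V) (w : FreeGroup E) (y : V) : Prop := Γ.LP x w.toWord y

theorem LP.pth {x y : V} {L : List (E × Bool)} (h : Γ.LP x L y) : Γ.Pth x (FreeGroup.mk L) y :=
  h.red reduce.red

theorem pth_one {x y : V} : Γ.Pth x 1 y ↔ x = y := lp_nil

theorem Pth.mul {x y z : V} {w w' : FreeGroup E} (h : Γ.Pth x w y) (h' : Γ.Pth y w' z) :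
    Γ.Pth x (w * w') z := by
  show Γ.LP x (w * w').toWord z
  rw [toWord_mul]
  exact (lp_append.2 ⟨y, h, h'⟩).red reduce.red

theorem Pth.inv {x y : V} {w : FreeGroup E} (h : Γ.Pth x w y) : Γ.Pth y w⁻¹ x := by
  show Γ.LP y w⁻¹.toWord x
  rw [toWord_inv]
  exact LP.invRev h

theorem Pth.smul {x y : V} {w : FreeGroup E} (h : Γ.Pth x w y) (g : G) :
    Γ.Pth (g • x) (phi G E g w) (g • y) := by
  show Γ.LP _ (phi G E g w).toWord _
  rw [toWord_phi]
  exact LP.smul h g

theorem pth_letter (l : E × Bool) : Γ.Pth (Γ.beg l) (FreeGroup.mk [l]) (Γ.beg (rev l)) :=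
  (LP.cons l (.nil _)).pth

theorem pth_of (e : E) : Γ.Pth (Γ.src e) (of e) (Γ.tgt e) := pth_letter (e, true)

/-- A property of vertices that is constant along the edges fixed by `Q` is constant along the
paths fixed by `Q`. -/
theorem Pth.iff_of_fixed {x y : V} {w : FreeGroup E} (h : Γ.Pth x w y) (Q : Set G)
    (hw : ∀ u ∈ Q, phi G E u w = w) (A : V → Prop)
    (hA : ∀ e : E, (∀ u ∈ Q, u • e = e) → (A (Γ.src e) ↔ A (Γ.tgt e))) : A x ↔ A y := by
  have h1 : ∀ l ∈ w.toWord, ∀ u ∈ Q, u • l.1 = l.1 := by
    intro l hl u hu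
    have := toWord_phi u w
    rw [hw u hu] at this
    have h2 := List.map_inj_left.1 ((List.map_id w.toWord).trans this) l hl
    exact (congrArg Prod.fst h2).symm
  have h' : Γ.LP x w.toWord y := h
  clear h
  generalize w.toWord = L at h1 h'
  induction h' with
  | nil x => rfl
  | cons l _ ih =>
    refine Iff.trans ?_ (ih fun l' hl' => h1 l' (List.mem_cons_of_mem _ hl'))
    have := hA l.1 (h1 l List.mem_cons_self)
    obtain ⟨e, b⟩ := l
    cases b
    · exact this.symm
    · exact this

/-- A subgroup of bounded displacement fixes a vertex of the universal cover. -/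
theorem exists_fixed (n : ℕ) : ∀ (H : Subgroup (FreeGroup E ⋊[phi G E] G)) (v : V),
    (∀ h ∈ H, h.left.norm ≤ n) → (∀ h ∈ H, Γ.Pth v h.left (h.right • v)) →
    ∃ x v', Γ.Pth v x v' ∧ ∀ h ∈ H, x⁻¹ * h.left * phi G E h.right x = 1 := by
  induction n with
  | zero =>
    intro H v hn _
    refine ⟨1, v, pth_one.2 rfl, fun h hh => ?_⟩
    rw [FreeGroup.norm_eq_zero.1 (Nat.le_zero.1 (hn h hh))]
    simp
  | succ n ih =>
    intro H v hn hp
    by_cases hk : ∀ h ∈ H, h.left.norm ≤ n
    · exact ih H v hk hp
    push Not at hk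
    obtain ⟨k, hkH, hk⟩ := hk
    have hkn : k.left.norm = n + 1 := le_antisymm (hn k hkH) hk
    obtain ⟨l, K, hK⟩ : ∃ l K, k.left.toWord = l :: K := by
      have : k.left.toWord.length = n + 1 := hkn
      cases hw : k.left.toWord with
      | nil => simp [hw] at this
      | cons l K => exact ⟨l, K, rfl⟩
    have hA : ∀ h ∈ H, h.left ≠ 1 → ∃ L, h.left.toWord = l :: L := by
      intro h hh hne
      cases hw : h.left.toWord with
      | nil => exact absurd (toWord_eq_nil_iff.1 hw) hne
      | cons l' L =>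
        by_cases e : l' = l
        · exact ⟨L, by rw [e]⟩
        · have h1 := norm_inv_mul_of_ne hw hK e
          have h2 := hn _ (H.mul_mem (H.inv_mem hh) hkH)
          rw [mul_left, inv_left, inv_right, ← _root_.map_mul, norm_phi, h1, hkn] at h2
          exact absurd (FreeGroup.norm_eq_zero.1 (by omega)) hne
    have hB : ∀ h ∈ H, ((FreeGroup.mk [l])⁻¹ * h.left * phi G E h.right (FreeGroup.mk [l])).norm ≤ n := by
      intro h hh
      by_cases h1 : h.left = 1
      · have h2 : (h * k).left = phi G E h.right k.left := by rw [mul_left, h1, one_mul]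
        obtain ⟨L, hL⟩ := hA _ (H.mul_mem hh hkH) (by
          rw [h2, ne_eq, ← FreeGroup.norm_eq_zero, norm_phi, hkn]; omega)
        rw [h2, toWord_phi, hK, List.map_cons] at hL
        have h3 : act h.right l = l := (List.cons.inj hL).1
        rw [h1, phi_mk, List.map_cons, h3, List.map_nil, mul_one, inv_mul_cancel]
        simp
      · obtain ⟨L, hL⟩ := hA h hh h1
        obtain ⟨L', hL'⟩ := hA _ (H.inv_mem hh) (by
          rw [inv_left, ne_eq, ← FreeGroup.norm_eq_zero, norm_phi, norm_inv_eq, FreeGroup.norm_eq_zero]; exact h1)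
        have h2 : h.left⁻¹.toWord = act h.right l :: L'.map (act h.right) := by
          rw [← List.map_cons, ← hL', ← toWord_phi, inv_left, ← MulAut.mul_apply, ← _root_.map_mul]
          simp
        have h3 : h.left.toWord = invRev (L'.map (act h.right)) ++ [rev (act h.right l)] := by
          rw [← invRev_cons', ← h2, toWord_inv, invRev_invRev]
        cases hM : invRev (L'.map (act h.right)) with
        | nil =>
          rw [hM, hL] at h3
          have := congrArg Prod.snd (List.cons.inj h3).1
          simp [rev, act] at this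
        | cons l₀ L₀ =>
          rw [hM, hL, List.cons_append] at h3
          obtain ⟨-, h4⟩ := List.cons.inj h3
          have h5 : h.left = FreeGroup.mk [l] * FreeGroup.mk L₀ * (FreeGroup.mk [act h.right l])⁻¹ := by
            rw [← mk_toWord (x := h.left), hL, h4, inv_mk, mul_mk, mul_mk]
            rfl
          have h6 : (FreeGroup.mk [l])⁻¹ * h.left * phi G E h.right (FreeGroup.mk [l]) = FreeGroup.mk L₀ := by
            rw [phi_mk, List.map_cons, List.map_nil]
            nth_rewrite 1 [h5]
            group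
          have h7 : h.left.toWord.length ≤ n + 1 := hn h hh
          rw [hL, h4] at h7
          rw [h6]
          refine norm_mk_le.trans ?_
          simp at h7
          omega
    have hv : v = Γ.beg l := by
      have : Γ.LP v k.left.toWord _ := hp k hkH
      rw [hK] at this
      exact (lp_cons.1 this).1
    let c : FreeGroup E ⋊[phi G E] G := inl (FreeGroup.mk [l])
    have hl : ∀ h : FreeGroup E ⋊[phi G E] G, (c⁻¹ * h * c⁻¹⁻¹).left =
        (FreeGroup.mk [l])⁻¹ * h.left * phi G E h.right (FreeGroup.mk [l]) := fun h => by simp [c]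
    have hr : ∀ h : FreeGroup E ⋊[phi G E] G, (c⁻¹ * h * c⁻¹⁻¹).right = h.right :=
      fun h => by simp [c]
    obtain ⟨x, v', hx, hfix⟩ := ih (H.map (MulAut.conj c⁻¹).toMonoidHom) (Γ.beg (rev l))
      (by
        rintro _ ⟨h, hh, rfl⟩
        exact hl h ▸ hB h hh)
      (by
        rintro _ ⟨h, hh, rfl⟩
        show Γ.Pth _ (c⁻¹ * h * c⁻¹⁻¹).left ((c⁻¹ * h * c⁻¹⁻¹).right • _)
        rw [hl, hr]
        exact ((pth_letter l).inv.mul (hv ▸ hp h hh)).mul ((pth_letter l).smul h.right))
    refine ⟨FreeGroup.mk [l] * x, v', hv ▸ (pth_letter l).mul hx, fun h hh => ?_⟩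
    have := hfix (c⁻¹ * h * c⁻¹⁻¹) ⟨h, hh, rfl⟩
    rw [hl, hr] at this
    rw [← this, _root_.map_mul]
    group

end Graph

/-- Forces the on-demand unfolding lemmas of the definitions above to live in this file. -/
theorem freeGraph_eq_defs : True := by
  have := @act.eq_def.{0, 0}; have := @act.eq_1.{0, 0}
  have := @rev.eq_def.{0}; have := @rev.eq_1.{0}
  have := @phi.eq_def.{0, 0}; have := @phi.eq_1.{0, 0}
  have := @Graph.beg.eq_def.{0, 0, 0}; have := @Graph.beg.eq_1.{0, 0, 0}
  have := @Graph.Pth.eq_def.{0, 0, 0}; have := @Graph.Pth.eq_1.{0, 0, 0}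
  trivial

end H93.FreeGraph
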