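import Mathlib
import Cfsg.Agent.Base
import Cfsg.Agent.Lib.Fusion.Basic
import Cfsg.Agent.Lib.Fusion.Group
import Cfsg.Agent.Lib.Fusion.FreeGraph

/-!
Every fusion system over a finite `p`-group is realized by a finite group (Park) and by a virtually
free group all of whose finite subgroups are conjugate into the `p`-group (Leary–Stancu).
-/

set_option autoImplicit false

namespace H93.Park

open Subgroup Cfsg Cfsg.FusionSystem H93.FreeGraph SemidirectProduct

universe u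

/-- A family of conjugation maps `x ↦ a⁻¹ x a` between subgroups of `T` that forms a fusion
system. -/
structure Pre (G : Type u) [Group G] where
  T : Subgroup G
  R : Subgroup G → G → Prop
  mem : ∀ {Q a}, R Q a → ∀ x ∈ Q, a⁻¹ * x * a ∈ T
  inner : ∀ {Q s}, Q ≤ T → s ∈ T → R Q s
  comp : ∀ {Q Q' a b}, R Q a → R Q' b → (∀ x ∈ Q, a⁻¹ * x * a ∈ Q') → R Q (a * b)
  inv : ∀ {Q Q' a}, R Q a → (∀ y ∈ Q', a * y * a⁻¹ ∈ Q) → R Q' a⁻¹

namespace Pre

variable {G : Type u} [Group G] (D : Pre G)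

/-- Types of edges. -/
abbrev I : Type u := {i : Subgroup G × G // D.R i.1 i.2}

/-- Edges. -/
abbrev E : Type u := Σ i : D.I, G ⧸ i.1.1

/-- Vertices. -/
abbrev V : Type u := G ⧸ D.T

/-- The graph. -/
noncomputable def graph : Graph G D.V D.E where
  src e := Quotient.liftOn' e.2 (fun g => ((g : G) : D.V)) (fun a b hab => by
    have h1 : a⁻¹ * b ∈ e.1.1.1 := QuotientGroup.leftRel_apply.1 hab
    have h2 := D.inv e.1.2 (Q' := (e.1.1.1).map (MulAut.conj e.1.1.2⁻¹).toMonoidHom) (by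
      rintro _ ⟨y, hy, rfl⟩; simpa [mul_assoc] using hy)
    have h3 := D.mem h2 _ ⟨_, h1, rfl⟩
    exact QuotientGroup.eq.2 (by simpa [mul_assoc] using h3))
  tgt e := Quotient.liftOn' e.2 (fun g => ((g * e.1.1.2 : G) : D.V)) (fun a b hab => by
    have h1 : a⁻¹ * b ∈ e.1.1.1 := QuotientGroup.leftRel_apply.1 hab
    exact QuotientGroup.eq.2 (by simpa [mul_assoc] using D.mem e.1.2 _ h1))
  src_smul := by
    rintro g ⟨i, e⟩
    induction e using QuotientGroup.induction_on with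
    | H a => rfl
  tgt_smul := by
    rintro g ⟨i, e⟩
    induction e using QuotientGroup.induction_on with
    | H a => exact congrArg (fun x : G => (x : D.V)) (mul_assoc g a _)

theorem src_mk (i : D.I) (g : G) : D.graph.src ⟨i, (g : G ⧸ i.1.1)⟩ = (g : D.V) := rfl

theorem tgt_mk (i : D.I) (g : G) : D.graph.tgt ⟨i, (g : G ⧸ i.1.1)⟩ = ((g * i.1.2 : G) : D.V) := rfl

/-- The class of the base vertex for `Q`. -/
def A (Q : Subgroup G) (v : D.V) : Prop := ∃ a : G, v = (a : D.V) ∧ D.R Q a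

variable {D}

theorem A_mk {Q : Subgroup G} {a : G} : D.A Q (a : D.V) ↔ D.R Q a := by
  refine ⟨fun ⟨b, hb, h⟩ => ?_, fun h => ⟨a, rfl, h⟩⟩
  have h1 : b⁻¹ * a ∈ D.T := QuotientGroup.eq.1 hb.symm
  have := D.comp h (D.inner le_rfl h1) (D.mem h)
  simpa using this

theorem smul_eq_of_A {Q : Subgroup G} {v : D.V} (h : D.A Q v) {u : G} (hu : u ∈ Q) : u • v = v := by
  obtain ⟨a, rfl, h⟩ := h
  refine QuotientGroup.eq.2 ?_
  simpa [mul_assoc] using D.mem h _ (Q.inv_mem hu)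

theorem A_smul {Q : Subgroup G} {v : D.V} {u : G} (hu : u ∈ Q) : D.A Q (u • v) ↔ D.A Q v := by
  constructor
  · intro h
    have := smul_eq_of_A h (Q.inv_mem hu)
    rw [inv_smul_smul] at this
    rwa [this]
  · intro h
    rwa [smul_eq_of_A h hu]

theorem A_edge {Q : Subgroup G} (e : D.E) (he : ∀ u ∈ Q, u • e = e) :
    D.A Q (D.graph.src e) ↔ D.A Q (D.graph.tgt e) := by
  obtain ⟨i, e⟩ := e
  induction e using QuotientGroup.induction_on with
  | H g =>
    have h1 : ∀ u ∈ Q, g⁻¹ * u * g ∈ i.1.1 := fun u hu => by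
      have := he u⁻¹ (Q.inv_mem hu)
      have h2 : ((u⁻¹ * g : G) : G ⧸ i.1.1) = (g : G ⧸ i.1.1) := eq_of_heq (Sigma.mk.inj this).2
      simpa [mul_assoc] using QuotientGroup.eq.1 h2
    rw [src_mk, tgt_mk, A_mk, A_mk]
    refine ⟨fun h => D.comp h i.2 h1, fun h => ?_⟩
    have h2 := D.inv i.2 (Q' := (i.1.1).map (MulAut.conj i.1.2⁻¹).toMonoidHom) (by
      rintro _ ⟨y, hy, rfl⟩; simpa [mul_assoc] using hy)
    have := D.comp h h2 fun x hx => ⟨_, h1 x hx, by simp [mul_assoc]⟩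
    simpa using this

theorem exists_edge {Q : Subgroup G} {a : G} (h : D.R Q a) : ∃ e : D.E,
    D.graph.src e = ((1 : G) : D.V) ∧ D.graph.tgt e = a • ((1 : G) : D.V) ∧ ∀ u ∈ Q, u • e = e := by
  refine ⟨⟨⟨(Q, a), h⟩, ((1 : G) : G ⧸ Q)⟩, rfl, ?_, fun u hu => ?_⟩
  · rw [tgt_mk]
    show ((1 * a : G) : D.V) = ((a * 1 : G) : D.V)
    simp
  · refine Sigma.ext rfl (heq_of_eq ?_)
    exact QuotientGroup.eq.2 (by simpa using hu)

theorem smul_base {s : G} : s • ((1 : G) : D.V) = ((1 : G) : D.V) ↔ s ∈ D.T := by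
  refine QuotientGroup.eq.trans ?_
  simp

theorem smul_base' (a : G) : a • ((1 : G) : D.V) = (a : D.V) := by
  show ((a * 1 : G) : D.V) = _
  simp

variable (D) in
/-- The data that `G'` realizes `D`. -/
def Realizes {G' : Type u} [Group G'] (κ : D.T →* G') (π : G' →* G) : Prop :=
  (∀ s, π (κ s) = s) ∧
  (∀ (Q : Subgroup G) (hQ : Q ≤ D.T) (g : G'),
    (∀ x : Q, g⁻¹ * κ ⟨x, hQ x.2⟩ * g ∈ κ.range) → D.R Q (π g)) ∧
  ∀ (Q : Subgroup G) (hQ : Q ≤ D.T) (a : G), D.R Q a →
    ∃ g, π g = a ∧ ∀ x : Q, g⁻¹ * κ ⟨x, hQ x.2⟩ * g ∈ κ.range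

section Sub

variable {N : Type u} [Group N] {φ : G →* MulAut N}

variable (D) in
/-- The section of `T` into a subgroup of a semidirect product. -/
def kap (K : Subgroup (N ⋊[φ] G)) (hK : ∀ s ∈ D.T, inr s ∈ K) : D.T →* K :=
  (inr.comp D.T.subtype).codRestrict K fun s => hK s s.2

theorem conj_kap_mem_iff {K : Subgroup (N ⋊[φ] G)} {hK : ∀ s ∈ D.T, inr s ∈ K} (g : K) (x : D.T) :
    g⁻¹ * D.kap K hK x * g ∈ (D.kap K hK).range ↔
      φ x g.1.left = g.1.left ∧ g.1.right⁻¹ * x * g.1.right ∈ D.T := by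
  have hl : (g⁻¹ * D.kap K hK x * g).1.left = φ g.1.right⁻¹ (g.1.left⁻¹ * φ x g.1.left) := by
    show (g.1⁻¹ * inr (x : G) * g.1).left = _
    simp
  have hr : (g⁻¹ * D.kap K hK x * g).1.right = g.1.right⁻¹ * x * g.1.right := by
    show (g.1⁻¹ * inr (x : G) * g.1).right = _
    simp
  constructor
  · rintro ⟨y, hy⟩
    rw [← hy] at hl hr
    refine ⟨?_, hr ▸ y.2⟩
    have h1 : (1 : N) = φ g.1.right⁻¹ (g.1.left⁻¹ * φ x g.1.left) := hl
    have := (MulEquiv.map_eq_one_iff _).1 h1.symm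
    exact (inv_mul_eq_one.1 this).symm
  · rintro ⟨h1, h2⟩
    refine ⟨⟨_, h2⟩, Subtype.ext (SemidirectProduct.ext ?_ hr.symm)⟩
    rw [hl, h1, inv_mul_cancel, map_one]; rfl

theorem realizes_of (K : Subgroup (N ⋊[φ] G)) (hK : ∀ s ∈ D.T, inr s ∈ K)
    (h1 : ∀ Q ≤ D.T, ∀ g ∈ K, (∀ x ∈ Q, φ x g.left = g.left) → D.R Q g.right)
    (h2 : ∀ Q a, D.R Q a → ∃ g ∈ K, g.right = a ∧ ∀ x ∈ Q, φ x g.left = g.left) :
    D.Realizes (D.kap K hK) (rightHom.comp K.subtype) := by
  refine ⟨fun s => rfl, fun Q hQ g hg => h1 Q hQ g g.2 fun x hx =>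
    ((conj_kap_mem_iff g _).1 (hg ⟨x, hx⟩)).1, fun Q hQ a ha => ?_⟩
  obtain ⟨g, hg, rfl, h⟩ := h2 Q a ha
  exact ⟨⟨g, hg⟩, rfl, fun x => (conj_kap_mem_iff _ _).2 ⟨h x x.2, D.mem ha x x.2⟩⟩

end Sub

section Finite

variable {p : ℕ} [Fact p.Prime]

theorem sum_eq_zero_of_invariant {Q : Type*} [Group Q] (hQ : IsPGroup p Q) {X : Type*} [Fintype X]
    [MulAction Q X] (f : X → ZMod p) (hf : ∀ (u : Q) x, f (u • x) = f x)
    (h0 : ∀ x, (∀ u : Q, u • x = x) → f x = 0) : ∑ x, f x = 0 := by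
  classical
  rw [← Finset.sum_fiberwise Finset.univ f f]
  refine Finset.sum_eq_zero fun a _ => ?_
  by_cases ha : a = 0
  · exact Finset.sum_eq_zero fun x hx => by rw [(Finset.mem_filter.1 hx).2, ha]
  rw [Finset.sum_congr rfl fun x hx => (Finset.mem_filter.1 hx).2, Finset.sum_const, nsmul_eq_mul]
  let Y : SubMulAction Q X := ⟨{x | f x = a}, fun u x hx => (hf u x).trans hx⟩
  have h1 := hQ.card_modEq_card_fixedPoints Y
  have h2 : IsEmpty (MulAction.fixedPoints Q Y) := ⟨fun y => ha (by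
    rw [← y.1.2]
    exact h0 _ fun u => congrArg Subtype.val (y.2 u))⟩
  rw [Nat.card_of_isEmpty (α := MulAction.fixedPoints Q Y)] at h1
  have h3 : Nat.card Y = (Finset.univ.filter fun x => f x = a).card := by
    rw [← Fintype.card_subtype, ← Nat.card_eq_fintype_card]
    rfl
  rw [← h3, (ZMod.natCast_eq_zero_iff _ _).2 ((Nat.modEq_zero_iff_dvd).1 h1), zero_mul]

variable [Fintype D.E]

variable (D) in
/-- Pairing of the boundary of a chain with a function on vertices. -/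
noncomputable def B (c : D.E → Multiplicative (ZMod p)) (h : D.V → ZMod p) : ZMod p :=
  ∑ e, (c e).toAdd * (h (D.graph.tgt e) - h (D.graph.src e))

theorem B_mul (c d : D.E → Multiplicative (ZMod p)) (h : D.V → ZMod p) :
    D.B (c * d) h = D.B c h + D.B d h := by
  simp [B, add_mul, Finset.sum_add_distrib]

theorem B_inv (c : D.E → Multiplicative (ZMod p)) (h : D.V → ZMod p) :
    D.B c⁻¹ h = - D.B c h := by
  simp [B]

theorem B_smul (g : G) (c : D.E → Multiplicative (ZMod p)) (h : D.V → ZMod p) :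
    D.B (mulAutArrow g c) h = D.B c (fun v => h (g • v)) := by
  unfold B
  refine (Fintype.sum_equiv (MulAction.toPerm g) _ _ fun e => ?_).symm
  show _ = (c (g⁻¹ • g • e)).toAdd * (h (D.graph.tgt (g • e)) - h (D.graph.src (g • e)))
  rw [inv_smul_smul, D.graph.tgt_smul, D.graph.src_smul]

variable (D p) in
/-- The finite group realizing `D`. -/
def finK : Subgroup ((D.E → Multiplicative (ZMod p)) ⋊[mulAutArrow] G) where
  carrier := {g | ∀ h : D.V → ZMod p,
    D.B g.left h = h (g.right • ((1 : G) : D.V)) - h ((1 : G) : D.V)}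
  one_mem' := fun h => by simp [B]
  mul_mem' := fun {a b} ha hb h => by
    rw [mul_left, mul_right, B_mul, B_smul, ha, hb, mul_smul]
    ring
  inv_mem' := fun {a} ha h => by
    rw [inv_left, inv_right, B_smul, B_inv, ha, inv_smul_smul]
    ring

theorem finK_realizes (hT : IsPGroup p D.T) :
    ∃ hK, D.Realizes (D.kap (D.finK p) hK) (rightHom.comp (D.finK p).subtype) := by
  classical
  refine ⟨fun s hs h => ?_, realizes_of _ _ (fun Q hQ g hg hfix => ?_) (fun Q a ha => ?_)⟩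
  · rw [right_inr, smul_base.2 hs]
    simp [B]
  · let h : D.V → ZMod p := fun v => if D.A Q v then 1 else 0
    have h1 := hg h
    have h2 : D.B g.left h = 0 := by
      refine sum_eq_zero_of_invariant (Q := Q) (hT.to_le hQ) _ (fun u e => ?_) (fun e he => ?_)
      · have h3 : g.left ((u : G) • e) = g.left e := by
          conv_lhs => rw [← hfix u u.2]
          exact congrArg g.left (inv_smul_smul (u : G) e)
        show (g.left ((u : G) • e)).toAdd *
          (h (D.graph.tgt ((u : G) • e)) - h (D.graph.src ((u : G) • e))) = _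
        simp only [h3, D.graph.tgt_smul, D.graph.src_smul, h, A_smul u.2]
      · simp only [h, A_edge e fun u hu => he ⟨u, hu⟩, sub_self, mul_zero]
    rw [h2, smul_base'] at h1
    have h4 : D.A Q ((1 : G) : D.V) := A_mk.2 (D.inner hQ D.T.one_mem)
    by_contra hne
    simp [h, h4, A_mk, hne] at h1
  · obtain ⟨e, h1, h2, h3⟩ := exists_edge ha
    refine ⟨⟨fun e' => if e' = e then Multiplicative.ofAdd 1 else 1, a⟩, fun h => ?_, rfl,
      fun x hx => funext fun e' => ?_⟩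
    · unfold B
      rw [Finset.sum_eq_single e (fun e' _ hne => by simp [hne]) (by simp), h1, h2]
      simp
    · show (if x⁻¹ • e' = e then Multiplicative.ofAdd 1 else 1) =
        if e' = e then Multiplicative.ofAdd 1 else 1
      simp only [inv_smul_eq_iff, h3 x hx]

end Finite

section Free

variable [DecidableEq D.E]

variable (D) in
/-- The virtually free group realizing `D`. -/
def freeK : Subgroup (FreeGroup D.E ⋊[phi G D.E] G) where
  carrier := {g | D.graph.Pth ((1 : G) : D.V) g.left (g.right • ((1 : G) : D.V))}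
  one_mem' := Graph.pth_one.2 (one_smul _ _).symm
  mul_mem' := fun {a b} ha hb => by
    have := Graph.Pth.mul ha (Graph.Pth.smul hb a.right)
    rwa [← mul_smul] at this
  inv_mem' := fun {a} ha => by
    have := (Graph.Pth.inv ha).smul a.right⁻¹
    rwa [inv_smul_smul] at this

theorem inr_mem_freeK (s : G) (hs : s ∈ D.T) : inr s ∈ D.freeK :=
  Graph.pth_one.2 (smul_base.2 hs).symm

theorem freeK_realizes :
    D.Realizes (D.kap D.freeK inr_mem_freeK) (rightHom.comp D.freeK.subtype) := by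
  refine realizes_of _ _ (fun Q hQ g hg hfix => ?_) (fun Q a ha => ?_)
  · have := Graph.Pth.iff_of_fixed hg Q hfix (D.A Q) fun e he => A_edge e he
    rw [smul_base', A_mk, A_mk] at this
    exact this.1 (D.inner hQ D.T.one_mem)
  · obtain ⟨e, h1, h2, h3⟩ := exists_edge ha
    refine ⟨⟨FreeGroup.of e, a⟩, ?_, rfl, fun x hx => ?_⟩
    · have := Graph.pth_of (Γ := D.graph) e
      rwa [h1, h2] at this
    · show FreeGroup.map _ (FreeGroup.of e) = _
      rw [FreeGroup.map.of]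
      exact congrArg FreeGroup.of (h3 x hx)

theorem freeK_finite_subgroup (H : Subgroup D.freeK) [Finite H] :
    ∃ g, ∀ h ∈ H, g * h * g⁻¹ ∈ (D.kap D.freeK inr_mem_freeK).range := by
  obtain ⟨n, hn⟩ := (Set.finite_range fun h : H => h.1.1.left.norm).bddAbove
  obtain ⟨x, v, hx, hfix⟩ := Graph.exists_fixed (Γ := D.graph) n (H.map D.freeK.subtype)
    ((1 : G) : D.V) (by rintro _ ⟨h, hh, rfl⟩; exact hn ⟨⟨h, hh⟩, rfl⟩)
    (by rintro _ ⟨h, -, rfl⟩; exact h.2)
  induction v using QuotientGroup.induction_on with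
  | H a =>
    let γ : D.freeK := ⟨⟨x, a⟩, by
      show D.graph.Pth _ x (a • _)
      rwa [smul_base']⟩
    refine ⟨γ⁻¹, fun h hh => ?_⟩
    have hl : (γ⁻¹ * h * γ⁻¹⁻¹).1.left = 1 := by
      have := hfix h.1 ⟨h, hh, rfl⟩
      have h2 : (γ⁻¹ * h * γ⁻¹⁻¹).1.left =
          phi G D.E a⁻¹ (x⁻¹ * h.1.left * phi G D.E h.1.right x) := by
        simp [γ]
      rw [h2, this, map_one]
    have h3 : D.graph.Pth _ (γ⁻¹ * h * γ⁻¹⁻¹).1.left _ := (γ⁻¹ * h * γ⁻¹⁻¹).2
    rw [hl, Graph.pth_one] at h3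
    exact ⟨⟨_, smul_base.1 h3.symm⟩, Subtype.ext (SemidirectProduct.ext hl.symm rfl)⟩

theorem freeK_ker_free : IsFreeGroup (rightHom.comp D.freeK.subtype).ker := by
  let j : (rightHom.comp D.freeK.subtype).ker →* FreeGroup D.E :=
    MonoidHom.mk' (fun g => g.1.1.left) (fun a b => by
      have : a.1.1.right = 1 := a.2
      show (a.1.1 * b.1.1).left = _
      rw [mul_left, this, map_one, MulAut.one_apply])
  have hj : Function.Injective j := fun a b hab =>
    Subtype.ext (Subtype.ext (SemidirectProduct.ext hab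
      ((show a.1.1.right = 1 from a.2).trans (show b.1.1.right = 1 from b.2).symm)))
  exact IsFreeGroup.ofMulEquiv (MonoidHom.ofInjective hj).symm

end Free

end Pre

/-! ### From a fusion system to `Pre` -/

variable {Ω : Type u} [Group Ω] {S : Subgroup Ω}

/-- Every injective homomorphism between subgroups of a finite group is induced by a permutation in
the regular representation. -/
theorem exists_perm_conj {S : Type*} [Group S] [Finite S] {P : Subgroup S} (e : P →* S)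
    (he : Function.Injective e) :
    ∃ t : Equiv.Perm S, ∀ (x : P) (s : S), t (s * x) = t s * e x := by
  have hc : Nat.card (S ⧸ P) = Nat.card (S ⧸ e.range) := by
    have h1 := P.index_mul_card
    have h2 := e.range.index_mul_card
    rw [← Nat.card_congr (MonoidHom.ofInjective he).toEquiv, ← h1] at h2
    exact (Nat.eq_of_mul_eq_mul_right Nat.card_pos h2).symm
  obtain ⟨b⟩ := Finite.card_eq.1 hc
  have hm : ∀ s : S, ((s : S ⧸ P).out)⁻¹ * s ∈ P := fun s =>
    QuotientGroup.eq.1 (QuotientGroup.out_eq' _)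
  let t : S → S := fun s => (b (s : S ⧸ P)).out * e ⟨_, hm s⟩
  have ht : Function.Injective t := by
    intro s s' h
    have h1 : ∀ s, ((t s : S) : S ⧸ e.range) = b (s : S ⧸ P) := fun s => by
      rw [← QuotientGroup.out_eq' (b (s : S ⧸ P))]
      exact QuotientGroup.mk_mul_of_mem _ ⟨_, rfl⟩
    have h2 : (s : S ⧸ P) = (s' : S ⧸ P) := b.injective (by rw [← h1, ← h1, h])
    have h3 : e ⟨_, hm s⟩ = e ⟨_, hm s'⟩ := by
      have : (b (s : S ⧸ P)).out * e ⟨_, hm s⟩ = (b (s' : S ⧸ P)).out * e ⟨_, hm s'⟩ := h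
      have hb : (b (s' : S ⧸ P)).out = (b (s : S ⧸ P)).out := by rw [h2]
      rw [hb] at this
      exact mul_left_cancel this
    have h4 : ((s : S ⧸ P).out)⁻¹ * s = ((s' : S ⧸ P).out)⁻¹ * s' := congrArg Subtype.val (he h3)
    rw [← h2] at h4
    exact mul_left_cancel h4
  refine ⟨Equiv.ofBijective t (Finite.injective_iff_bijective.1 ht), fun x s => ?_⟩
  have h2 : ((s * x : S) : S ⧸ P) = (s : S ⧸ P) := QuotientGroup.mk_mul_of_mem _ x.2
  show (b ((s * x : S) : S ⧸ P)).out * e ⟨_, hm (s * x)⟩ = (b (s : S ⧸ P)).out * e ⟨_, hm s⟩ * e x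
  rw [mul_assoc, ← map_mul]
  congr 2
  · rw [h2]
  · exact Subtype.ext (by simp [h2, mul_assoc])

/-- The right regular representation. -/
def lam (S : Type*) [Group S] : S →* Equiv.Perm S :=
  MonoidHom.mk' (fun x => Equiv.mulRight x⁻¹) (fun x y => by ext s; simp [mul_assoc])

theorem lam_injective (S : Type*) [Group S] : Function.Injective (lam S) := fun x y h => by
  have : (1 : S) * x⁻¹ = 1 * y⁻¹ := congrArg (fun σ : Equiv.Perm S => σ 1) h
  simpa using this

theorem exists_lam_conj [Finite S] {F : FusionSystem S} {P : Subgroup Ω} {f : Ω → Ω}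
    (hf : H90.Map F P f) :
    ∃ a : Equiv.Perm S, ∀ x ∈ P, ext (lam S) (f x) = a⁻¹ * ext (lam S) x * a := by
  let e : P.subgroupOf S →* S := MonoidHom.mk' (fun x => ⟨f x.1, hf.mem x.2⟩)
    (fun x y => Subtype.ext (hf.map_mul x.2 y.2))
  obtain ⟨t, ht⟩ := exists_perm_conj e fun x y h =>
    Subtype.ext (Subtype.ext (hf.inj x.2 y.2 (congrArg Subtype.val h)))
  refine ⟨t⁻¹, fun x hx => ?_⟩
  rw [ext_of_mem (hf.mem hx), ext_of_mem (hf.le hx)]
  ext1 s
  have := ht (⟨⟨x, hf.le hx⟩, hx⟩ : P.subgroupOf S)⁻¹ (t⁻¹ s)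
  rw [map_inv] at this
  show s * (⟨f x, _⟩ : S)⁻¹ = t (t⁻¹ s * (⟨x, _⟩ : S)⁻¹)
  refine Eq.trans ?_ this.symm
  simp [e]

variable {G : Type u} [Group G]

/-- The family of conjugation maps attached to a fusion system and an embedding. -/
def pre (F : FusionSystem S) (ι : S →* G) (hι : Function.Injective ι) : Pre G where
  T := ι.range
  R Q a := Q ≤ ι.range ∧ ∃ f, H90.Map F (preimageAlong ι Q) f ∧
    ∀ x ∈ preimageAlong ι Q, ext ι (f x) = a⁻¹ * ext ι x * a
  mem := by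
    rintro Q a ⟨hQ, f, -, hf⟩ y hy
    obtain ⟨x, hx, rfl⟩ := mem_range_iff_ext.1 (hQ hy)
    exact hf x (mem_preimageAlong.2 ⟨hx, hy⟩) ▸ ext_mem_range _
  inner := by
    intro Q s hQ hs
    obtain ⟨x, hx, rfl⟩ := mem_range_iff_ext.1 hs
    refine ⟨hQ, _, H90.map_conj' F (preimageAlong_le _) (S.inv_mem hx), fun y hy => ?_⟩
    rw [ext_conj (S.inv_mem hx) (preimageAlong_le _ hy), ext_inv hx, inv_inv]
  comp := by
    rintro Q Q' a b ⟨hQ, f, hf, ef⟩ ⟨-, g, hg, eg⟩ h
    have hm : ∀ x ∈ preimageAlong ι Q, f x ∈ preimageAlong ι Q' := fun x hx =>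
      mem_preimageAlong.2 ⟨hf.mem hx, ef x hx ▸ h _ (mem_preimageAlong.1 hx).2⟩
    refine ⟨hQ, _, hf.comp hg hm, fun x hx => ?_⟩
    rw [eg _ (hm x hx), ef x hx]; group
  inv := by
    rintro Q Q' a ⟨hQ, f, hf, ef⟩ h
    obtain ⟨g, hg, eg⟩ := hf.exists_inv
    have key : ∀ y ∈ Q', ∃ x ∈ preimageAlong ι Q, ext ι (f x) = y ∧ ext ι x = a * y * a⁻¹ := by
      intro y hy
      obtain ⟨x, hx, hxe⟩ := mem_range_iff_ext.1 (hQ (h y hy))
      have hx' : x ∈ preimageAlong ι Q := mem_preimageAlong.2 ⟨hx, hxe ▸ h y hy⟩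
      exact ⟨x, hx', by rw [ef x hx', hxe]; group, hxe⟩
    have key2 : ∀ y ∈ preimageAlong ι Q', ∃ x ∈ preimageAlong ι Q, f x = y ∧
        ext ι x = a * ext ι y * a⁻¹ := by
      intro y hy
      obtain ⟨x, hx, h1, h2⟩ := key _ (mem_preimageAlong.1 hy).2
      exact ⟨x, hx, ext_inj hι (hf.mem hx) (preimageAlong_le _ hy) h1, h2⟩
    refine ⟨fun y hy => ?_, g, hg.mono fun y hy => ?_, fun y hy => ?_⟩
    · obtain ⟨x, -, h1, -⟩ := key y hy
      exact h1 ▸ ext_mem_range _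
    · obtain ⟨x, hx, h1, -⟩ := key2 y hy
      exact h1 ▸ H90.mem_im_of_mem f hx
    · obtain ⟨x, hx, h1, h2⟩ := key2 y hy
      rw [inv_inv, ← h2, ← h1, eg x hx]

theorem isRealizedBy_of_realizes {F : FusionSystem S} {ι : S →* G} {hι : Function.Injective ι}
    (hreal : ∀ P f, H90.Map F P f → ∃ a : G, ∀ x ∈ P, ext ι (f x) = a⁻¹ * ext ι x * a)
    {G' : Type u} [Group G'] {κ : (pre F ι hι).T →* G'} {π : G' →* G}
    (h : (pre F ι hι).Realizes κ π) : F.IsRealizedBy (κ.comp ι.rangeRestrict) := by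
  obtain ⟨h1, h2, h3⟩ := h
  have hπ : ∀ s : S, π (κ (ι.rangeRestrict s)) = ι s := fun s => h1 _
  refine ⟨fun a b hab => hι (by rw [← hπ, ← hπ]; exact congrArg π hab), fun P hP φ hφ => ?_⟩
  have hQ : imageAlong ι P ≤ (pre F ι hι).T := imageAlong_le_range P
  have hx : ∀ x : P, ι ⟨x, hP x.2⟩ ∈ imageAlong ι P := fun x => ⟨_, x.2, rfl⟩
  constructor
  · intro h
    obtain ⟨a, ha⟩ := hreal P _ (H90.map_fn h)
    obtain ⟨g, hg, hgr⟩ := h3 _ hQ a ⟨hQ, _, by
      rw [preimageAlong_imageAlong hι hP]; exact H90.map_fn h, by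
      rw [preimageAlong_imageAlong hι hP]; exact ha⟩
    refine ⟨g⁻¹, fun x => ?_⟩
    obtain ⟨y, hy⟩ := hgr ⟨_, hx x⟩
    rw [inv_inv]
    refine Eq.trans (congrArg κ (Subtype.ext ?_)) hy
    have h4 := congrArg π hy
    rw [h1, map_mul, map_mul, map_inv, hg, h1] at h4
    have h5 := ha x x.2
    rw [H90.fn_coe, ext_of_mem (hφ x), ext_of_mem (hP x.2)] at h5
    exact h5.trans h4.symm
  · rintro ⟨g, hg⟩
    obtain ⟨-, f, hf, ef⟩ := h2 _ hQ g⁻¹ (by
      rintro ⟨_, x, hx, rfl⟩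
      rw [inv_inv]
      exact ⟨_, hg ⟨x, hx⟩⟩)
    rw [preimageAlong_imageAlong hι hP] at hf ef
    refine hf.hom_mem fun x => ext_inj hι (hφ x) (hf.mem x.2) ?_
    have h4 := congrArg π (hg x)
    rw [map_mul, map_mul, map_inv] at h4
    rw [ef x x.2, ext_of_mem (hφ x), ext_of_mem (hP x.2), ← hπ, ← hπ, map_inv, inv_inv]
    exact h4

theorem exists_finite_realization [Finite S] {p : ℕ} [Fact p.Prime] (hS : IsPGroup p S)
    (F : FusionSystem S) :
    ∃ (G : Type u) (_ : Group G) (_ : Finite G) (ι : S →* G), F.IsRealizedBy ι := by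
  let D := pre F (lam S) (lam_injective S)
  letI : Fintype D.E := Fintype.ofFinite _
  obtain ⟨hK, h⟩ := Pre.finK_realizes (D := D) (p := p)
    (hS.of_equiv (MonoidHom.ofInjective (lam_injective S)))
  haveI : Finite ((D.E → Multiplicative (ZMod p)) ⋊[mulAutArrow] Equiv.Perm S) :=
    Finite.of_equiv _ SemidirectProduct.equivProd.symm
  exact ⟨_, _, inferInstance, _,
    isRealizedBy_of_realizes (fun _ _ hf => exists_lam_conj hf) h⟩

theorem exists_virtually_free_realization [Finite S] (F : FusionSystem S) :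
    ∃ (G : Type u) (_ : Group G) (ι : S →* G), F.IsRealizedBy ι ∧
      (∀ H : Subgroup G, Finite H → ∃ g : G, ∀ h ∈ H, g * h * g⁻¹ ∈ ι.range) ∧
      ∃ N : Subgroup G, N.Normal ∧ IsFreeGroup N ∧ N.index ∣ (Nat.card S).factorial := by
  classical
  let D := pre F (lam S) (lam_injective S)
  refine ⟨_, _, _, isRealizedBy_of_realizes (fun _ _ hf => exists_lam_conj hf)
    (Pre.freeK_realizes (D := D)), fun H hH => ?_, _, inferInstance, Pre.freeK_ker_free, ?_⟩
  · obtain ⟨g, hg⟩ := Pre.freeK_finite_subgroup (D := D) H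
    refine ⟨g, fun h hh => ?_⟩
    obtain ⟨⟨_, s, rfl⟩, hy⟩ := hg h hh
    exact ⟨s, hy⟩
  · rw [index_ker, ← Nat.card_perm]
    exact card_subgroup_dvd_card _

/-- Forces the on-demand unfolding lemmas of the definitions above to live in this file. -/
theorem park_eq_defs : True := by
  have := @Pre.graph.eq_def.{0}; have := @Pre.graph.eq_1.{0}
  have := @Pre.A.eq_def.{0}; have := @Pre.A.eq_1.{0}
  have := @Pre.Realizes.eq_def.{0}; have := @Pre.Realizes.eq_1.{0}
  have := @Pre.kap.eq_def.{0}; have := @Pre.kap.eq_1.{0}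
  have := @Pre.B.eq_def.{0}; have := @Pre.B.eq_1.{0}
  have := @Pre.finK.eq_def.{0}; have := @Pre.finK.eq_1.{0}
  have := @Pre.freeK.eq_def.{0}; have := @Pre.freeK.eq_1.{0}
  have := @lam.eq_def.{0}; have := @lam.eq_1.{0}
  have := @pre.eq_def.{0}; have := @pre.eq_1.{0}
  trivial

end H93.Park
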