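import Mathlib
import Cfsg.Agent.Base
import Cfsg.Agent.Lib.Fusion.Resist
import Cfsg.Agent.Lib.Fusion.MetaChar
import Cfsg.Agent.Lib.Fusion.AbelChain
import Cfsg.Agent.Lib.BG4.Metacyclic

/-!
# Metacyclic groups are resistant, except for `2`-groups of maximal class
-/

set_option autoImplicit false

namespace H93

open Cfsg Cfsg.FusionSystem H90 Subgroup

universe u

variable {Ω : Type u} [Group Ω] {S : Subgroup Ω} {F : FusionSystem S} {p : ℕ} [Finite S]

theorem mem_zpowers_of_odd (hS : IsPGroup 2 S) {x : Ω} (hx : x ∈ S) {k : ℤ} (hk : Odd k) :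
    x ∈ zpowers (x ^ k) :=
  let ⟨i, hi⟩ := H83.mem_zpowers_zpow_of_odd hS ⟨x, hx⟩ hk
  ⟨i, congrArg Subtype.val hi⟩

theorem exists_sq_of_isMetacyclic {U : Subgroup Ω} [Finite U] (hU : IsPGroup 2 U)
    (hm : IsMetacyclic U) : ∃ c ∈ U, ∀ x ∈ U, ∀ y ∈ U, x⁻¹ * (y * x * y⁻¹) ∈ zpowers (c ^ 2) := by
  obtain ⟨c, d, h⟩ := H77.exists_mcGen hm
  refine ⟨c, c.2, fun x hx y hy => ?_⟩
  have h1 : (⟨x, hx⟩⁻¹ * (⟨y, hy⟩ * ⟨x, hx⟩ * ⟨y, hy⟩⁻¹) : U) ∈ commutator U := by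
    simpa [_root_.commutator_def, commutatorElement_def, mul_assoc] using
      commutator_mem_commutator (mem_top (⟨x, hx⟩⁻¹ : U)) (mem_top (⟨y, hy⟩ : U))
  by_cases h2 : commutator U = ⊥
  · rw [h2, mem_bot] at h1
    rw [show x⁻¹ * (y * x * y⁻¹) = 1 from congrArg Subtype.val h1]
    exact one_mem _
  obtain ⟨k, hk⟩ := h.commutator_le h1
  rcases Int.even_or_odd k with ⟨l, rfl⟩ | hk'
  · exact ⟨l, Eq.trans (by simp only [coe_zpow]; group) (congrArg Subtype.val hk)⟩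
  · exact absurd (H5.commutator_le_frattini hU (zpowers_le.2 ((show c ^ k = _ from hk) ▸ h1)
      (H83.mem_zpowers_zpow_of_odd hU c hk')))
      (not_mem_frattini_of_gen h2 fun g => h.sup_eq_top ▸ mem_top g)

/-- A strongly closed metacyclic `2`-group is normal or of maximal class. -/
theorem maxCl_of_isMetacyclic (hS : IsPGroup 2 S) (hF : F.IsSaturated 2) {P : Subgroup Ω}
    (hP : F.StronglyClosed P) (hm : IsMetacyclic P) (hn : ¬ F.IsNormal P) : MaxCl P := by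
  haveI := finite_of_le hP.1
  obtain ⟨Q, hR⟩ := exists_rad hS hF hP hn
  haveI := finite_of_le hR.norm.1
  have hQ := hS.to_le hR.norm.1
  obtain ⟨V, _, _, X, hV⟩ := exists_sect hQ le_rfl (fun α x => extA_mem α)
    fun α _ h => extA_eq_one_iff.2 h
  obtain ⟨g, hg, -, z₀, α, h⟩ := hR.exists_sl2 hS X
    (hV ▸ index_frattini_le_of_isMetacyclic hQ (H48.isMetacyclic_of_le hm hR.lt.le))
  obtain ⟨c, hc, hcom⟩ := exists_sq_of_isMetacyclic (hS.to_le ((H90.normalizerIn_le P Q).trans hP.1))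
    (H48.isMetacyclic_of_le hm (H90.normalizerIn_le P Q))
  have hQU := le_normalizerIn hR.lt.le
  have he := hR.pow_mem h hc
  have hce : c * c ^ 2 * c⁻¹ = c ^ 2 := by group
  have hcc : c * c = c ^ 2 := (sq c).symm
  have hcQ' : c ∈ Q → X.π (c ^ 2) = 1 := fun h => by
    rw [← zpow_natCast, X.π_zpow h, zpow_natCast, X.exp]
  generalize c ^ 2 = e at *
  have hsq : ∀ v : V, v * v = 1 := fun v => sq v ▸ X.exp v
  have hmv : ∀ s ∈ normalizerIn P Q, s ∉ Q → X.t s (X.ρ α z₀) ≠ X.ρ α z₀ := fun s hs h1 h2 =>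
    h.nmem (h.mem_of_fix ⟨hP.1 hs.1, hs.2⟩ (fun h3 => h1 (hR.mem_of_t_eq_one X hs h3)) h2)
  have key : ∀ s ∈ normalizerIn P Q, X.t s (X.ρ α z₀) ≠ X.ρ α z₀ → ∀ x ∈ Q, X.π x = X.ρ α z₀ →
      X.π e = z₀ ∧ ∃ k : ℤ, Odd k ∧ s * x * s⁻¹ = x * e ^ k := fun s hs h1 x hx h2 => by
    obtain ⟨k, hk⟩ := hcom x (hQU hx) s hs
    have h3 := congrArg X.π hk
    rw [X.π_zpow he, X.π_mul (inv_mem hx) (X.conj_mem hs.2 hx), X.π_inv hx, X.π_conj hs.2 hx,
      h2] at h3
    have h4 := (H83.mem_zpowers_invol (hsq z₀) ((h.tv s ⟨hP.1 hs.1, hs.2⟩).mem _)).resolve_left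
      fun h4 => h1 (inv_mul_eq_one.1 h4).symm
    obtain ⟨h5, h6⟩ := (H83.zpow_eq_one_or_self (hsq (X.π e)) k).resolve_left
      fun h5 => h.ne (by rw [← h4, ← h3, h5.2])
    exact ⟨by rw [← h6, h3, h4], k, h5, by rw [show e ^ k = _ from hk, mul_inv_cancel_left]⟩
  obtain ⟨x₁, hx₁, e₁⟩ := X.π_surj (X.ρ α z₀)
  have hπe := (key g hg h.h₁ x₁ hx₁ e₁).1
  have hcQ : c ∉ Q := fun h1 => h.ne (hπe ▸ hcQ' h1)
  have hu := extA_mem α he
  have hπu := X.π_extA α he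
  have hα := fun (k : ℤ) => (homOn_extA α).zpow he k
  have hnu : ∀ q ∈ Q, q * extA Q α e * q⁻¹ ∈ zpowers (extA Q α e) := fun q hq => by
    have hq' := extA_inv_mem α hq
    obtain ⟨k, hk⟩ := mul_mem (mem_zpowers e) (hcom e (hQU he) _ (hQU hq'))
    refine ⟨k, ?_⟩
    simp only [← hα]
    rw [show e ^ k = _ from hk, mul_inv_cancel_left, (homOn_extA α).conj hq' he]
    simp
  have hone := (homOn_extA α).one
  rw [hπe] at hπu
  generalize extA Q α e = u at *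
  obtain ⟨-, k, hk, e2⟩ := key c hc (hmv c hc hcQ) u hu hπu
  have e3 : e * u * e⁻¹ = u * (e ^ (2 : ℤ)) ^ k := by
    rw [← hcc, mul_inv_rev, mul_assoc c c, mul_assoc c, ← mul_assoc _ c⁻¹, e2, hcc, ← mul_assoc,
      show c * (u * e ^ k) * c⁻¹ = c * u * c⁻¹ * (c * e ^ k * c⁻¹) by group, e2, ← conj_zpow, hce]
    group
  have hodd := fun x hx => mem_zpowers_of_odd hS (x := x) (hR.norm.1 hx) hk
  have e4 : e ^ (2 : ℤ) ∈ zpowers u := zpowers_le.2
    ((mul_mem_cancel_left (mem_zpowers u)).1 (e3 ▸ hnu e he)) (hodd _ (zpow_mem he 2))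
  have e5 : (e ^ (4 : ℤ)) ^ k = 1 := by
    obtain ⟨l, hl⟩ := e4
    have h1 : e ^ (2 : ℤ) * u * (e ^ (2 : ℤ))⁻¹ = u := by rw [← show u ^ l = _ from hl]; group
    rw [show e ^ (2 : ℤ) * u * (e ^ (2 : ℤ))⁻¹ = e * (e * u * e⁻¹) * e⁻¹ by
      rw [zpow_two]; group, e3,
      show e * (u * (e ^ (2 : ℤ)) ^ k) * e⁻¹ = e * u * e⁻¹ * (e ^ (2 : ℤ)) ^ k by group, e3,
      mul_assoc, mul_eq_left] at h1
    rw [← h1]; group
  have e6 : ∀ n : ℤ, (e ^ n) ^ k = 1 → u ^ n = 1 := fun n h1 => by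
    have := hodd _ (zpow_mem he n)
    rw [h1, zpowers_one_eq_bot, mem_bot] at this
    rw [← hα, this, hone]
  haveI := finite_of_le (zpowers_le.2 hu)
  have hQn : Q ≤ normalizer (zpowers u : Set Ω) := fun q hq => by
    refine H90.mem_normalizer_of_conj_mem ?_
    rintro _ ⟨l, rfl⟩
    exact (conj_zpow (a := q)).symm ▸ zpow_mem (hnu q hq) l
  have hen := hQn he
  have hQle : Q ≤ zpowers u ⊔ zpowers e := X.le_of_surj fun v => by
    obtain ⟨i, j, rfl⟩ := h.exists_eq v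
    exact ⟨e ^ i * u ^ j, mul_mem (zpow_mem he i) (zpow_mem hu j), mul_mem (mem_sup_right
      (zpow_mem (mem_zpowers e) i)) (mem_sup_left (zpow_mem (mem_zpowers u) j)), by
      rw [X.π_mul (zpow_mem he i) (zpow_mem hu j), X.π_zpow he, X.π_zpow hu, hπe, hπu]⟩
  have hC : centralizerIn P (zpowers u) ≤ Q := by
    by_contra h1
    obtain ⟨s, hs, hsQ, hsn⟩ := H91.exists_mem_normalizer_of_not_le hS hR.norm.1
      ((H90.centralizerIn_le _ _).trans hP.1) ((le_inf hR.lt.le hQn).trans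
        (normalizerIn_le_normalizer_centralizerIn P (zpowers u))) h1
    refine hmv s ⟨hs.1, hsn⟩ hsQ ?_
    rw [← hπu, ← X.π_conj hsn hu, conj_eq_of_centralizer hs.2 (mem_zpowers u)]
  have hord : ∀ n : ℕ, 0 < n → u ^ (n : ℤ) = 1 → Nat.card (zpowers u) ≤ n := fun n h1 h2 =>
    Nat.card_zpowers u ▸ orderOf_le_of_pow_eq_one h1 (by exact_mod_cast h2)
  haveI := finite_of_le (sup_le (zpowers_le.2 hu) (zpowers_le.2 he))
  refine maxCl_of_card_centralizer (hS.to_le hP.1) (fun h1 => hmv c hc hcQ ?_)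
    (u := ⟨u, hR.lt.le hu⟩) (le_trans (b := Nat.card (centralizerIn P (zpowers u))) ?_ ?_)
  · have := commutator_mem_commutator (mem_top (⟨c, hc.1⟩ : P)) (mem_top ⟨u, hR.lt.le hu⟩)
    rw [← _root_.commutator_def, h1, mem_bot, commutatorElement_def, mul_inv_eq_one] at this
    rw [← hπu, ← X.π_conj hc.2 hu]
    exact congrArg (fun y : P => X.π y) this
  · rw [← card_map_of_injective P.subtype_injective]
    refine H90.card_le_of_le ?_
    rintro _ ⟨y, hy, rfl⟩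
    refine ⟨y.2, ?_⟩
    rintro _ ⟨l, rfl⟩
    exact (Commute.zpow_left (congrArg Subtype.val (hy _ rfl)) l :)
  by_cases h1 : centralizerIn P (zpowers u) ≤ zpowers u
  · exact (H90.card_le_of_le h1).trans (hord 4 (by decide) (e6 4 e5))
  obtain ⟨y, hy, hyu⟩ := SetLike.not_le_iff_exists.1 h1
  obtain ⟨_, ⟨j, rfl⟩, i, rfl⟩ := (H5.mem_sup_zpowers_iff hen).1 (hQle (hC hy))
  rcases Int.even_or_odd i with ⟨l, rfl⟩ | hi
  · exact absurd (mul_mem (zpow_mem (mem_zpowers u) j)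
      (by rw [← two_mul, zpow_mul]; exact zpow_mem e4 l)) hyu
  have h2 : Commute u e := by
    obtain ⟨l, hl⟩ := mem_zpowers_of_odd hS (hR.norm.1 he) hi
    rw [← hl]
    simpa using (((Commute.refl u).zpow_right j).inv_right.mul_right
      (hy.2 u (mem_zpowers u))).zpow_right l
  rw [← h2.eq, mul_inv_cancel_right, left_eq_mul] at e3
  refine (H90.card_le_of_le (hC.trans hQle)).trans ?_
  rw [H5.card_sup_zpowers Nat.prime_two hen (fun h3 => hyu (mul_mem (zpow_mem (mem_zpowers u) j)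
    (zpow_mem h3 i))) (by exact_mod_cast e4)]
  exact Nat.mul_le_mul_right 2 (hord 2 two_pos (e6 2 e3))

theorem isNormal_of_isMetacyclic [Fact p.Prime] (hS : IsPGroup p S) (hF : F.IsSaturated p)
    {P : Subgroup Ω} (hP : F.StronglyClosed P) (hm : IsMetacyclic P) (h : ¬ (p = 2 ∧ MaxCl P)) :
    F.IsNormal P := by
  by_cases h2 : p = 2
  · subst h2
    by_contra hn
    exact h ⟨rfl, maxCl_of_isMetacyclic hS hF hP hm hn⟩
  · exact isNormal_of_isMetacyclic_odd hS hF hP h2 hm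

theorem super_of_isMetacyclic [hp : Fact p.Prime] (hS : IsPGroup p S) (hF : F.IsSaturated p)
    (hm : IsMetacyclic S) (h1 : ¬ ∃ n : ℕ, 0 < n ∧
      Nonempty (S ≃* Multiplicative (ZMod (p ^ n)) × Multiplicative (ZMod (p ^ n))))
    (h2 : ¬ (p = 2 ∧ MaxCl S)) : Super F := by
  have h3 := index_frattini_le_of_isMetacyclic hS hm
  by_cases hc : commutator S = ⊥
  · have hab : ∀ x y : S, x * y = y * x := fun x y => commutatorElement_eq_one_iff_mul_comm.1
      (mem_bot.1 (hc ▸ commutator_mem_commutator (mem_top x) (mem_top y)))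
    letI : CommGroup S := { (inferInstance : Group S) with mul_comm := hab }
    rcases ulmOne_or hS with h | ⟨n, H, _, hn, ⟨e⟩⟩
    · exact super_of_ulmOne hS hF (fun x hx y hy => congrArg Subtype.val (hab ⟨x, hx⟩ ⟨y, hy⟩)) h
    · haveI : Fact (1 < p ^ n) := ⟨Nat.one_lt_pow hn.ne' hp.out.one_lt⟩
      haveI := subsingleton_of_index_frattini_le hS h3 e
      letI := uniqueOfSubsingleton (1 : H)
      exact absurd ⟨n, hn, ⟨e.trans MulEquiv.prodUnique⟩⟩ h1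
  · obtain ⟨M, hM, h4, h5⟩ := (exists_char_of_isMetacyclic hS hm hc).resolve_right h2
    exact super_of_p'_subgroups hS hF (isNormal_of_isMetacyclic hS hF (stronglyClosed_top F) hm h2)
      fun H _ => comm_and_pow_of_char hS h3 hM h4 h5 H

end H93
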