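import Mathlib
import Cfsg.Agent.Base
import Cfsg.Agent.Lib.Fusion.AbIdxH

/-!
# Fusion systems over `2`-groups whose centre has index four
-/

set_option autoImplicit false

namespace H93

open Cfsg Cfsg.FusionSystem H90 Subgroup
open scoped commutatorElement

variable {Ω : Type*} [Group Ω] {S P Q : Subgroup Ω} {x y z u v : Ω} {σ σ' : Equiv.Perm Ω}
  {F : FusionSystem S} [Finite S]

/-- The standing hypotheses: `z` generates the derived subgroup. -/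
structure C2 (F : FusionSystem S) (z : Ω) : Prop where
  ci : CI 2 S
  sat : F.IsSaturated 2
  core : F.core = ⊥
  cen : z ∈ centralizerIn S S
  der : z ∈ ⁅S, S⁆
  ne : z ≠ 1

namespace C2

variable (h : C2 F z)
include h

theorem eq_of_mem (hx : x ∈ ⁅S, S⁆) (h1 : x ≠ 1) : x = z := by
  obtain ⟨w, -, hw⟩ := (Nat.card_eq_two_iff' 1).1 h.ci.card_der
  exact congrArg Subtype.val ((hw ⟨x, h.ci.der_le hx, hx⟩ fun e => h1 (congrArg Subtype.val e)).trans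
    (hw ⟨z, h.cen, h.der⟩ fun e => h.ne (congrArg Subtype.val e)).symm)

theorem mul_self : z * z = 1 := by_contra fun e =>
  h.ne (by simpa using h.eq_of_mem (mul_mem h.der h.der) e)

theorem fix (hσ : Iso F (centralizerIn S S) (centralizerIn S S) σ) : σ z = z :=
  h.eq_of_mem (center_iso_mem_der h.ci.pg h.sat hσ h.cen h.der)
    (mt (hσ.1.map_eq_one_iff h.cen).1 h.ne)

variable (hP : CR F 2 P)
include hP

theorem le : centralizerIn S S ≤ P := (h.ci.ht hP).1.rad.center_le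

theorem iso (hσ : Iso F P P σ) (h1 : σ z ∈ centralizerIn S S) :
    Iso F (centralizerIn S S) (centralizerIn S S) σ := (h.ci.ht hP).1.iso_center hσ
  ((h.ci.ht hP).1.mem_center h.ci.pg h.sat hσ h.ci.card_der ⟨h.cen, h.der⟩ h.ne h1)

theorem inv_not_mem (hσ : Iso F P P σ) (h1 : σ z ∉ centralizerIn S S) :
    σ⁻¹ z ∉ centralizerIn S S := fun e => h1 ((h.iso hP hσ.symm e).inv_mem h.cen)

theorem mul_mem_center (hx : x ∈ P) (hy : y ∈ P) (hx' : x ∉ centralizerIn S S)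
    (hy' : y ∉ centralizerIn S S) : x * y ∈ centralizerIn S S :=
  (mul_mem_iff_of_relIndex (h.ci.ht hP).1.index hx hy).2 (iff_of_false hx' hy')

theorem exists_move : ∃ σ, Iso F P P σ ∧ σ z ∉ centralizerIn S S :=
  let ⟨σ, hσ, _, hw, hw'⟩ := (h.ci.ht hP).1.exists_move h.ci.pg
  ⟨σ, hσ, fun e => hw' ((h.iso hP hσ e).mem hw)⟩

theorem indep (hσ : Iso F P P σ) (hσ' : Iso F P P σ') (h1 : σ z ∉ centralizerIn S S)
    (h2 : σ' z ∉ centralizerIn S S) :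
    (∀ y ∈ centralizerIn S S, σ⁻¹ y ∈ centralizerIn S S → σ'⁻¹ y ∈ centralizerIn S S) ∧
      (σ' z = σ z ∨ σ' z * σ z = z) := by
  have hz := h.le hP h.cen
  by_cases h3 : (σ⁻¹ * σ') z ∈ centralizerIn S S
  · have h4 := h.iso hP (hσ'.trans hσ.symm) h3
    exact ⟨fun y _ hy => by simpa using h4.inv_mem hy,
      .inl (Equiv.Perm.inv_eq_iff_eq.1 (h.fix h4))⟩
  obtain ⟨h4, h5⟩ := h.ci.ht hP
  obtain ⟨g, hg, hg'⟩ := h5.exists_not_mem
  have h6 := (hσ'.trans hσ.symm).mem hz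
  have h7 : (σ * cj g * σ⁻¹ * σ') z = σ' z * σ z := by
    have h7 := h.eq_of_mem (commutator_mem_commutator (inv_mem (hP.lt.le h6)) hg) fun e =>
      h3 (inv_mem_iff.1 (h5.mem_center hg hg' (inv_mem h6) e))
    rw [commutatorElement_def, inv_inv, mul_assoc, mul_assoc, inv_mul_eq_iff_eq_mul, ← mul_assoc] at h7
    exact (congrArg σ h7).trans (by rw [hσ.homOn.mul h6 hz]; simp)
  have h8 := h.iso hP (hσ'.trans (hσ.conj (iso_cj F hP.lt.le hg (h5.norm hg))))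
    (h7 ▸ h.mul_mem_center hP (hσ'.mem hz) (hσ.mem hz) h2 h1)
  refine ⟨fun y hy hy' => h8.mem_iff.1 ?_, .inr (h7.symm.trans (h.fix h8))⟩
  have h9 : cj g (σ⁻¹ y) = σ⁻¹ y := conj_eq_of_centralizer (fun _ hw => center_comm hw hg) hy'
  rwa [Equiv.Perm.mul_apply, perm_apply_inv, Equiv.Perm.mul_apply, Equiv.Perm.mul_apply, h9,
    perm_apply_inv]

omit hP in
theorem eq_one (hy : y ∈ centralizerIn S S)
    (h1 : ∀ P σ, CR F 2 P → Iso F P P σ → σ y ∈ centralizerIn S S) : y = 1 := by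
  let Y : Subgroup Ω :=
    { carrier := {y | y ∈ centralizerIn S S ∧
        ∀ P σ, CR F 2 P → Iso F P P σ → σ y ∈ centralizerIn S S}
      one_mem' := ⟨one_mem _, fun P σ _ hσ => hσ.homOn.one.symm ▸ one_mem _⟩
      mul_mem' := fun ha hb => ⟨mul_mem ha.1 hb.1, fun P σ hP hσ => hσ.homOn.mul (h.le hP ha.1)
        (h.le hP hb.1) ▸ mul_mem (ha.2 P σ hP hσ) (hb.2 P σ hP hσ)⟩
      inv_mem' := fun ha => ⟨inv_mem ha.1, fun P σ hP hσ =>
        hσ.homOn.inv (h.le hP ha.1) ▸ inv_mem (ha.2 P σ hP hσ)⟩ }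
  have h2 : ∀ γ, Iso F S S γ → ∀ y ∈ Y, γ y ∈ Y := fun γ hγ y hy =>
    ⟨iso_mem_center hγ hy.1, fun P σ hP hσ => by simpa using iso_mem_center hγ (hy.2 _ _
      (hP.conj hγ.symm) ((hγ.symm.restrict hP.lt.le).conj hσ))⟩
  refine (eq_bot_of_inv h.ci.pg h.sat h.core (Y := Y) (fun _ hy => hy.1) fun P hP σ hσ y hy =>
    hP.elim (fun e => h2 σ (e ▸ hσ) y hy) fun hP => ?_).le ⟨hy, h1⟩
  have h3 := cr_of_isEssential h.ci.pg h.sat hP
  obtain ⟨γ, hγ, e⟩ := (h.ci.ht h3).1.exists_ext h.ci.pg h.sat hσ h.ci.card_der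
  exact e y hy.1 (hy.2 P σ h3 hσ) ▸ h2 γ hγ y hy

theorem sq_eq_one (hx : x ∈ P) : x * x = 1 := by
  have h1 : ∀ y ∈ centralizerIn S S, y * y = 1 := fun y hy => h.eq_one (mul_mem hy hy)
    fun Q σ hQ hσ => by
      rw [hσ.homOn.mul (h.le hQ hy) (h.le hQ hy), ← sq]
      exact h.ci.pow_mem (hQ.lt.le (hσ.mem (h.le hQ hy)))
  refine by_contra fun e => e ?_
  obtain ⟨σ, hσ, h2⟩ := h.exists_move hP
  have hz := h.le hP h.cen
  have h3 := h1 _ (h.mul_mem_center hP hx (hσ.mem hz) (fun e' => e (h1 x e')) h2)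
  rwa [mul_assoc, ← mul_assoc (σ z), (h.ci.ht hP).2.comm _ (hσ.mem hz) x hx, mul_assoc,
    ← hσ.homOn.mul hz hz, h.mul_self, hσ.homOn.one, mul_one] at h3

theorem eq_of_mem_inf (hQ : CR F 2 Q) (hx : x ∈ P) (hx' : x ∈ Q) (h1 : x ∉ centralizerIn S S) :
    P = Q := (h.ci.eq_sup (h.le hP) hP.lt hx h1).symm.trans (h.ci.eq_sup (h.le hQ) hQ.lt hx' h1)

theorem eq_or_eq (hQ : CR F 2 Q) (hne : Q ≠ P) {R : Subgroup Ω} (hR : CR F 2 R) : R = P ∨ R = Q := by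
  by_contra! hn
  obtain ⟨σ, hσ, h1⟩ := h.exists_move hQ
  obtain ⟨σ', hσ', h2⟩ := h.exists_move hR
  have h3 := hσ.mem (h.le hQ h.cen)
  have h4 := hσ'.mem (h.le hR h.cen)
  have h5 := h.sq_eq_one hP ((mul_mem_iff_of_relIndex (h.ci.ht hP).2.index (hR.lt.le h4)
    (hQ.lt.le h3)).2 (iff_of_false (fun e => hn.1 (h.eq_of_mem_inf hR hP h4 e h2))
      fun e => hne (h.eq_of_mem_inf hQ hP h3 e h1)))
  refine h2 ((h.ci.ht hR).2.mem_center (hQ.lt.le h3)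
    (fun e => hn.2 (h.eq_of_mem_inf hR hQ e h3 h1)) h4 ?_)
  rwa [commutatorElement_def, inv_eq_of_mul_eq_one_left (h.sq_eq_one hR h4),
    inv_eq_of_mul_eq_one_left (h.sq_eq_one hQ h3), mul_assoc]

omit hP in
theorem exists_pair (hS : S ≠ ⊥) : ∃ P Q, CR F 2 P ∧ CR F 2 Q ∧ Q ≠ P := by
  by_contra! hn
  obtain ⟨P, hP⟩ : ∃ P, F.IsEssential 2 P := by
    by_contra! h1
    exact hS (eq_bot_iff.2 ((H91.IsNormal.le_core'
      (isNormal_top_of_no_essential h.ci.pg h.sat h1)).trans h.core.le))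
  have h1 := cr_of_isEssential h.ci.pg h.sat hP
  refine h.ne ((H91.IsNormal.le_core' (isNormal_of_essential h.ci.pg h.sat fun R hR => ?_)).trans
    h.core.le (h.le h1 h.cen))
  obtain rfl | hR := hR
  · exact ⟨h1.lt.le, fun σ hσ x hx => (hn _ _ h1 (h1.conj hσ)).le (mem_im_of_mem σ hx)⟩
  · obtain rfl := hn _ _ h1 (cr_of_isEssential h.ci.pg h.sat hR)
    exact ⟨le_rfl, fun σ hσ x => hσ.mem⟩

variable (hQ : CR F 2 Q) (hne : Q ≠ P) (hσ : Iso F P P σ) (hσ' : Iso F Q Q σ')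
  (h1 : σ z ∉ centralizerIn S S) (h2 : σ' z ∉ centralizerIn S S)
include hQ hne hσ hσ' h1 h2

theorem mul_mem_der (hx : x ∈ centralizerIn S S) (hy : y ∈ centralizerIn S S) (hx' : x ∉ ⁅S, S⁆)
    (hy' : y ∉ ⁅S, S⁆) : x * y ∈ ⁅S, S⁆ := by
  have h3 : ∀ w ∈ centralizerIn S S, σ⁻¹ w ∈ centralizerIn S S → σ'⁻¹ w ∈ centralizerIn S S →
      w = 1 := fun w hw e e' => h.eq_one hw fun R τ hR hτ => by_contra fun h4 => h4 (by
    have h5 := fun e => h4 ((h.iso hR hτ.symm e).inv_mem hw)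
    obtain rfl | rfl := h.eq_or_eq hP hQ hne hR
    exacts [(h.indep hP hσ hτ.symm h1 h5).1 w hw e, (h.indep hQ hσ' hτ.symm h2 h5).1 w hw e'])
  have h4 : ∀ w ∈ centralizerIn S S, w ∉ ⁅S, S⁆ → ∃ k : ℤ, σ⁻¹ (w * z ^ k) ∈ centralizerIn S S ∧
      σ'⁻¹ (w * z ^ k) ∉ centralizerIn S S := fun w hw hw' => by
    obtain ⟨k, hk⟩ := (h.ci.ht hP).1.exists_zpow hσ.symm (h.le hP h.cen)
      (h.inv_not_mem hP hσ h1) (h.le hP hw)
    exact ⟨k, hk, fun e => hw' (eq_inv_of_mul_eq_one_left (h3 _ (mul_mem hw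
      (zpow_mem h.cen k)) hk e) ▸ inv_mem (zpow_mem h.der k))⟩
  obtain ⟨k, h5, h6⟩ := h4 x hx hx'
  obtain ⟨l, h7, h8⟩ := h4 y hy hy'
  have h9 := mul_mem hx (zpow_mem h.cen k)
  have h10 := mul_mem hy (zpow_mem h.cen l)
  have h11 := h3 _ (mul_mem h9 h10) (hσ.symm.homOn.mul (h.le hP h9) (h.le hP h10) ▸ mul_mem h5 h7)
    (hσ'.symm.homOn.mul (h.le hQ h9) (h.le hQ h10) ▸ h.mul_mem_center hQ
      (hσ'.inv_mem (h.le hQ h9)) (hσ'.inv_mem (h.le hQ h10)) h6 h8)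
  rw [mul_assoc, ← mul_assoc (z ^ k), center_comm (zpow_mem h.cen k) hy.1, mul_assoc,
    ← mul_assoc] at h11
  exact eq_inv_of_mul_eq_one_left h11 ▸ inv_mem (mul_mem (zpow_mem h.der k) (zpow_mem h.der l))

theorem focal_le : F.focalSubgroup ≤ ⁅S, S⁆ ⊔ zpowers (σ z) ⊔ zpowers (σ' z) := by
  have hu := hσ.mem (h.le hP h.cen)
  have hv := hσ'.mem (h.le hQ h.cen)
  generalize hM : ⁅S, S⁆ ⊔ zpowers (σ z) ⊔ zpowers (σ' z) = M
  have m0 : ⁅S, S⁆ ≤ M := hM ▸ le_sup_of_le_left le_sup_left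
  have m1 : σ z ∈ M := hM ▸ mem_sup_left (mem_sup_right (mem_zpowers _))
  have m2 : σ' z ∈ M := hM ▸ mem_sup_right (mem_zpowers _)
  have hn := le_normalizer_of_der_le m0 (hM ▸ sup_le (sup_le (commutator_le_self S)
    (zpowers_le.2 (hP.lt.le hu))) (zpowers_le.2 (hQ.lt.le hv)))
  have h3 : ∀ R τ, CR F 2 R → Iso F R R τ → τ z ∈ M := fun R τ hR hτ => by
    by_cases h3 : τ z ∈ centralizerIn S S
    · exact (h.fix (h.iso hR hτ h3)).symm ▸ m0 h.der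
    obtain rfl | rfl := h.eq_or_eq hP hQ hne hR
    · exact (h.indep hP hσ hτ h1 h3).2.elim (· ▸ m1) fun e =>
        (mul_mem_cancel_right m1).1 (e.symm ▸ m0 h.der)
    · exact (h.indep hQ hσ' hτ h2 h3).2.elim (· ▸ m2) fun e =>
        (mul_mem_cancel_right m2).1 (e.symm ▸ m0 h.der)
  have h4 : ∀ γ, Iso F S S γ → ∀ y ∈ centralizerIn S S, γ y * y⁻¹ ∈ M := fun γ hγ y hy => m0 (by
    by_cases h4 : y ∈ ⁅S, S⁆
    · exact mul_mem (iso_mem_der hγ h4) (inv_mem h4)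
    · exact h.mul_mem_der hP hQ hne hσ hσ' h1 h2 (iso_mem_center hγ hy) (inv_mem hy)
        (fun e => h4 (by simpa using iso_mem_der hγ.symm e)) (mt inv_mem_iff.1 h4))
  suffices h5 : ∀ R β, R = S ∨ F.IsEssential 2 R → Iso F R R β → ∀ x ∈ R, β x * x⁻¹ ∈ M by
    refine focalSubgroup_le_iff.2 fun R f hf x hx => ?_
    obtain ⟨τ, hτ, e⟩ := alperin_induction h.ci.pg h.sat (C := fun R τ => ∀ x ∈ R, τ x * x⁻¹ ∈ M)
      (fun _ R β hR hβ hle x hx => h5 R β hR hβ x (hle hx)) (fun _ _ τ τ' _ _ h5 h6 h7 x hx => by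
        simpa [mul_assoc] using mul_mem (h6 _ (h7 x hx)) (h5 x hx)) hf
    simpa [e x hx, mul_assoc] using le_normalizer_iff.1 hn _ (inv_mem (hf.le hx)) _ (hτ x hx)
  rintro R β (rfl | hR) hβ x hx
  · have h5 : ∀ T τ, CR F 2 T → Iso F T T τ → τ z ∈ mov M hβ.homOn hn := fun T τ hT hτ =>
      ⟨hT.lt.le (hτ.mem (h.le hT h.cen)), mul_mem (by
        have h5 := h3 _ _ (hT.conj hβ) ((hβ.restrict hT.lt.le).conj hτ)
        rwa [Equiv.Perm.mul_apply, h.fix ((hβ.symm.1.mono inf_le_left).iso_self fun _ =>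
          iso_mem_center hβ.symm)] at h5) (inv_mem (h3 T τ hT hτ))⟩
    have h6 : centralizerIn R R ≤ mov M hβ.homOn hn := fun y hy => ⟨hy.1, h4 β hβ y hy⟩
    exact ((((h.ci.ht hP).2.sup (hQ.lt.le hv) fun e => hne (h.eq_of_mem_inf hQ hP hv e h2)).ge.trans
      (sup_le ((h.ci.eq_sup (h.le hP) hP.lt hu h1).ge.trans (sup_le h6
        (zpowers_le.2 (h5 _ _ hP hσ)))) (zpowers_le.2 (h5 _ _ hQ hσ')))) hx).2
  have h5 := cr_of_isEssential h.ci.pg h.sat hR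
  have hz := h.le h5 h.cen
  obtain ⟨τ, hτ, h6⟩ := h.exists_move h5
  obtain ⟨γ, hγ, h7⟩ := (h.ci.ht h5).1.exists_ext h.ci.pg h.sat hβ h.ci.card_der
  have h8 : ∀ y ∈ centralizerIn S S, β y ∈ centralizerIn S S →
      y ∈ mov M hβ.homOn (h5.lt.le.trans hn) := fun y hy e => ⟨h.le h5 hy, h7 y hy e ▸ h4 γ hγ y hy⟩
  have h9 : ∀ τ, Iso F R R τ → τ z ∈ mov M hβ.homOn (h5.lt.le.trans hn) := fun τ hτ =>
    ⟨hτ.mem hz, mul_mem (h3 _ _ h5 (hτ.trans hβ)) (inv_mem (h3 _ _ h5 hτ))⟩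
  refine (((h.ci.eq_sup (h.le h5) h5.lt (hτ.mem hz) h6).ge.trans (sup_le (fun y hy => by_contra
    fun e => e ((mul_mem_cancel_right (h9 1 (iso_refl F h5.lt.le))).1 (h8 _ (mul_mem hy h.cen) ?_)))
      (zpowers_le.2 (h9 τ hτ)))) hx).2
  exact hβ.homOn.mul (h.le h5 hy) hz ▸ h.mul_mem_center h5 (hβ.mem (h.le h5 hy)) (hβ.mem hz)
    (fun e' => e (h8 y hy e')) fun e' => e (h8 y hy ((h.iso h5 hβ e').mem hy))

end C2

theorem CI.center_le_of_two (h : CI 2 S) (hF : F.IsSaturated 2) (hcore : F.core = ⊥)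
    (hfoc : S ≤ F.focalSubgroup) : centralizerIn S S ≤ ⁅S, S⁆ := by
  obtain ⟨z, hz, hz'⟩ := exists_ne_one_of_card h.card_der
  have h1 : C2 F z := ⟨h, hF, hcore, hz.1, hz.2, hz'⟩
  obtain ⟨P, Q, hP, hQ, hne⟩ := h1.exists_pair fun e => h.na (e.le.trans bot_le)
  obtain ⟨σ, hσ, h2⟩ := h1.exists_move hP
  obtain ⟨σ', hσ', h3⟩ := h1.exists_move hQ
  have hu := hσ.mem (h1.le hP hz.1)
  have hv := hσ'.mem (h1.le hQ hz.1)
  have h4 : ⁅S, S⁆ ⊔ zpowers (σ z) ≤ P := sup_le (h.der_le.trans (h1.le hP)) (zpowers_le.2 hu)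
  have h5 := H5.card_sup_zpowers Nat.prime_two (le_normalizer_of_der_le le_sup_left
    (h4.trans hP.lt.le) (hQ.lt.le hv)) (fun e => hne (h1.eq_of_mem_inf hQ hP hv (h4 e) h3))
    (by rw [sq, h1.sq_eq_one hQ hv]; exact one_mem _)
  rw [H5.card_sup_zpowers Nat.prime_two (le_normalizer_of_der_le le_rfl (commutator_le_self S)
    (hP.lt.le hu)) (fun e => h2 (h.der_le e)) (by rw [sq, h1.sq_eq_one hP hu]; exact one_mem _),
    le_antisymm (sup_le (h4.trans hP.lt.le) (zpowers_le.2 (hQ.lt.le hv)))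
      (hfoc.trans (h1.focal_le hP hQ hne hσ hσ' h2 h3)),
    ← H1.card_mul_relIndex_of_le (H90.centralizerIn_le S S), h.index_eq] at h5
  exact (H90.eq_of_le_of_card_le h.der_le (by omega)).ge

end H93
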