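import Mathlib
import Cfsg.Agent.Lib.Fusion.Control

/-!
# Agemo subgroups of the centre in fusion systems over groups of small class (helper92)
-/

set_option autoImplicit false

namespace H92

open Cfsg Cfsg.FusionSystem H90 Equiv Polynomial

theorem pow_mul_eq_zero_comm {R : Type*} [CommRing R] {p : ℕ} (hp : p.Prime) {x : R} {n : ℕ}
    (h1 : (x + 1) ^ p = 1) (h2 : x ^ (n * (p - 1) + 1) = 0) : (p : R) ^ n * x = 0 := by
  obtain ⟨r, hr⟩ := exists_add_pow_prime_eq hp (X : ℤ[X]) 1
  have h0 : r.coeff 0 = 1 := by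
    have := congrArg (fun q : ℤ[X] => q.coeff 1) hr
    simp only [coeff_X_add_one_pow, Nat.choose_one_right, one_pow, mul_one, coeff_add, coeff_X_pow,
      if_neg hp.one_lt.ne, coeff_one, one_ne_zero, if_false, zero_add, mul_assoc,
      coeff_natCast_mul] at this
    rw [show (1 : ℕ) = 0 + 1 from rfl, coeff_X_mul] at this
    exact (mul_left_cancel₀ (Nat.cast_ne_zero.2 hp.ne_zero) ((mul_one _).trans this)).symm
  have h3 := congrArg (aeval x) hr
  rw [← X_mul_divX_add r, h0] at h3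
  simp only [map_add, map_pow, map_mul, aeval_X, map_one, map_natCast, one_pow, h1] at h3
  set u := x * aeval x r.divX + 1 with hu
  have h4 : ∀ k, (p * u) ^ k * x = (-1) ^ k * x ^ (k * (p - 1) + 1) := fun k => by
    induction k with
    | zero => simp
    | succ k ih =>
      obtain ⟨q, rfl⟩ : ∃ q, p = q + 1 := ⟨p - 1, (Nat.sub_add_cancel hp.pos).symm⟩
      rw [Nat.add_sub_cancel] at ih ⊢
      rw [pow_succ, show (k + 1) * q + 1 = (k * q + 1) + q by ring, pow_add x _ q, pow_succ (-1 : R)]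
      linear_combination -((((q + 1 : ℕ) : R) * u) ^ k) * h3 - x ^ q * ih
  have h5 : IsUnit u := by
    rw [hu]
    exact ((Commute.all _ _).isNilpotent_mul_right ⟨_, h2⟩).isUnit_add_one
  refine (h5.pow n).mul_right_eq_zero.1 ?_
  rw [← mul_zero ((-1 : R) ^ n), ← h2, ← h4, mul_pow]
  ring

open scoped IsMulCommutative in
theorem pow_mul_eq_zero {R : Type*} [Ring R] {p : ℕ} (hp : p.Prime) {x : R} {n : ℕ}
    (h1 : (x + 1) ^ p = 1) (h2 : x ^ (n * (p - 1) + 1) = 0) : (p : R) ^ n * x = 0 :=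
  congrArg Subtype.val (pow_mul_eq_zero_comm (R := Algebra.adjoin ℤ ({x} : Set R)) hp
    (x := ⟨x, Algebra.self_mem_adjoin_singleton ℤ x⟩) (n := n) (Subtype.ext h1) (Subtype.ext h2))

open scoped IsMulCommutative in
/-- An element `g` with `g ^ p` centralizing the abelian group `Z` and `[Z, g; n(p-1)+1] = 1`
centralizes the `p ^ n`-th powers of the elements of `Z`. -/
theorem conj_pow_eq {Ω : Type*} [Group Ω] {p n : ℕ} (hp : p.Prime) {S Z : Subgroup Ω}
    [IsMulCommutative Z] (hZ : Z ≤ S) {g : Ω} (hg : g ∈ S)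
    (hn : g ∈ Subgroup.normalizer (Z : Set Ω)) (hc : g ^ p ∈ Subgroup.centralizer (Z : Set Ω))
    (hS : S.lowerCentralSeries (n * (p - 1) + 1) = ⊥) {z : Ω} (hz : z ∈ Z) :
    g * z ^ p ^ n * g⁻¹ = z ^ p ^ n := by
  let a : Module.End ℤ (Additive Z) :=
    (MonoidHom.toAdditive (Z.normalizerMonoidHom ⟨g, hn⟩).toMonoidHom).toIntLinearMap
  have ha : ∀ v : Additive Z, ((a v).toMul : Ω) = g * v.toMul * g⁻¹ := fun _ => rfl
  have h1 : ∀ k (v : Additive Z), (((a ^ k) v).toMul : Ω) = g ^ k * v.toMul * (g ^ k)⁻¹ :=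
    fun k v => by
      induction k with
      | zero => simp
      | succ k ih => rw [pow_succ', Module.End.mul_apply, ha, ih, pow_succ']; group
  have h2 : ∀ k (v : Additive Z), ((((a - 1) ^ k) v).toMul : Ω) ∈ S.lowerCentralSeries k :=
    fun k v => by
      induction k with
      | zero => exact hZ (Subtype.prop _)
      | succ k ih =>
        rw [pow_succ', Module.End.mul_apply, LinearMap.sub_apply, Module.End.one_apply,
          sub_eq_add_neg, toMul_add, toMul_neg, Subgroup.coe_mul, Subgroup.coe_inv, ha,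
          Subgroup.lowerCentralSeries_succ, Subgroup.commutator_comm]
        exact Subgroup.commutator_mem_commutator hg ih
  have h3 := pow_mul_eq_zero hp (x := a - 1) (n := n) (LinearMap.ext fun v => Additive.toMul.injective
    (Subtype.ext (by rw [sub_add_cancel, h1, conj_eq_of_centralizer hc (Subtype.prop _)]; rfl)))
    (LinearMap.ext fun v => Additive.toMul.injective (Subtype.ext (by
      have := h2 (n * (p - 1) + 1) v
      rwa [hS, Subgroup.mem_bot] at this)))
  have h4 := congrArg (fun f : Module.End ℤ (Additive Z) =>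
    ((f (Additive.ofMul ⟨z, hz⟩)).toMul : Ω)) h3
  rw [← Nat.cast_pow, ← nsmul_eq_mul] at h4
  simp only [LinearMap.smul_apply, LinearMap.sub_apply, Module.End.one_apply, smul_sub, toMul_sub,
    toMul_nsmul, LinearMap.zero_apply, toMul_zero, toMul_ofMul, div_eq_mul_inv, Subgroup.coe_mul,
    Subgroup.coe_inv, Subgroup.coe_pow, Subgroup.coe_one, ha, conj_pow] at h4
  exact mul_inv_eq_one.1 h4

open scoped commutatorElement in
theorem pow_mem_upperCentralSeries {G : Type*} [Group G] {e : ℕ}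
    (h : ∀ z ∈ Subgroup.center G, z ^ e = 1) (i : ℕ) {x : G}
    (hx : x ∈ Subgroup.upperCentralSeries G (i + 1)) : x ^ e ∈ Subgroup.upperCentralSeries G i := by
  induction i generalizing x with
  | zero => exact Subgroup.mem_bot.2 (h x (by rwa [← Subgroup.upperCentralSeries_one]))
  | succ i ih =>
    refine Subgroup.mem_upperCentralSeries_succ_iff.2 fun y => ?_
    have h1 := Subgroup.mem_upperCentralSeries_succ_iff.1 hx y
    let π := QuotientGroup.mk' (Subgroup.upperCentralSeries G i)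
    have h2 : ∀ w, π w * π ⁅x, y⁆ = π ⁅x, y⁆ * π w := fun w => by
      have := (QuotientGroup.eq_one_iff _).2 (Subgroup.mem_upperCentralSeries_succ_iff.1 h1 w)
      exact (commutatorElement_eq_one_iff_mul_comm.1 ((map_commutatorElement π _ _).symm.trans
        this)).symm
    have h3 : ∀ k : ℕ, π ⁅x ^ k, y⁆ = π (⁅x, y⁆ ^ k) := fun k => by
      induction k with
      | zero => simp
      | succ k ih =>
        have : ⁅x ^ (k + 1), y⁆ = x ^ k * ⁅x, y⁆ * (x ^ k)⁻¹ * ⁅x ^ k, y⁆ := by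
          simp only [commutatorElement_def, pow_succ]; group
        rw [this, map_mul, map_mul, map_mul, h2, ih, map_inv, mul_inv_cancel_right, ← map_mul,
          pow_succ']
    exact (QuotientGroup.eq_one_iff _).1 ((h3 e).trans ((QuotientGroup.eq_one_iff _).2 (ih h1)))

theorem pow_pow_eq_one_of_center {G : Type*} [Group G] {e : ℕ}
    (h : ∀ z ∈ Subgroup.center G, z ^ e = 1) (i : ℕ) {x : G}
    (hx : x ∈ Subgroup.upperCentralSeries G i) : x ^ e ^ i = 1 := by
  induction i generalizing x with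
  | zero => simpa using hx
  | succ i ih => rw [pow_succ', pow_mul, ih (pow_mem_upperCentralSeries h i hx)]

variable {Ω : Type*} [Group Ω] {S : Subgroup Ω} {F : FusionSystem S} {p : ℕ} [Finite S]
  [Fact p.Prime] (hS : IsPGroup p S) (hF : F.IsSaturated p)
include hS hF

theorem isNormal_of_centralizer_not_le {U : Subgroup Ω} (hU : U ≤ centralizerIn S S)
    (htop : ∀ σ, Iso F S S σ → ∀ x ∈ U, σ x ∈ U)
    (h : ∀ P, P < S → F.IsEssential p P → ∃ V, U ≤ V ∧ V ≤ P ∧
      (∀ σ, Iso F P P σ → ∀ x ∈ V, σ x ∈ V) ∧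
      ∃ g ∈ normalizerIn S P, g ∉ P ∧ g ∈ Subgroup.centralizer (V : Set Ω)) : F.IsNormal U := by
  have hUS := hU.trans (centralizerIn_le S S)
  have hn : S ≤ Subgroup.normalizer (U : Set Ω) := (Subgroup.le_centralizer_iff.1
    (hU.trans inf_le_right)).trans (Subgroup.centralizer_le_normalizer _)
  have ht : ∀ σ, Iso F S S σ → Map (nsys F U hUS) S σ := fun σ hσ =>
    map_nsys.2 (nmap_of_map hσ.map le_rfl hUS hn (htop σ hσ))
  refine isNormal_of_nmap hUS fun P f hf => map_nsys.1 (hf.of_sub (sub_of_essential' hS hF ht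
    fun P hP hext φ hφ => ?_))
  have hPS := hP.1.1
  rcases hPS.eq_or_lt with rfl | hlt
  · exact mem_autGroup_of_map (ht _ (iso_extA hPS hφ)) fun _ _ => rfl
  obtain ⟨V, hUV, hVP, hV, g, hg, hgP, hgV⟩ := h P hlt hP
  have hK : H91.NormalAut F P (F.autGroup P ⊓ (fixP V).comap (extA P)) :=
    ⟨inf_le_left, fun α hα κ hκ => ⟨mul_mem (mul_mem hα hκ.1) (Subgroup.inv_mem _ hα), fun y hy => by
      have := hκ.2 _ (hV _ (iso_extA hPS (Subgroup.inv_mem _ hα)) y hy)
      rw [extA_mul_apply, extA_mul_apply, this, ← extA_mul_apply, mul_inv_cancel, map_one]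
      rfl⟩⟩
  obtain ⟨κ, hκ, α, hα, rfl, hN⟩ := hK.factor hS hF hP.2.1 hφ
  refine mul_mem (mem_autGroup_of_map (map_nsys.2 (nmap_of_map (iso_extA hPS hκ.1).map le_rfl
    (hUV.trans hVP) (hPS.trans hn) fun x hx => (hκ.2 x (hUV hx)).symm ▸ hx)) fun _ _ => rfl)
    (hext ?_)
  have hg' := hN g hg ⟨autInducedBy_le_autGroup F hPS (conjAut_mem hg.1 hg.2),
    fun y hy => by rw [extA_conjAut hg.2 (hVP hy), conj_eq_of_centralizer hgV hy]⟩
  obtain ⟨τ, hτ, e⟩ := (iso_extA hPS hα).extend (receptive_of_normalized hS hF hP.2.1)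
  exact mem_extAut (lt_of_le_not_ge (iso_extA hPS hα).map.le_Next fun h => hgP (h hg')) hτ
    fun x hx => (e x hx).symm

omit hF in
theorem exists_mem_normalizer_pow_mem {P : Subgroup Ω} (h : P < S) :
    ∃ g ∈ normalizerIn S P, g ∉ P ∧ g ^ p ∈ P := by
  obtain ⟨g, hg, hgP⟩ := SetLike.exists_of_lt (lt_normalizerIn hS h)
  obtain ⟨k, hk⟩ := hS ⟨g, hg.1⟩
  have h1 : g ^ p ^ k ∈ P := by
    rw [show g ^ p ^ k = 1 from congrArg Subtype.val hk]; exact P.one_mem
  clear hk
  induction k with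
  | zero => exact absurd (by simpa using h1) hgP
  | succ k ih =>
    by_cases h2 : g ^ p ^ k ∈ P
    · exact ih h2
    · exact ⟨_, Subgroup.pow_mem _ hg _, h2, by rwa [← pow_mul, ← pow_succ]⟩

theorem isNormal_mho_of_class {n : ℕ} (hcl : S.lowerCentralSeries (n * (p - 1) + 1) = ⊥) :
    F.IsNormal (mho (p ^ n) S) := by
  refine isNormal_of_centralizer_not_le hS hF (mho_le _ S) (fun _ hσ _ => iso_mem_mho hσ)
    fun P hlt hP => ⟨mho (p ^ n) P, mho_mono _ (le_inf (center_le_of_essential hS hF (.inr hP))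
      (inf_le_right.trans (Subgroup.centralizer_le hlt.le))),
      (mho_le _ P).trans (centralizerIn_le P P), fun _ hσ _ => iso_mem_mho hσ, ?_⟩
  obtain ⟨g, hg, hgP, hp⟩ := exists_mem_normalizer_pow_mem hS hlt
  refine ⟨g, hg, hgP, le_centralizer_mho fun z hz => ?_⟩
  haveI : IsMulCommutative (centralizerIn P P) :=
    .of_setLike_mul_comm fun a ha b hb => hb.2 a ha.1
  refine (mul_inv_eq_iff_eq_mul.1 (conj_pow_eq Fact.out ((centralizerIn_le P P).trans hlt.le) hg.1
    ?_ (Subgroup.le_centralizer_iff.1 inf_le_right hp) hcl hz)).symm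
  have hi : ∀ g ∈ normalizerIn S P, ∀ x ∈ centralizerIn P P, g * x * g⁻¹ ∈ centralizerIn P P :=
    fun g hg x hx => iso_mem_center
      ((map_cj F hlt.le hg.1).iso_self fun y hy => (Subgroup.mem_normalizer_iff.1 hg.2 y).1 hy) hx
  exact Subgroup.mem_normalizer_iff.2 fun x => ⟨hi g hg x, fun h => by
    simpa [mul_assoc] using hi _ (Subgroup.inv_mem _ hg) _ h⟩

end H92
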