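import Mathlib
import Cfsg.Agent.Lib.Fusion.Reduce
import Cfsg.Agent.Lib.Fusion.Small
import Cfsg.Agent.Lib.Thompson.Quadratic

/-!
# The fusion system over `Q` of restrictions of a group of automorphisms of `Q` (helper92)
-/

set_option autoImplicit false

namespace H92

open Cfsg Cfsg.FusionSystem H90 Equiv H93

variable {Ω : Type*} [Group Ω] {S Q : Subgroup Ω} {F : FusionSystem S} {p : ℕ}

/-- Restrictions of the automorphisms in `A`. -/
def autSys (Q : Subgroup Ω) (A : Subgroup (MulAut Q)) (h : Inn Q ≤ A) : FusionSystem Q :=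
  ofPerm Q (fun P σ => P ≤ Q ∧ ∃ α ∈ A, ∀ x ∈ P, σ x = extA Q α x)
    (fun _ _ ⟨h, α, _, e⟩ => ⟨h, fun x hx => e x hx ▸ extA_mem α (h hx)⟩)
    (fun _ _ ⟨h, α, _, e⟩ => ((homOn_extA α).mono h).congr fun x hx => (e x hx).symm)
    (fun _ g hP hg => ⟨hP, _, h (conjAut_mem_inn hg), fun _ hx => (extA_conjAut _ (hP hx)).symm⟩)
    (fun _ _ σ τ ⟨h, α, hα, e⟩ ⟨_, β, hβ, e'⟩ hm => ⟨h, β * α, mul_mem hβ hα, fun x hx => by
      rw [extA_mul_apply, ← e x hx, ← e' _ (hm x hx)]; rfl⟩)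
    (fun P σ ⟨h, α, hα, e⟩ => ⟨im_le_iff.2 fun x hx => e x hx ▸ extA_mem α (h hx), α⁻¹, inv_mem hα,
      fun y hy => by
        obtain ⟨x, hx, rfl⟩ := (((homOn_extA α).mono h).congr fun x hx => (e x hx).symm).mem_im.1 hy
        rw [H91.pinv_apply, e x hx, extA_inv_apply, H91.pinv_apply]⟩)

variable {A : Subgroup (MulAut Q)} {h : Inn Q ≤ A}

theorem map_autSys {P : Subgroup Ω} {f : Ω → Ω} :
    Map (autSys Q A h) P f ↔ P ≤ Q ∧ ∃ α ∈ A, ∀ x ∈ P, f x = extA Q α x :=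
  map_ofPerm.trans ⟨fun ⟨_, ⟨h, α, hα, e⟩, e'⟩ => ⟨h, α, hα, fun x hx => by rw [← e' x hx, e x hx]⟩,
    fun ⟨h, α, hα, e⟩ => ⟨_, ⟨h, α, hα, fun _ _ => rfl⟩, fun x hx => (e x hx).symm⟩⟩

theorem autGroup_autSys : (autSys Q A h).autGroup Q = A := by
  ext α
  rw [H90.mem_autGroup le_rfl, map_autSys]
  exact ⟨fun ⟨_, β, hβ, e⟩ => mulAut_ext e ▸ hβ, fun hα => ⟨le_rfl, α, hα, fun _ _ => rfl⟩⟩

theorem autSys_sub (hQ : Q ≤ S) (hA : A ≤ F.autGroup Q) : (autSys Q A h).IsSubsystemOf F :=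
  sub_iff_map.2 fun _ _ hf => by
    obtain ⟨h, α, hα, e⟩ := map_autSys.1 hf
    exact ((iso_extA hQ (hA hα)).map.mono h).congr fun x hx => (e x hx).symm

theorem isNormal_autSys [Finite Q] : (autSys Q A h).IsNormal Q :=
  isNormal_top_iff.2 fun _ _ hf => by
    obtain ⟨-, α, hα, e⟩ := map_autSys.1 hf
    exact ⟨_, iso_extA le_rfl (autGroup_autSys.ge hα), fun x hx => (e x hx).symm⟩

variable [Fact p.Prime]

theorem isSaturated_autSys [Finite Q] (hQ : IsPGroup p Q) (hs : H68.SylowIn p (Inn Q) A) :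
    (autSys Q A h).IsSaturated p := by
  refine (isSaturated_iff_top_automized hQ).2 ⟨isFullyAutomized_iff.2 ⟨le_rfl, ?_⟩,
    fun P hP => isReceptive_iff_map.2 ⟨hP.1, fun R f hf _ => ?_⟩⟩
  · rwa [autGroup_autSys, ← inn_eq]
  · obtain ⟨-, α, hα, e⟩ := map_autSys.1 hf
    exact ⟨_, map_autSys.2 ⟨Next_le _ _ _, α, hα, fun _ _ => rfl⟩, fun x hx => (e x hx).symm⟩

omit [Fact p.Prime] in
theorem eq_one_of_coprime_of_isPGroup {G : Type*} [Group G] {X : Subgroup G} (hX : IsPGroup p X)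
    {b : G} (hb : b ∈ X) (hc : (orderOf b).Coprime p) : b = 1 := by
  obtain ⟨k, hk⟩ := hX ⟨b, hb⟩
  exact H24.eq_one_of_pow_eq_one_of_coprime (pow_orderOf_eq_one b) (congrArg Subtype.val hk)
    (hc.pow_right k)

omit [Fact p.Prime] in
theorem sylowIn_inn_sup (hQ : IsPGroup p Q) {β : MulAut Q} (hc : (orderOf β).Coprime p) :
    H68.SylowIn p (Inn Q) (Inn Q ⊔ Subgroup.zpowers β) := by
  refine ⟨le_sup_left, isPGroup_inn hQ, fun X hX h1 h2 => le_antisymm (fun x hx => ?_) h1⟩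
  obtain ⟨a, ha, b, hb, rfl⟩ := Subgroup.mem_sup_of_normal_left.1 (h2 hx)
  rw [eq_one_of_coprime_of_isPGroup hX ((X.mul_mem_cancel_left (h1 ha)).1 hx)
    (hc.coprime_dvd_left (orderOf_dvd_of_mem_zpowers hb)), mul_one]
  exact ha

variable [Finite S] (hS : IsPGroup p S)
include hS

/-- The subsystem `F_Q(Q ⋊ ⟨β⟩)` attached to a `p'`-automorphism `β`. -/
theorem exists_autSys (hQ : Q ≤ S) {β : MulAut Q} (hβ : β ∈ F.autGroup Q)
    (hc : (orderOf β).Coprime p) : ∃ E : FusionSystem Q, E.IsSaturated p ∧ E.IsSubsystemOf F ∧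
      E.IsNormal Q ∧ E.autGroup Q = Inn Q ⊔ Subgroup.zpowers β ∧
      (E = innerFusionSystem Q → β = 1) := by
  have := finite_of_le hQ
  refine ⟨autSys Q _ le_sup_left, isSaturated_autSys (hS.to_le hQ) (sylowIn_inn_sup (hS.to_le hQ) hc),
    autSys_sub hQ (sup_le (inn_le_autGroup F hQ) (Subgroup.zpowers_le.2 hβ)), isNormal_autSys,
    autGroup_autSys, fun e => eq_one_of_coprime_of_isPGroup
      (isPGroup_autInducedBy (hS.to_le hQ) Q) ?_ hc⟩
  rw [← autGroup_inner le_rfl, ← e, autGroup_autSys]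
  exact Subgroup.mem_sup_right (Subgroup.mem_zpowers β)

omit hS in
theorem exists_prime_aut (hQ : Q ≤ S) (h : ¬ IsPGroup p (F.autGroup Q)) :
    ∃ (q : ℕ) (β : MulAut Q), q.Prime ∧ q ≠ p ∧ β ∈ F.autGroup Q ∧ orderOf β = q ∧
      (orderOf β).Coprime p ∧ β ≠ 1 := by
  have := finite_mulAut_of_le hQ
  obtain ⟨β, q, hq, hne, e⟩ := H24.exists_prime_orderOf_ne_of_not_isPGroup p h
  rw [← Subgroup.orderOf_coe] at e
  exact ⟨q, β, hq, hne, β.2, e, e ▸ (Nat.coprime_primes hq Fact.out).2 hne,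
    fun h => hq.ne_one (by rw [← e, h, orderOf_one])⟩

/-- If every saturated subsystem over `Q` is inner, `Aut_F(Q)` is a `p`-group. -/
theorem isPGroup_autGroup_of_inner (hQ : Q ≤ S) (h : ∀ E : FusionSystem Q, E.IsSaturated p →
    E.IsSubsystemOf F → E.IsNormal Q → E = innerFusionSystem Q) : IsPGroup p (F.autGroup Q) := by
  by_contra h'
  obtain ⟨q, β, -, -, hβ, -, hc, h1⟩ := exists_prime_aut hQ h'
  obtain ⟨E, h2, h3, h4, -, h5⟩ := exists_autSys hS hQ hβ hc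
  exact h1 (h5 (h E h2 h3 h4))

omit hS [Finite S] [Fact p.Prime] in
theorem autSys_eq_defs : True := by
  have := @autSys.eq_1.{0}
  trivial

end H92
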