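import Mathlib
import Cfsg.Agent.Base
import Cfsg.Agent.Lib.MaxCl.BicycK
import Cfsg.Agent.Lib.Fusion.Max2
import Cfsg.Agent.Lib.Fusion.AddEss
import Cfsg.Agent.S0072

/-!
# Fusion systems on bicyclic `2`-groups
-/

set_option autoImplicit false

namespace H93

universe u

open Cfsg Cfsg.FusionSystem H90 Subgroup H83
open H68 (SylowIn)
open scoped commutatorElement

section Abstract

variable {V : Type*} [Group V] [Finite V] (hV : ∀ v : V, v * v = 1) (h8 : Nat.card V ≤ 8)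
include hV h8

theorem index_fixedSub_le {s : MulAut V} (hs : s * s = 1) : (H5.fixedSub s).index ≤ 2 := by
  letI : CommGroup V := { (inferInstance : Group V) with mul_comm := comm_of_forall_sq hV }
  let φ : V →* V := (MonoidHom.id V)⁻¹ * s.toMonoidHom
  have h1 : φ.ker = H5.fixedSub s := by
    ext v; simp [φ, H5.mem_fixedSub, inv_mul_eq_one, eq_comm (b := v)]
  have h2 : φ.range ≤ φ.ker := by
    rintro _ ⟨v, rfl⟩
    have h3 : s (s v) = v := DFunLike.congr_fun hs v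
    simp [φ, h3, inv_eq_of_mul_eq_one_right (hV _), mul_comm, hV]
  have h3 := Subgroup.card_le_of_le h2
  rw [← index_ker] at h3
  have h4 := φ.ker.card_mul_index
  rw [← h1]
  nlinarith

theorem exists_three {H : Type*} [Group H] [Finite H] (ρ : H →* MulAut V)
    (hρ : Function.Injective ρ)
    (hmax : ∀ U : Subgroup H, IsPGroup 2 U → U ≠ ⊥ → IsPGroup 2 (normalizer (U : Set H)))
    {t : H} (ht : orderOf t = 2) (hodd : ¬ IsPGroup 2 H) :
    ∃ ω : H, ω ^ 3 = 1 ∧ ω ≠ 1 ∧ ∀ τ : H, τ ≠ 1 → (∃ k, τ ^ 2 ^ k = 1) → τ * ω * τ⁻¹ * ω = 1 := by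
  haveI : Fact (Nat.Prime 2) := ⟨Nat.prime_two⟩
  have hVp : IsPGroup 2 V := fun v => ⟨1, by simpa [pow_two] using hV v⟩
  obtain ⟨P, K, hK, hPK⟩ := (Agent.S0072.result (G := H) 2).2 fun U h1 h2 => by
    obtain ⟨P⟩ : Nonempty (Sylow 2 (normalizer (U : Set H))) := inferInstance
    exact ⟨P, ⊥, inferInstance, isComplement'_bot_left.2
      (P.is_maximal' ((hmax U h1 h2).to_subgroup ⊤) le_top).symm⟩
  have hKo : ∀ k ∈ K, Odd (orderOf k) := fun k hk => Nat.not_even_iff_odd.1 fun h =>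
    P.not_dvd_index (hPK.index_eq_card ▸ h.two_dvd.trans (orderOf_dvd_natCard K hk))
  have hinv : ∀ τ : H, orderOf τ = 2 → ∀ k ∈ K, τ * k * τ⁻¹ = k⁻¹ := fun τ hτ k hk => by
    have h1 : MonoidHom.FixedPointFree (MulAut.conjNormal τ : MulAut K) := fun u hu => by
      have h2 : (u : H) ∈ normalizer (zpowers τ : Set H) := centralizer_le_normalizer _ (by
        rw [zpowers_eq_closure, centralizer_closure, mem_centralizer_singleton_iff]
        exact (mul_inv_eq_iff_eq_mul.1 (congrArg Subtype.val hu)).symm)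
      obtain ⟨n, hn⟩ := hmax _ (IsPGroup.of_card (n := 1) (by rw [Nat.card_zpowers, hτ]; rfl))
        (by rw [Ne, zpowers_eq_bot]; rintro rfl; simp at hτ) ⟨u, h2⟩
      exact Subtype.ext (eq_one_of_odd_of_pow (hKo u u.2) (congrArg Subtype.val hn))
    have h2 := h1.coe_eq_inv_of_involutive (fun u => by
      rw [← MulAut.mul_apply, ← map_mul, ← pow_two, ← hτ, pow_orderOf_eq_one]; simp)
    exact congrArg Subtype.val (congrFun h2 ⟨k, hk⟩)
  obtain ⟨ω, hω, h1⟩ := (bot_or_exists_ne_one K).resolve_left fun h => hodd (by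
    rw [h, isComplement'_bot_left] at hPK
    exact (hPK ▸ P.isPGroup').of_equiv topEquiv)
  have htt : t * t = 1 := by rw [← pow_two, ← ht, pow_orderOf_eq_one]
  have h4 : (H5.fixedSub (ρ ω)).index ≤ 4 := by
    refine (index_antitone (fun v hv => ?_ : H5.fixedSub (ρ t) ⊓ H5.fixedSub (ρ (t * ω)) ≤ _)).trans
      (index_inf_le.trans (Nat.mul_le_mul (index_fixedSub_le hV h8 (by rw [← map_mul, htt, map_one]))
        (index_fixedSub_le hV h8 (by
          rw [← map_mul, ← mul_assoc, ← map_one ρ, ← inv_mul_cancel ω, ← hinv t ht ω hω,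
            inv_eq_of_mul_eq_one_right htt]))))
    exact H5.mem_fixedSub.2 ((ρ t).injective (by
      rw [← MulAut.mul_apply, ← map_mul, H5.mem_fixedSub.1 hv.2, H5.mem_fixedSub.1 hv.1]))
  have faith : ∀ k : H, Odd (orderOf k) → (∀ c ∈ H5.fixedSub (ρ ω), ρ k c = c) →
      (∀ v, v⁻¹ * ρ k v ∈ H5.fixedSub (ρ ω)) → k = 1 := fun k hk h2 h3 =>
    hρ ((H5.aut_eq_one_of_stabilizes hVp (ρ k) (Nat.coprime_two_right.2
      (hk.of_dvd_nat (orderOf_map_dvd ρ k))) _ h2 h3).trans (map_one ρ).symm)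
  have h5 : Nat.card (H5.fixedSub (ρ ω)) ≤ 2 := by
    by_contra h5
    have h6 := (H5.fixedSub (ρ ω)).card_mul_index
    have h7 : (H5.fixedSub (ρ ω)).index ≠ 0 := FiniteIndex.index_ne_zero
    refine h1 (faith ω (hKo ω hω) (fun c hc => hc) fun v => ?_)
    rcases (show (H5.fixedSub (ρ ω)).index = 1 ∨ (H5.fixedSub (ρ ω)).index = 2 by
      have : (H5.fixedSub (ρ ω)).index < 3 := by nlinarith
      omega) with h | h
    · exact index_eq_one.1 h ▸ mem_top _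
    · exact (mul_mem_iff_of_index_two h).2 (inv_mem_iff.trans (ρ ω).injective.eq_iff.symm)
  have h6 : ∀ k ∈ K, ∀ c ∈ H5.fixedSub (ρ ω), ρ k c = c := fun k hk c hc =>
    aut_eq_of_card_le_two h5 (fun c hc => by
      have h6 := hinv t ht _ (mul_mem hk hω)
      rw [← conj_mul, hinv t ht k hk, hinv t ht ω hω, ← mul_inv_rev, inv_inj] at h6
      rw [H5.mem_fixedSub, ← MulAut.mul_apply, ← map_mul, h6, map_mul, MulAut.mul_apply,
        H5.mem_fixedSub.1 hc]) hc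
  have h7 : ∀ g : H, ∀ c ∈ H5.fixedSub (ρ ω), ρ g c ∈ H5.fixedSub (ρ ω) := fun g c hc => by
    rw [H5.mem_fixedSub, ← MulAut.mul_apply, ← map_mul, ← mul_inv_cancel_left g (ω * g), map_mul,
      MulAut.mul_apply, ← mul_assoc, h6 _ (hK.conj_mem' ω hω g) c hc]
  haveI : (H5.fixedSub (ρ ω)).Normal := ⟨fun c hc g => by
    rwa [comm_of_forall_sq hV g c, mul_inv_cancel_right]⟩
  let φ := H2.quotAut ρ _ h7
  have h9 : Function.Injective φ := (MonoidHom.ker_eq_bot_iff φ).1 (by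
    by_contra h9
    refine hodd ((normalizer_eq_top φ.ker ▸ hmax φ.ker ?_ h9 :).of_equiv topEquiv)
    by_contra h
    obtain ⟨β, h2, h3⟩ := H41.exists_odd_aut_of_not_isPGroup h
    exact h2 (Subtype.ext (faith β (by rwa [orderOf_coe]) (fun c hc =>
      aut_eq_of_card_le_two h5 (h7 β) hc) fun v =>
        QuotientGroup.eq.1 (DFunLike.congr_fun β.2 (v : V ⧸ H5.fixedSub (ρ ω))).symm)))
  have h6 : Nat.card H ∣ 6 := (card_dvd_of_injective φ h9).trans (card_mulAut_dvd_six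
    (card_eq_four_of_aut (hVp.to_quotient _) h4 (β := φ ω) (by rwa [Ne, map_eq_one_iff φ h9])))
  refine ⟨ω, eq_one_of_odd_of_pow (hKo _ (pow_mem hω 3)) (k := 1) (by
    rw [← pow_mul]; exact orderOf_dvd_iff_pow_eq_one.1 ((_root_.orderOf_dvd_natCard ω).trans h6)),
    h1, fun τ h2 ⟨k, hk⟩ => ?_⟩
  obtain ⟨j, -, hj⟩ := (Nat.dvd_prime_pow Nat.prime_two).1 (orderOf_dvd_of_pow_eq_one hk)
  have h3 := (_root_.orderOf_dvd_natCard τ).trans h6
  rw [hinv τ ?_ ω hω, inv_mul_cancel]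
  rcases j with _ | _ | j
  · exact absurd (orderOf_eq_one_iff.1 hj) h2
  · exact hj
  · rw [hj, pow_succ, pow_succ, mul_assoc] at h3
    exact absurd ((dvd_mul_left _ _).trans h3) (by decide)

theorem exists_three_of_ti {Γ : Type*} [Group Γ] [Finite Γ] (π : Γ →* MulAut V)
    (hk : IsPGroup 2 π.ker) (T : Sylow 2 Γ) {I : Subgroup Γ} (hI : I ≤ π.ker)
    (hti : ∀ α β, β ∈ T → β ∉ I → α * β * α⁻¹ ∈ T → α ∈ T) (h1 : ¬ (T : Subgroup Γ) ≤ I)
    (h2 : (T : Subgroup Γ) ≠ ⊤) :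
    ∃ ω : Γ, ω ^ 3 = 1 ∧ ω ≠ 1 ∧ ∀ β ∈ T, β ∉ I → β * ω * β⁻¹ * ω ∈ I := by
  haveI : Fact (Nat.Prime 2) := ⟨Nat.prime_two⟩
  have h3 : π.ker ≤ I := fun β hβ => by
    by_contra hn
    exact h2 (eq_top_iff.2 fun α _ => hti α β (hk.le_sylow_of_normal T hβ) hn
      (hk.le_sylow_of_normal T (π.normal_ker.conj_mem β hβ α)))
  have hs := π.rangeRestrict_surjective
  have hk' : IsPGroup 2 π.rangeRestrict.ker := π.ker_rangeRestrict ▸ hk
  have h4 : ∀ β ∉ I, π.rangeRestrict β ≠ 1 := fun β hβ e => hβ (h3 (congrArg Subtype.val e))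
  obtain ⟨β, hβ, hn⟩ := SetLike.not_le_iff_exists.1 h1
  obtain ⟨n, hn'⟩ := T.isPGroup' ⟨β, hβ⟩
  obtain ⟨j, h5, h6⟩ := H5.exists_pow_not_mem_pow_mem (K := ⊥) (h4 β hn) (k := n) (p := 2)
    (by rw [← map_pow, show β ^ 2 ^ n = 1 from congrArg Subtype.val hn', map_one]; rfl)
  obtain ⟨w, w1, w2, w3⟩ := exists_three hV h8 π.range.subtype π.range.subtype_injective
    (fun U hU h7 g => by
      obtain ⟨u, hu, h9⟩ := (bot_or_exists_ne_one U).resolve_left h7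
      obtain ⟨u, rfl⟩ := hs u
      obtain ⟨α, hα⟩ := hs g
      obtain ⟨R, hR⟩ := (hU.comap_of_ker_isPGroup _ hk').exists_le_sylow
      obtain ⟨γ, rfl⟩ := MulAction.exists_smul_eq Γ R T
      have key : ∀ v, π.rangeRestrict v ∈ U → γ * v * γ⁻¹ ∈ γ • R := fun v hv =>
        smul_mem_pointwise_smul _ (MulAut.conj γ) _ (hR hv)
      obtain ⟨k, hk⟩ := (γ • R).isPGroup' ⟨_, hti (γ * α * γ⁻¹) _ (key u hu)
        (fun h => h9 (Subtype.ext ((π.normal_ker.mem_comm_iff.1 (hI h)) |> (by simpa using ·)))) (by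
          have := key (α * u * α⁻¹) (by
            rw [map_mul, map_mul, map_inv, hα]; exact (mem_normalizer_iff.1 g.2 _).1 hu)
          simpa [mul_assoc] using this)⟩
      refine ⟨k, Subtype.ext ?_⟩
      have h10 : α ^ 2 ^ k = 1 := by simpa [conj_pow] using congrArg Subtype.val hk
      rw [coe_pow, ← hα, ← map_pow, h10, map_one]; rfl)
    (orderOf_eq_prime h6 h5) fun h => h2 (T.is_maximal'
      (comap_top π.rangeRestrict ▸ (h.to_subgroup ⊤).comap_of_ker_isPGroup _ hk') le_top).symm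
  obtain ⟨α, rfl⟩ := hs w
  obtain ⟨k, hk⟩ := hk' ⟨α ^ 3, by rw [MonoidHom.mem_ker, map_pow, w1]⟩
  have h7 : π.rangeRestrict (α ^ 2 ^ (2 * k)) = π.rangeRestrict α := by
    rw [map_pow, pow_eq_pow_mod _ w1, pow_mul, Nat.pow_mod]; simp
  refine ⟨α ^ 2 ^ (2 * k), ?_, fun e => w2 (by rw [← h7, e, map_one]), fun β hβ hn => h3 ?_⟩
  · rw [← pow_mul, mul_comm, pow_mul, two_mul, pow_add, pow_mul,
      show (α ^ 3) ^ 2 ^ k = 1 from congrArg Subtype.val hk, one_pow]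
  · obtain ⟨n, hn'⟩ := T.isPGroup' ⟨β, hβ⟩
    rw [← π.ker_rangeRestrict, MonoidHom.mem_ker, map_mul, map_mul, map_mul, map_inv, h7]
    exact w3 _ (h4 β hn) ⟨n, by
      rw [← map_pow, show β ^ 2 ^ n = 1 from congrArg Subtype.val hn', map_one]⟩

end Abstract

variable {Ω : Type u} [Group Ω] {S : Subgroup Ω} [Finite S] {F : FusionSystem S}

theorem BC.index_fr {G : Type*} [Group G] [Finite G] {x b : G} (h : BC x b) :
    (frattini G).index ≤ 4 := by
  have h1 : (m3 G).index = 2 := index_eq_two_iff'.2 ⟨x⁻¹, fun g => by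
    by_cases hg : g ∈ m3 G
    · exact Or.inr ⟨hg, fun e => h.x_notMem (inv_mem_iff.1 ((mul_mem_cancel_right hg).1 e))⟩
    · exact Or.inl ⟨h.mul_mem_m3 hg, hg⟩⟩
  exact (index_antitone fun g (hg : g ∈ (commutator G ⊔ zpowers x) ⊓ m3 G) =>
    h.mem_fr_of hg.1 hg.2).trans
    (index_inf_le.trans (by rw [h1, h.index_sup]))

theorem BC.isPGroup_mulAut {G : Type*} [Group G] [Finite G] {x b : G} (h : BC x b) :
    IsPGroup 2 (MulAut G) := by
  haveI : Fact (Nat.Prime 2) := ⟨Nat.prime_two⟩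
  by_contra h1
  obtain ⟨β, h2, h3⟩ := H41.exists_odd_aut_of_not_isPGroup h1
  exact h2 (by simpa using (comm_and_pow_of_char h.pg h.index_fr (M := m3 G)
    (H5.characteristic_of_aut_mem fun φ _ => map_mem_m3 φ.toMonoidHom)
    (fun e => h.x_notMem (e ▸ mem_top x)) (fun e => h.b_notMem_fr (e h.b_mem)) (zpowers β)
    (by rwa [Nat.card_zpowers, Nat.coprime_two_right])).2 β (mem_zpowers β))

theorem BC.eq_inner {x b : S} (h : BC x b) (hF : F.IsSaturated 2)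
    (hA : ¬ IsCyclic (commutator S)) : F = innerFusionSystem S := by
  haveI : Fact (Nat.Prime 2) := ⟨Nat.prime_two⟩
  refine fs_le_antisymm (le_iff_sub.2 (sub_of_essential' h.pg hF (fun σ hσ => ?_)
    fun Q hQ hle => ?_)) (inner_le F)
  · obtain ⟨g, hg, e⟩ := H90.mem_inn.1
      (autGroup_top_eq_inn h.pg hF (h.isPGroup_mulAut.to_subgroup _) ▸ hσ.equiv_mem)
    exact map_inner.2 ⟨le_rfl, g, hg, fun y hy => (extA_equiv hσ hy).symm.trans (e y hy)⟩
  by_contra hn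
  have hQS := hQ.1.1
  haveI := finite_of_le hQS
  have hC : centralizerIn S Q ≤ Q := hQ.1.2 Q (isConj_refl F hQS)
  have hQp := h.pg.to_le hQS
  rw [autGroup_inner hQS] at hle hn
  have hT := sylowIn_of_normalized h.pg hF hQ.2.1
  let π := H2.quotAut (F.autGroup Q).subtype (frattini Q)
    fun a y hy => H5.aut_mem_of_characteristic inferInstance _ hy
  obtain ⟨g, hg, hg'⟩ := SetLike.exists_of_lt (lt_normalizerIn h.pg (lt_of_isEssential h.pg hF hQ))
  obtain ⟨ω, w1, w2, w3⟩ := exists_three_of_ti (V := Q ⧸ frattini Q) (fun v => by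
      obtain ⟨v, rfl⟩ := QuotientGroup.mk_surjective v
      exact (QuotientGroup.eq_one_iff (v * v)).2 (pow_two v ▸ H5.pow_mem_frattini hQp v))
    (h.index_le_eight (inclusion hQS) (inclusion_injective hQS)) π (by
      by_contra h1
      obtain ⟨β, h2, h3⟩ := H41.exists_odd_aut_of_not_isPGroup h1
      exact h2 (Subtype.ext (Subtype.ext (H5.aut_eq_one_of_frattini hQp _
        (Nat.coprime_two_right.2 (by rwa [orderOf_coe, orderOf_coe])) fun y =>
          QuotientGroup.eq.1 (DFunLike.congr_fun β.2 (y : Q ⧸ frattini Q)).symm))))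
    hT.toSylow (I := (Inn Q).subgroupOf _) (fun β hβ => MulEquiv.ext fun v => by
      obtain ⟨v, rfl⟩ := QuotientGroup.mk_surjective v
      obtain ⟨q, hq⟩ := hβ
      refine QuotientGroup.eq.2 ?_
      have := H5.commutatorElement_mem_frattini hQp q v⁻¹
      rwa [commutatorElement_def, ← conj_inv, inv_inv, ← MulAut.conj_apply, hq] at this)
    (fun α β h1 h2 h3 => hle (mem_extAut_of_conj_mem (receptive_of_normalized h.pg hF hQ.2.1) α.2
      h1 h2 h3))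
    (fun h1 => hg' (mem_of_conjAut_mem_inn hQS hC hg (h1 (x := ⟨_, hT.le (conjAut_mem hg.1 hg.2)⟩)
      (conjAut_mem hg.1 hg.2))))
    fun h1 => hn fun α hα => h1.ge (mem_top (⟨α, hα⟩ : F.autGroup Q))
  let e := MulAut.congr (subgroupOfEquivOfLe hQS).symm
  refine hA (h.isCyclic_of_aut (Q := Q.subgroupOf S) (fun c hc => hC ⟨c.2, fun y hy =>
    congrArg Subtype.val (hc ⟨y, hQS hy⟩ hy)⟩) (fun e => hg' (e.ge (mem_top (⟨g, hg.1⟩ : S))))
    (ω := e ω) (by rw [← map_pow, ← coe_pow, w1]; simp) (by simpa using w2) fun k hk hn => ?_)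
  have hk' : (k : Ω) ∈ normalizer (Q : Set Ω) := mem_normalizer_of_conj_mem fun y hy =>
    (mem_normalizer_iff.1 hk ⟨y, hQS hy⟩).1 hy
  obtain ⟨q, hq⟩ := w3 ⟨_, hT.le (conjAut_mem k.2 hk')⟩ (conjAut_mem k.2 hk')
    fun h1 => hn (mem_of_conjAut_mem_inn hQS hC ⟨k.2, hk'⟩ h1)
  refine ⟨e (conjAut Q k hk'), fun y => rfl, (subgroupOfEquivOfLe hQS).symm q, ?_⟩
  rw [← map_inv, ← map_mul, ← map_mul, ← map_mul]
  exact (congrArg e hq).symm.trans (MulEquiv.ext fun y => rfl)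

theorem isCentric_inner {Q : Subgroup Ω} (hQ : Q ≤ S) (hC : centralizerIn S Q ≤ Q) :
    (innerFusionSystem S).IsCentric Q := ⟨hQ, fun R hR c hc => by
  obtain ⟨σ, hσ⟩ := H90.isConj_iff.1 hR
  obtain ⟨-, g, hg, e⟩ := map_inner.1 hσ.1
  have h1 : g⁻¹ * c * g ∈ Q := hC ⟨S.mul_mem (S.mul_mem (S.inv_mem hg) hc.1) hg, fun y hy => by
    have := hc.2 _ (hσ.mem hy)
    rw [e y hy] at this
    calc _ = g⁻¹ * (g * y * g⁻¹ * c) * g := by group
      _ = _ := by rw [this]; group⟩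
  have h2 := hσ.mem h1
  rw [e _ h1] at h2
  simpa [mul_assoc] using h2⟩

theorem exists_noninner (hS : IsPGroup 2 S) {Q : Subgroup Ω} (hQ : Q ≤ S)
    (hC : centralizerIn S Q ≤ Q) {s : Ω} (hs : s ∈ normalizerIn S Q) (hn : s ∉ Q)
    (hN : ∀ g ∈ normalizerIn S Q, g ∉ Q → s⁻¹ * g ∈ Q) {ω : MulAut Q} (h3 : ω ^ 3 = 1) (h1 : ω ≠ 1)
    (hω : conjAut Q s hs.2 * ω * (conjAut Q s hs.2)⁻¹ * ω ∈ Inn Q)
    (hmin : ∀ R < Q, ∃ i : ℕ, ¬ centralizerIn S (im (extA Q (ω ^ i)) R) ≤ im (extA Q (ω ^ i)) R) :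
    ∃ F : FusionSystem S, F.IsSaturated 2 ∧ F ≠ innerFusionSystem S := by
  haveI : Fact (Nat.Prime 2) := ⟨Nat.prime_two⟩
  haveI := finite_of_le hQ
  haveI := innNormal Q
  let π := QuotientGroup.mk' (Inn Q)
  have hπ : ∀ α, π α = 1 ↔ α ∈ Inn Q := QuotientGroup.eq_one_iff
  set w := π ω with hw
  set σ := π (conjAut Q s hs.2) with hσ
  have w3 : w ^ 3 = 1 := by rw [← map_pow, h3, map_one]
  have odd : ∀ i k : ℕ, (w ^ i) ^ 2 ^ k = 1 → w ^ i = 1 := fun i k e =>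
    eq_one_of_odd_of_pow (Odd.of_dvd_nat (by decide : Odd 3) (orderOf_dvd_of_pow_eq_one (by
      rw [← pow_mul, mul_comm, pow_mul, w3, one_pow]))) e
  have hσw : σ * w * σ⁻¹ = w⁻¹ := eq_inv_of_mul_eq_one_left (by
    rw [← map_inv, ← map_mul, ← map_mul, ← map_mul, hπ]; exact hω)
  have hc : ∀ g (hg : g ∈ normalizerIn S Q), g ∉ Q → π (conjAut Q g hg.2) = σ := fun g hg h => by
    rw [hσ, eq_comm, ← inv_mul_eq_one, ← map_inv, ← map_mul, hπ, ← conjAut_inv, ← conjAut_mul]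
    exact conjAut_mem_inn (hN g hg h)
  have hσ1 : σ ≠ 1 := fun e => hn (mem_of_conjAut_mem_inn hQ hC hs ((hπ _).1 e))
  have hσ2 : σ * σ = 1 := by
    rw [mul_eq_one_iff_eq_inv, hσ, ← map_inv, ← conjAut_inv, hc _ (inv_mem hs) (by simpa using hn)]
  have hT : ∀ α, α ∈ autInducedBy S Q ↔ π α = 1 ∨ π α = σ := fun α => ⟨fun h => by
      obtain ⟨g, hg, rfl⟩ := exists_conjAut_of_mem h
      by_cases h4 : g ∈ Q
      exacts [Or.inl ((hπ _).2 (conjAut_mem_inn h4)), Or.inr (hc g hg h4)],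
    fun h => h.elim (fun h => inn_le_autInducedBy hQ ((hπ _).1 h)) fun h => by
      simpa using mul_mem (conjAut_mem hs.1 hs.2)
        (inn_le_autInducedBy hQ (QuotientGroup.eq.1 h.symm))⟩
  have hΔ : ∀ v ∈ zpowers w ⊔ zpowers σ, ∃ i : ℕ, v = w ^ i ∨ v = w ^ i * σ := fun v hv => by
    obtain ⟨k, hk, j, rfl⟩ := (H5.mem_sup_zpowers_iff (mem_normalizer_fintype (by
      rintro _ ⟨i, rfl⟩
      exact ⟨-i, by simp only [← conj_zpow, hσw]; simp⟩))).1 hv
    obtain ⟨i, rfl⟩ := H48.exists_pow_eq_of_mem_zpowers hk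
    exact ⟨i, (zpow_eq_one_or_self hσ2 j).imp (fun h => by simp [h.2]) fun h => by rw [h.2]⟩
  have hle : autInducedBy S Q ≤ (zpowers w ⊔ zpowers σ).comap π := fun α hα => by
    rcases (hT α).1 hα with h | h <;> rw [mem_comap, h]
    exacts [one_mem _, mem_sup_right (mem_zpowers σ)]
  have hc' := isCentric_inner hQ hC
  refine ⟨addAut (innerFusionSystem S) hQ ((zpowers w ⊔ zpowers σ).comap π),
    isSaturated_addAut hS (isSaturated_inner hS) (isFullyNormalized_of_automized_receptive hS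
      (isFullyAutomized_iff.2 ⟨hQ, (autGroup_inner hQ).ge, isPGroup_autInducedBy hS Q,
        fun R _ h4 h5 => le_antisymm (autGroup_inner hQ ▸ h5) h4⟩)
      (receptive_of_centric hS (isSaturated_inner hS) hc')) hc' (autGroup_inner hQ ▸ hle)
      ⟨hle, isPGroup_autInducedBy hS Q, fun R h4 h5 h6 => le_antisymm (fun α hα => ?_) h5⟩
      (fun α hα g hg h4 h5 => ?_) (fun R hR => ?_) fun P hP => ?_, fun e => ?_⟩
  · have key : ∀ β ∈ R, ∀ i, π β = w ^ i → π β = 1 := fun β hβ i e => by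
      obtain ⟨k, hk⟩ := h4 ⟨β, hβ⟩
      exact e ▸ odd i k (by rw [← e, ← map_pow, show β ^ 2 ^ k = 1 from congrArg Subtype.val hk,
        map_one])
    obtain ⟨i, e | e⟩ := hΔ _ (h6 hα)
    · exact (hT α).2 (Or.inl (key α hα i e))
    · refine (hT α).2 (Or.inr (mul_inv_eq_one.1 ?_))
      rw [← map_inv, ← map_mul]
      exact key _ (mul_mem hα (inv_mem (h5 (conjAut_mem hs.1 hs.2)))) i (by
        rw [map_mul, map_inv, e, mul_inv_cancel_right])
  · rw [autGroup_inner hQ, hT]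
    rw [hT, map_mul, map_mul, map_inv, hc g hg h4] at h5
    replace h5 := h5.resolve_left (by simpa [mul_inv_eq_one] using hσ1)
    have key : ∀ i, w ^ i * σ * (w ^ i)⁻¹ = σ → w ^ i = 1 := fun i e => odd i 1 (by
      have h7 : σ * (w ^ i)⁻¹ = w ^ i * σ := by
        rw [← inv_pow, ← mul_inv_eq_iff_eq_mul, ← conj_pow, ← conj_inv, hσw, inv_inv]
      rwa [mul_assoc, h7, ← mul_assoc, mul_eq_right, ← pow_two] at e)
    obtain ⟨i, e | e⟩ := hΔ _ hα <;> rw [e] at h5 ⊢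
    · exact Or.inl (key i h5)
    · exact Or.inr (by rw [key i (by simpa [mul_assoc] using h5), one_mul])
  · obtain ⟨i, hi⟩ := hmin R hR
    exact ⟨ω ^ i, pow_mem (mem_sup_left (mem_zpowers w)) i, fun h => hi (h.2 _ (isConj_refl _ h.1))⟩
  · obtain ⟨α, h4, h5, h6⟩ := od_of_isEssential hP
    obtain ⟨k, hk⟩ := isPGroup_autInducedBy hS P ⟨α, autGroup_inner hP.1.1 ▸ h4⟩
    exact absurd (eq_one_of_odd_of_pow h5 (congrArg Subtype.val hk)) h6
  · have h4 := le_autGroup_addAut (F := innerFusionSystem S) (hQ := hQ)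
      (show ω ∈ (zpowers w ⊔ zpowers σ).comap π from mem_sup_left (mem_zpowers w))
    rw [e, autGroup_inner hQ] at h4
    obtain ⟨k, hk⟩ := isPGroup_autInducedBy hS Q ⟨ω, h4⟩
    exact h1 (eq_one_of_odd_of_pow (Odd.of_dvd_nat (by decide : Odd 3)
      (orderOf_dvd_of_pow_eq_one h3)) (congrArg Subtype.val hk))

omit [Finite S]

/-- `a`, `b` generate a four-group or a quaternion group centralized by the abelian group `Z`. -/
structure QZ {G : Type*} [Group G] (Z : Subgroup G) (a b : G) : Prop where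
  ab : ∀ c ∈ Z, ∀ c' ∈ Z, c * c' = c' * c
  ca : ∀ c ∈ Z, c * a = a * c
  cb : ∀ c ∈ Z, c * b = b * c
  aa : a * a ∈ Z
  bb : b * b = a * a
  ba : b * a * b = a

namespace QZ

variable {G : Type*} [Group G] {Z : Subgroup G} {a b : G} (h : QZ Z a b)
include h

theorem conj : b * a * b⁻¹ = a⁻¹ := by
  rw [eq_inv_iff_mul_eq_one, eq_mul_inv_of_mul_eq h.ba, mul_assoc a, ← mul_inv_rev, h.bb]; group

theorem conj' : b * a⁻¹ * b⁻¹ = a := by rw [← conj_inv, h.conj, inv_inv]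

theorem zz : a * a * (a * a) = 1 := by
  have h1 : b * (a * a) * b⁻¹ = a * a := by rw [← h.cb _ h.aa, mul_inv_cancel_right]
  rw [← conj_mul, h.conj] at h1
  nth_rewrite 1 [← h1]; group

theorem cases {g : G} (hg : g ∈ Z ⊔ zpowers a ⊔ zpowers b) :
    ∃ c ∈ Z, g = c ∨ g = c * a ∨ g = c * b ∨ g = c * (a * b) := by
  have key : ∀ u : G, u * u ∈ Z → ∀ i : ℤ, ∃ c ∈ Z, u ^ i = c ∨ u ^ i = c * u := fun u hu i => by
    obtain ⟨k, rfl | rfl⟩ := Int.even_or_odd' i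
    exacts [⟨_, zpow_mem hu k, Or.inl (by rw [zpow_mul, zpow_two])⟩,
      ⟨_, zpow_mem hu k, Or.inr (by rw [zpow_add, zpow_mul, zpow_two, zpow_one])⟩]
  have h3 : ∀ u : G, (∀ c ∈ Z, c * u = u * c) → u * a * u⁻¹ = a⁻¹ →
      Z ⊔ zpowers a ≤ (Z ⊔ zpowers a).comap (MulAut.conj u).toMonoidHom := fun u e e' =>
    sup_le (fun c hc => mem_sup_left (by simpa [← e c hc] using hc))
      (zpowers_le.2 (mem_sup_right (by simp [e'])))
  obtain ⟨k, hk, j, rfl⟩ := (H5.mem_sup_zpowers_iff (K := Z ⊔ zpowers a) (mem_normalizer_iff.2 fun v =>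
    ⟨fun hv => h3 b h.cb h.conj hv, fun hv => by
      simpa [mul_assoc] using h3 b⁻¹ (fun c hc => (Commute.inv_right (h.cb c hc)).eq)
        (by rw [inv_inv, mul_assoc, inv_mul_eq_iff_eq_mul, ← mul_inv_eq_iff_eq_mul.1 h.conj']) hv⟩)).1 hg
  obtain ⟨c, hc, i, rfl⟩ := (H5.mem_sup_zpowers_iff (centralizer_le_normalizer _ h.ca)).1 hk
  obtain ⟨c₁, h4, e⟩ := key a h.aa i
  obtain ⟨c₂, h5, e'⟩ := key b (h.bb ▸ h.aa) j
  refine ⟨c * c₁ * c₂, mul_mem (mul_mem hc h4) h5, ?_⟩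
  have h6 := h.ca c₂ h5
  rcases e with e | e <;> rcases e' with e' | e' <;> rw [e, e'] <;> simp only [mul_assoc, h6]
  · simp
  · simp
  · simp
  · rw [← mul_assoc a, ← h6, mul_assoc]; simp

omit h in
theorem a_mem : a ∈ Z ⊔ zpowers a ⊔ zpowers b := mem_sup_left (mem_sup_right (mem_zpowers a))

omit h in
theorem b_mem : b ∈ Z ⊔ zpowers a ⊔ zpowers b := mem_sup_right (mem_zpowers b)

omit h in
theorem z_mem {c : G} (hc : c ∈ Z) : c ∈ Z ⊔ zpowers a ⊔ zpowers b := mem_sup_left (mem_sup_left hc)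

theorem eq_on {f f' : G → G} (hf : HomOn (Z ⊔ zpowers a ⊔ zpowers b) f)
    (hf' : HomOn (Z ⊔ zpowers a ⊔ zpowers b) f') (h1 : ∀ c ∈ Z, f c = f' c) (h2 : f a = f' a)
    (h3 : f b = f' b) : ∀ g ∈ Z ⊔ zpowers a ⊔ zpowers b, f g = f' g := fun g hg => by
  obtain ⟨c, hc, rfl | rfl | rfl | rfl⟩ := h.cases hg
  · exact h1 _ hc
  · rw [hf.mul (z_mem hc) a_mem, hf'.mul (z_mem hc) a_mem, h1 c hc, h2]
  · rw [hf.mul (z_mem hc) b_mem, hf'.mul (z_mem hc) b_mem, h1 c hc, h3]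
  · rw [hf.mul (z_mem hc) (mul_mem a_mem b_mem), hf'.mul (z_mem hc) (mul_mem a_mem b_mem),
      hf.mul a_mem b_mem, hf'.mul a_mem b_mem, h1 c hc, h2, h3]

theorem exists_rot (na : a ∉ Z) (nb : b ∉ Z) (nab : a * b ∉ Z) :
    ∃ ω : MulAut (Z ⊔ zpowers a ⊔ zpowers b : Subgroup G), (∀ c ∈ Z, extA _ ω c = c) ∧
      extA _ ω a = b ∧ extA _ ω b = a * b := by
  let d : G →* G × G := (MonoidHom.id G).prod (MonoidHom.id G)
  have h' : QZ (Z.map d) (a, b) (b, a * b) := ⟨by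
      rintro _ ⟨c, hc, rfl⟩ _ ⟨c', hc', rfl⟩
      rw [← map_mul, h.ab c hc c' hc', map_mul],
    by rintro _ ⟨c, hc, rfl⟩; exact Prod.ext (h.ca c hc) (h.cb c hc),
    by rintro _ ⟨c, hc, rfl⟩
       exact Prod.ext (h.cb c hc) (Commute.mul_right (h.ca c hc) (h.cb c hc)),
    ⟨_, h.aa, Prod.ext rfl h.bb.symm⟩,
    Prod.ext h.bb (by
      show a * b * (a * b) = b * b
      rw [mul_assoc, ← mul_assoc b, h.ba, h.bb]),
    Prod.ext h.ba (by
      show a * b * b * (a * b) = b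
      rw [mul_assoc a, h.bb, ← mul_assoc, ← mul_assoc, mul_assoc _ a a, h.zz, one_mul])⟩
  have ne : ∀ c ∈ Z, ∀ u ∉ Z, c * u ≠ 1 := fun c hc u hu e =>
    hu (eq_inv_of_mul_eq_one_right e ▸ inv_mem hc)
  obtain ⟨ι, i1, i2, i3⟩ := exists_equiv_of_graph (S := Z ⊔ zpowers a ⊔ zpowers b)
    (T := Z ⊔ zpowers a ⊔ zpowers b) (Z.map d ⊔ zpowers (a, b) ⊔ zpowers (b, a * b))
    (fun g hg => by
      obtain ⟨_, ⟨c, hc, rfl⟩, rfl | rfl | rfl | rfl⟩ := h'.cases hg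
      exacts [Iff.rfl, iff_of_false (ne c hc a na) (ne c hc b nb),
        iff_of_false (ne c hc b nb) (ne c hc _ nab), iff_of_false (ne c hc _ nab)
          (ne c hc (b * (a * b)) (by rwa [← mul_assoc, h.ba]))])
    (by
      simp only [Subgroup.map_sup, map_map, MonoidHom.map_zpowers]
      exact congrArg (· ⊔ _ ⊔ _) (map_id Z))
    (by
      simp only [Subgroup.map_sup, map_map, MonoidHom.map_zpowers]
      refine (congrArg (· ⊔ _ ⊔ _) (map_id Z)).trans (le_antisymm (sup_le (sup_le (fun _ => z_mem)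
        (zpowers_le.2 b_mem)) (zpowers_le.2 (mul_mem a_mem b_mem))) (sup_le (sup_le (fun _ => z_mem)
        (zpowers_le.2 ?_)) (zpowers_le.2 a_mem)))
      simpa using mul_mem (b_mem (Z := Z) (a := b) (b := a * b)) (inv_mem a_mem))
  refine ⟨MulEquiv.ofBijective (ι.codRestrict _ fun u => i2.le ⟨u, rfl⟩)
    ⟨fun u v e => i1 (congrArg Subtype.val e), fun v => ?_⟩, fun c hc => ?_, ?_, ?_⟩
  · obtain ⟨u, e⟩ := i2.ge v.2
    exact ⟨u, Subtype.ext e⟩
  · exact (extA_of_mem _ (z_mem hc)).trans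
      ((ext_of_mem _).symm.trans (i3 (c, c) (z_mem ⟨c, hc, rfl⟩)))
  · exact (extA_of_mem _ a_mem).trans ((ext_of_mem _).symm.trans (i3 (a, b) a_mem))
  · exact (extA_of_mem _ b_mem).trans ((ext_of_mem _).symm.trans (i3 (b, a * b) b_mem))

end QZ

open QZ in
theorem QZ.exists_noninner [Finite S] (hS : IsPGroup 2 S) {Z : Subgroup Ω} {a b s : Ω}
    (h : QZ Z a b) (hQ : Z ⊔ zpowers a ⊔ zpowers b ≤ S) (hs : s ∈ S) (na : a ∉ Z) (nb : b ∉ Z)
    (nab : a * b ∉ Z) (cs : ∀ c ∈ Z, c * s = s * c) (sa : s * a = a * s) (sb : s * b * s⁻¹ = a * b)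
    (cen : ∀ g ∈ S, g * b = b * g → g ∈ Z ⊔ zpowers a ⊔ zpowers b)
    (nrm : ∀ g ∈ S, g * b * g⁻¹ ∈ Z ⊔ zpowers a ⊔ zpowers b → g * b * g⁻¹ * b⁻¹ ∈ zpowers a) :
    ∃ F : FusionSystem S, F.IsSaturated 2 ∧ F ≠ innerFusionSystem S := by
  haveI := finite_of_le hQ
  obtain ⟨ω, w1, w2, w3⟩ := h.exists_rot na nb nab
  have hw := homOn_extA ω
  have w4 : extA _ ω (a * b) = a := by rw [hw.mul a_mem b_mem, w2, w3, ← mul_assoc, h.ba]
  have s1 : ∀ c ∈ Z, s * c * s⁻¹ = c := fun c hc => by rw [← cs c hc, mul_inv_cancel_right]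
  have s2 : s * a * s⁻¹ = a := by rw [sa, mul_inv_cancel_right]
  have hs' : s ∈ normalizerIn S (Z ⊔ zpowers a ⊔ zpowers b) :=
    ⟨hs, mem_normalizer_of_conj_mem fun g hg => by
      obtain ⟨c, hc, rfl | rfl | rfl | rfl⟩ := h.cases hg <;> simp only [← conj_mul, s1 _ hc, s2, sb]
      exacts [z_mem hc, mul_mem (z_mem hc) a_mem, mul_mem (z_mem hc) (mul_mem a_mem b_mem),
        mul_mem (z_mem hc) (mul_mem a_mem (mul_mem a_mem b_mem))]⟩
  have e0 := h.conj'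
  have e1 : a * b * a⁻¹ = a * a * b := by rw [mul_assoc, eq_mul_of_mul_inv_eq e0, mul_assoc]
  have s4 : s⁻¹ * a * s = a := by rw [mul_assoc, ← sa, inv_mul_cancel_left]
  have s3 : s⁻¹ * b * s = a⁻¹ * b := by
    calc _ = (s⁻¹ * a * s)⁻¹ * (s⁻¹ * (a * b) * s) := by group
      _ = _ := by rw [s4, ← sb]; group
  have a1 : a ≠ 1 := fun e => na (e ▸ one_mem Z)
  have hn : s ∉ Z ⊔ zpowers a ⊔ zpowers b := fun hn => by
    have k : ∀ c ∈ Z, ∀ u v, u * b * u⁻¹ = v * b → v ∈ Z → c * u * b * (c * u)⁻¹ = v * b :=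
      fun c hc u v e hv => by
        rw [mul_inv_rev, ← mul_assoc, mul_assoc c, mul_assoc c, e, ← mul_assoc, h.ab c hc v hv,
          mul_assoc v, h.cb c hc]; group
    obtain ⟨c, hc, rfl | rfl | rfl | rfl⟩ := h.cases hn
    · exact a1 (by simpa [h.cb _ hc] using sb.symm)
    · exact a1 (by simpa using (k c hc a _ e1 h.aa).symm.trans sb)
    · exact a1 (by simpa using sb.symm.trans (k c hc b 1 (by simp) (one_mem Z)))
    · exact a1 (by simpa using (k c hc (a * b) _ (by rw [← e1]; group) h.aa).symm.trans sb)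
  have ev : ∀ g ∈ S, ∀ k : ℤ, g * b * g⁻¹ = a ^ (2 * k) * b → g ∈ Z ⊔ zpowers a ⊔ zpowers b :=
    fun g hg k e => by
    rw [zpow_mul, zpow_two] at e
    rcases zpow_eq_one_or_self h.zz k with ⟨-, e'⟩ | ⟨-, e'⟩ <;> rw [e'] at e
    · exact cen g hg (by simpa [mul_inv_eq_iff_eq_mul] using e)
    · refine (mul_mem_cancel_left (inv_mem a_mem)).1 (cen _ (mul_mem (inv_mem (hQ a_mem)) hg) ?_)
      rw [mul_assoc, eq_mul_of_mul_inv_eq e, ← e1]; group
  refine H93.exists_noninner hS hQ (fun g hg => cen g hg.1 (hg.2 b b_mem).symm) hs' hn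
    (fun g hg h1 => ?_) (ω := ω) (mulAut_ext (h.eq_on (homOn_extA _) (homOn_extA _)
      (fun c hc => ?_) ?_ ?_)) (fun e => nab ?_) (H90.mem_inn.2 ⟨a * b, mul_mem a_mem b_mem,
      h.eq_on (homOn_extA _) (homOn_cj _ (a * b)) (fun c hc => ?_) ?_ ?_⟩) fun R hR => ?_
  · obtain ⟨i, hi⟩ := mem_zpowers_iff.1 (nrm g hg.1 (conj_mem_of_normalizerIn hg b_mem))
    obtain ⟨k, rfl | rfl⟩ := Int.even_or_odd' i
    · exact absurd (ev g hg.1 k (by rw [hi]; simp)) h1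
    · refine ev _ (mul_mem (inv_mem hs) hg.1) k ?_
      calc _ = s⁻¹ * (g * b * g⁻¹ * b⁻¹) * s * (s⁻¹ * b * s) := by group
        _ = _ := by
          rw [← hi, s3, mul_assoc s⁻¹, ← (Commute.zpow_right sa _).eq]; group
  · simp [pow_three, w1 c hc]
  · simp [pow_three, w2, w3, w4]
  · simp [pow_three, w2, w3, w4]
  · rw [← w2, e]; simpa using h.aa
  · rw [extA_mul_apply, extA_mul_apply, extA_mul_apply, w1 c hc, ← conjAut_inv,
      extA_conjAut _ (z_mem hc), ← (Commute.inv_right (cs c hc)).eq, mul_inv_cancel_right, w1 c hc,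
      extA_conjAut _ (z_mem hc), s1 c hc,
      ← (Commute.mul_right (h.ca c hc) (h.cb c hc)).eq, mul_inv_cancel_right]
  · rw [extA_mul_apply, extA_mul_apply, extA_mul_apply, w2, ← conjAut_inv, extA_conjAut _ b_mem,
      inv_inv, s3, hw.mul (inv_mem a_mem) b_mem, hw.inv a_mem, w2, w3, extA_conjAut _
      (mul_mem (inv_mem b_mem) (mul_mem a_mem b_mem)), ← conj_mul, ← conj_mul, ← conj_inv, sb, s2]
    calc _ = b⁻¹ * (b * a⁻¹ * b⁻¹) * b := by rw [e0]; group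
      _ = a * (b * a * b⁻¹) * a⁻¹ := by rw [h.conj]; group
      _ = _ := by group
  · rw [extA_mul_apply, extA_mul_apply, extA_mul_apply, w3, ← conjAut_inv,
      extA_conjAut _ (mul_mem a_mem b_mem), ← conj_mul, inv_inv, s3, s4, mul_inv_cancel_left, w3,
      extA_conjAut _ (mul_mem a_mem b_mem), ← conj_mul, sb, s2, ← mul_assoc, ← e1]
    group
  by_contra! hc
  have k1 : ∀ i : ℕ, ∀ y, y ∈ im (extA _ (ω ^ i)) R ↔ ∃ u ∈ R, extA _ (ω ^ i) u = y := fun i y =>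
    ((homOn_extA _).mono hR.le).mem_im
  have k2 : ∀ i : ℕ, im (extA _ (ω ^ i)) R ≤ Z ⊔ zpowers a ⊔ zpowers b := fun i =>
    im_le_iff.2 fun u hu => extA_mem _ (hR.le hu)
  have k3 : ∀ i : ℕ, Z ≤ im (extA _ (ω ^ i)) R := fun i c hc' => hc i ⟨hQ (z_mem hc'), fun y hy => by
    obtain ⟨d, hd, rfl | rfl | rfl | rfl⟩ := h.cases (k2 i hy)
    exacts [h.ab _ hd c hc', (Commute.mul_left (h.ab _ hd c hc') (h.ca c hc').symm).eq,
      (Commute.mul_left (h.ab _ hd c hc') (h.cb c hc').symm).eq, (Commute.mul_left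
        (h.ab _ hd c hc') (Commute.mul_left (h.ca c hc').symm (h.cb c hc').symm)).eq]⟩
  have k4 : ∀ i : ℕ, b ∈ im (extA _ (ω ^ i)) R ∨ a * b ∈ im (extA _ (ω ^ i)) R := fun i => by
    by_contra! k4
    refine hn (k2 i (hc i ⟨hs, fun y hy => ?_⟩))
    obtain ⟨d, hd, rfl | rfl | rfl | rfl⟩ := h.cases (k2 i hy)
    exacts [cs _ hd, (Commute.mul_left (cs _ hd) sa.symm).eq,
      absurd ((mul_mem_cancel_left (k3 i hd)).1 hy) k4.1,
      absurd ((mul_mem_cancel_left (k3 i hd)).1 hy) k4.2]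
  have k5 : ∀ i : ℕ, ∀ u v, extA _ (ω ^ i) u = v → v ∈ im (extA _ (ω ^ i)) R → u ∈ R :=
    fun i u v e hv => by
      obtain ⟨u', hu, e'⟩ := (k1 i v).1 hv
      rwa [(extA _ _).injective (e.trans e'.symm)]
  have k6 : a ∈ R → b ∈ R → False := fun h1 h2 => hR.not_ge (sup_le (sup_le
    (fun c hc' => k5 0 c c (by simp) (k3 0 hc')) (zpowers_le.2 h1)) (zpowers_le.2 h2))
  have k7 := (k4 0).imp (k5 0 b _ (by simp)) (k5 0 (a * b) _ (by simp))
  have k8 := (k4 1).imp (k5 1 a _ (by simp [w2])) (k5 1 b _ (by simp [w3]))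
  have k9 := (k4 2).imp (k5 2 (a * b) _ (by simp [pow_two, w2, w4]))
    (k5 2 a _ (by simp [pow_two, w2, w3]))
  by_cases h1 : a ∈ R
  · exact k6 h1 (k7.elim id (mul_mem_cancel_left h1).1)
  · exact h1 ((mul_mem_cancel_right (k8.resolve_left h1)).1 (k9.resolve_right h1))

namespace BC

variable {G : Type*} [Group G] [Finite G] {x b : G} (h : BC x b) (hA : IsCyclic (commutator G))
include h hA

theorem normal_c : (zpowers ⁅x, b⁆).Normal := h.zpowers_c hA ▸ inferInstance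

theorem inverts {a : G} (ha : a ∈ commutator G) : b * a * b⁻¹ = a⁻¹ := by
  have h1 := cyc_invol (h.normal_c hA) ((h.zpowers_c hA).ge h.bb)
    (h.sq_eq_one h.b_mem h.b_notMem_fr h.bb (mul_assoc b b b).symm) x
  obtain ⟨i, rfl⟩ := mem_zpowers_iff.1 ((h.zpowers_c hA).ge ha)
  rw [← conj_zpow, ← inv_zpow]
  congr 1
  calc _ = ⁅x, b⁆⁻¹ * (x * (b * b) * x⁻¹ * (b * b)⁻¹) := by simp only [commutatorElement_def]; group
    _ = _ := by rw [h1]; simp

theorem fr_le_cent {u : G} (hu : u ∈ commutator G) (h8 : u ^ (8 : ℤ) = 1) :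
    frattini G ≤ centralizer {u} := h.fr_eq ▸ sup_le
  (fun a ha => mem_centralizer_singleton_iff.2 (h.ab a ha u hu)) (zpowers_le.2
    (mem_centralizer_singleton_iff.2 (cyc_eight (h.normal_c hA) ((h.zpowers_c hA).ge hu) h8 x)))

theorem exists_s {a : G} (ha : a ∈ commutator G) (h4 : a * a * (a * a) = 1) :
    ∃ s, (∀ c ∈ frattini G, c * s = s * c) ∧ (⁅s, b⁆ = a ∨ ⁅s, b⁆ = a⁻¹) := by
  obtain ⟨p, rfl⟩ := mem_zpowers_iff.1 ((h.zpowers_c hA).ge ha)
  obtain ⟨p, rfl | rfl⟩ := Int.even_or_odd' p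
  · have hu := zpow_mem (comm_mem x b) p
    refine ⟨_, fun c hc => mem_centralizer_singleton_iff.1 (h.fr_le_cent hA hu (by
      rw [← h4]; group) hc), Or.inl ?_⟩
    rw [commutatorElement_def (_ ^ p), mul_assoc, mul_assoc, ← mul_assoc b,
      h.inverts hA (inv_mem hu)]; group
  obtain ⟨l, hl⟩ := mem_zpowers_iff.1
    (mem_zpowers_zpow_of_odd h.pg ⁅x, b⁆ (odd_two_mul_add_one p))
  have h5 : ⁅x, b⁆ * ⁅x, b⁆ * (⁅x, b⁆ * ⁅x, b⁆) = 1 := by
    rw [← hl, ← (Commute.refl _).mul_zpow, ← (Commute.refl _).mul_zpow, h4, one_zpow]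
  have key : ∀ k : ℤ, ⁅x, b⁆ ^ (2 * k + 1) = ⁅x, b⁆ ∨ ⁅x, b⁆ ^ (2 * k + 1) = ⁅x, b⁆⁻¹ := fun k => by
    rw [zpow_add, zpow_mul, zpow_two, zpow_one]
    refine (zpow_eq_one_or_self h5 k).imp (fun e => by simp [e.2]) fun e => ?_
    rw [e.2, eq_inv_iff_mul_eq_one, mul_assoc, h5]
  have fin : ∀ s, BC s b → ⁅s, b⁆ = ⁅x, b⁆ → s * ⁅x, b⁆ * s⁻¹ = ⁅x, b⁆ → ∃ s, (∀ c ∈ frattini G,
      c * s = s * c) ∧ (⁅s, b⁆ = ⁅x, b⁆ ^ (2 * p + 1) ∨ ⁅s, b⁆ = (⁅x, b⁆ ^ (2 * p + 1))⁻¹) :=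
    fun s hs e e' => ⟨s, fun c hc => mem_centralizer_singleton_iff.1 ((hs.fr_eq ▸ sup_le
      (h.zpowers_c hA ▸ zpowers_le.2 (mem_centralizer_singleton_iff.2
        (mul_inv_eq_iff_eq_mul.1 e').symm)) (zpowers_le.2 (mem_centralizer_singleton_iff.2
        (mul_assoc s s s))) :) hc), (key p).imp (fun k => e.trans k.symm) fun k => by rw [e, k, inv_inv]⟩
  obtain ⟨k, hk⟩ := cyc_conj (h.normal_c hA) x
  rcases key k with e | e
  · exact fin x h rfl ((hk _ (mem_zpowers _)).trans e)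
  · refine fin (x * b) (h.base (fun e => h.x_notMem ((mul_mem_cancel_right h.b_mem).1 e)) h.bb
      h.b_notMem_fr) (by simp only [commutatorElement_def]; group) ?_
    rw [mul_inv_rev, ← mul_assoc, mul_assoc x, mul_assoc x, h.inverts hA (comm_mem x b), ← conj_inv,
      hk _ (mem_zpowers _), e, inv_inv]

theorem exists_sq' {r : G} (hr : r ∈ rr G) : ∃ u ∈ commutator G, r = u * u := by
  obtain ⟨p, rfl⟩ := mem_zpowers_iff.1 ((h.zpowers_c hA).ge (rr_le_comm hr))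
  rcases Int.even_or_odd p with ⟨p, rfl⟩ | hp
  · exact ⟨_, zpow_mem (comm_mem x b) p, zpow_add _ _ _⟩
  · exact absurd (zpowers_le.2 hr (mem_zpowers_zpow_of_odd h.pg _ hp)) h.c_notMem

end BC

theorem BC.exists_noninner' [Finite S] {x b a : S} (h : BC x b) (hA : IsCyclic (commutator S))
    {Z : Subgroup S} (h1 : Z ≤ frattini S ⊓ centralizer {b})
    (h2 : frattini S ⊓ centralizer {b} ≤ Z ⊔ zpowers a) (ha : a ∈ commutator S) (na : a ∉ Z)
    (aa : a * a ∈ Z) (bb : b * b = a * a) :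
    ∃ F : FusionSystem S, F.IsSaturated 2 ∧ F ≠ innerFusionSystem S := by
  haveI : Fact (Nat.Prime 2) := ⟨Nat.prime_two⟩
  have h4 := h.sq_eq_one h.b_mem h.b_notMem_fr h.bb (mul_assoc b b b).symm
  rw [bb] at h4
  obtain ⟨s, hs, e⟩ := h.exists_s hA ha h4
  wlog e' : ⁅s, b⁆ = a generalizing a
  · exact this (by rwa [zpowers_inv]) (inv_mem ha) (by simpa using na)
      (by simpa using inv_mem aa) (by rw [bb, ← mul_inv_rev, eq_inv_iff_mul_eq_one, h4])
      (by rw [← mul_inv_rev, ← mul_inv_rev, h4, inv_one]) (by simpa using e.symm) (e.resolve_left e')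
  have hc : ∀ c ∈ Z, c * b = b * c := fun c hc => mem_centralizer_singleton_iff.1 (h1 hc).2
  have q : QZ Z a b := ⟨fun c k c' k' => h.comm_of_comm h.b_mem h.b_notMem_fr (hc c k) (hc c' k'),
    fun c k => mem_centralizer_singleton_iff.1 (h.fr_le_cent hA ha (by
      rw [← mul_one 1, ← h4, zpow_ofNat]; simp only [pow_succ, pow_zero, one_mul, mul_assoc])
      (h1 k).1), hc, aa, bb, by
    rw [mul_inv_eq_iff_eq_mul.1 (h.inverts hA ha), mul_assoc, bb, inv_mul_cancel_left]⟩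
  have m : ∀ u : S, (u : Ω) ∈ Z.map S.subtype ↔ u ∈ Z := fun u => mem_map_iff_mem S.subtype_injective
  have eQ : Z.map S.subtype ⊔ zpowers (a : Ω) ⊔ zpowers (b : Ω) =
      (Z ⊔ zpowers a ⊔ zpowers b).map S.subtype := by simp [Subgroup.map_sup]
  have nb : ∀ c ∈ frattini S, c * b ∉ frattini S := fun c hc e =>
    h.b_notMem_fr ((mul_mem_cancel_left hc).1 e)
  refine QZ.exists_noninner h.pg (Z := Z.map S.subtype) (a := a) (b := b) (s := s) ⟨?_, ?_, ?_,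
    (m (a * a)).2 aa, congrArg Subtype.val bb, congrArg Subtype.val q.ba⟩ (eQ ▸ map_subtype_le _) s.2
    (mt (m a).1 na) (fun e => h.b_notMem_fr (h1 ((m b).1 e)).1)
    (fun e => nb a (h.comm_le_fr ha) (h1 ((m (a * b)).1 e)).1) ?_
    (congrArg Subtype.val (hs a (h.comm_le_fr ha)).symm)
    (congrArg Subtype.val (show s * b * s⁻¹ = a * b by rw [← e']; simp [commutatorElement_def]))
    (fun g hg e => eQ ▸ ⟨⟨g, hg⟩, ?_, rfl⟩) fun g hg e => ?_
  · rintro _ ⟨c, k, rfl⟩ _ ⟨c', k', rfl⟩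
    exact congrArg Subtype.val (q.ab c k c' k')
  · rintro _ ⟨c, k, rfl⟩
    exact congrArg Subtype.val (q.ca c k)
  · rintro _ ⟨c, k, rfl⟩
    exact congrArg Subtype.val (hc c k)
  · rintro _ ⟨c, k, rfl⟩
    exact congrArg Subtype.val (hs c (h1 k).1)
  · have h5 : (⟨g, hg⟩ : S) * b = b * ⟨g, hg⟩ := Subtype.ext e
    by_cases h6 : (⟨g, hg⟩ : S) ∈ frattini S
    · exact mem_sup_left (h2 ⟨h6, mem_centralizer_singleton_iff.2 h5⟩)
    · exact (mul_mem_cancel_left (inv_mem QZ.b_mem)).1 (mem_sup_left (h2 ⟨h.mul_mem_fr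
        (h.mem_m3_of_comm h.b_mem h.b_notMem_fr h5) h6, (centralizer {b}).mul_mem
        (inv_mem (mem_centralizer_singleton_iff.2 rfl)) (mem_centralizer_singleton_iff.2 h5)⟩))
  · have h5 : ⁅(⟨g, hg⟩ : S), b⁆ ∈ Z ⊔ zpowers a ⊔ zpowers b := mul_mem
      ((mem_map_iff_mem S.subtype_injective).1 (eQ ▸ e :)) (inv_mem QZ.b_mem)
    have h6 : ∀ c ∈ Z, c ∈ commutator S → c ∈ zpowers a := fun c k k' => by
      by_cases h7 : c = 1
      · simp [h7]
      obtain ⟨z, hz, -, hz2⟩ := H5.exists_mem_centralizer_orderOf_eq (h.pg.to_subgroup (zpowers a))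
        le_rfl le_normalizer (by rw [Ne, zpowers_eq_bot]; rintro rfl; exact na (one_mem Z))
      rwa [h.invol_eq hA ⟨k', h.sq_eq_one h.b_mem h.b_notMem_fr k' (hc c k).symm⟩
        ⟨zpowers_le.2 ha hz, by rw [← pow_two, ← hz2, pow_orderOf_eq_one]⟩ h7
        (by rintro rfl; simp at hz2)]
    have h7 := comm_mem (⟨g, hg⟩ : S) b
    suffices ⁅(⟨g, hg⟩ : S), b⁆ ∈ zpowers a from (S.subtype.map_zpowers a).le ⟨_, this, rfl⟩
    obtain ⟨c, k, e | e | e | e⟩ := q.cases h5 <;> rw [e] at h7 ⊢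
    · exact h6 c k h7
    · exact mul_mem (h6 c k ((mul_mem_cancel_right ha).1 h7)) (mem_zpowers a)
    · exact absurd (h.comm_le_fr h7) (nb c (h1 k).1)
    · exact absurd (h.comm_le_fr h7) (mul_assoc c a b ▸ nb _ (mul_mem (h1 k).1 (h.comm_le_fr ha)))

theorem BC.exists_noninner [Finite S] {x b : S} (h : BC x b) (hA : IsCyclic (commutator S)) :
    ∃ F : FusionSystem S, F.IsSaturated 2 ∧ F ≠ innerFusionSystem S := by
  haveI : Fact (Nat.Prime 2) := ⟨Nat.prime_two⟩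
  have q8 : ∀ b : S, BC x b → b * b ≠ 1 →
      ∃ F : FusionSystem S, F.IsSaturated 2 ∧ F ≠ innerFusionSystem S := fun b h h1 => by
    obtain ⟨a, ha, e⟩ := h.exists_sq' hA h.bb_mem
    exact h.exists_noninner' hA le_rfl le_sup_left ha (fun h2 => h1 (e.trans (h.sq_eq_one h.b_mem
      h.b_notMem_fr ha (mem_centralizer_singleton_iff.1 h2.2).symm)))
      (e ▸ ⟨h.sq_mem_fr b, mem_centralizer_singleton_iff.2 (mul_assoc b b b)⟩) e
  by_cases h1 : b * b = 1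
  swap
  · exact q8 b h h1
  obtain ⟨z, hz, -, hz2⟩ := H5.exists_mem_center_orderOf_eq h.pg (commutator S)
    fun e => h.c_notMem (mem_bot.1 (e ▸ comm_mem x b) ▸ one_mem _)
  have z2 : z * z = 1 := by rw [← pow_two, ← hz2, pow_orderOf_eq_one]
  have z1 : z ≠ 1 := by rintro rfl; simp at hz2
  obtain ⟨v, hv, e⟩ := h.exists_sq' hA (inv_mem (h.comm_fr (h.sq_mem_fr x) b))
  obtain ⟨u, hu, e'⟩ := h.exists_comm_eq_sq h.b_mem h.b_notMem_fr hv
  have k1 : u * (x * x) ∈ frattini S := mul_mem (h.comm_le_fr hu) (h.sq_mem_fr x)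
  have k2 : Commute b (u * (x * x)) := by
    rw [← commutatorElement_eq_one_iff_commute, h.comm_mul hu, e', ← e, inv_mul_cancel]
  by_cases h2 : z ∈ zpowers (u * (x * x))
  · obtain ⟨p, rfl⟩ := mem_zpowers_iff.1 h2
    rcases Int.even_or_odd p with ⟨p, rfl⟩ | hp
    · have h3 : b * (u * (x * x)) ^ p * (b * (u * (x * x)) ^ p) = (u * (x * x)) ^ (p + p) := by
        rw [(k2.zpow_right p).symm.mul_mul_mul_comm, h1, one_mul, zpow_add]
      exact q8 _ (h.base h.x_notMem (h3 ▸ hz) fun h4 =>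
        h.b_notMem_fr ((mul_mem_cancel_right (zpow_mem k1 p)).1 h4)) (h3 ▸ z1)
    · exact absurd ((mul_mem_cancel_left hu).1
        (zpowers_le.2 hz (mem_zpowers_zpow_of_odd h.pg _ hp))) h.xx
  refine h.exists_noninner' hA (zpowers_le.2 ⟨k1, mem_centralizer_singleton_iff.2 k2.symm⟩)
    (fun g hg => ?_) hz h2 (z2 ▸ one_mem _) (h1.trans z2.symm)
  obtain ⟨i, hi⟩ := mem_zpowers_iff.1 (mem_comm_sup.1 (h.fr_eq ▸ hg.1))
  have h3 : ((u * (x * x)) ^ i)⁻¹ * g ∈ commutator S := of_eq_one_iff.1 (by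
    simp [← hi, of_eq_one_iff.2 hu])
  rw [← mul_inv_cancel_left ((u * (x * x)) ^ i) g]
  refine mul_mem (mem_sup_left (zpow_mem_zpowers _ _)) (mem_sup_right ?_)
  by_cases h4 : ((u * (x * x)) ^ i)⁻¹ * g = 1
  · simp [h4]
  · simp [h.invol_eq hA ⟨h3, h.sq_eq_one h.b_mem h.b_notMem_fr h3 ((k2.zpow_right i).inv_right.mul_right
      (mem_centralizer_singleton_iff.1 hg.2).symm)⟩ ⟨hz, z2⟩ h4 z1]

end H93
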