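import Mathlib
import Cfsg.Agent.Base
import Cfsg.Agent.Lib.Fusion.Bicyc

/-!
# Perfect fusion systems on bicyclic `2`-groups have rank at most two
-/

set_option autoImplicit false

namespace H93

universe u

open Cfsg Cfsg.FusionSystem H90 Subgroup H83

variable {Ω : Type u} [Group Ω] {S : Subgroup Ω} [Finite S] {F : FusionSystem S}

theorem focal_le_of_p'_elts {p : ℕ} [Fact p.Prime] (hS : IsPGroup p S) (hF : F.IsSaturated p)
    {K : Subgroup Ω} (hK : ⁅S, S⁆ ≤ K) (h : ∀ P, (P = S ∨ F.IsEssential p P) → ∀ α ∈ F.autGroup P,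
      (orderOf α).Coprime p → α ∈ trv (K.subgroupOf P)) : F.focalSubgroup ≤ K := by
  refine focalSubgroup_le_iff.2 fun P f hf x hx => ?_
  suffices h0 : ∃ σ : Equiv.Perm Ω, (∀ x ∈ P, x⁻¹ * σ x ∈ K) ∧ ∀ x ∈ P, σ x = f x from
    let ⟨_, hσ, e⟩ := h0; e x hx ▸ hσ x hx
  refine alperin_induction hS hF (C := fun P σ => ∀ x ∈ P, x⁻¹ * σ x ∈ K)
    (fun P R σ hR hσ hPR x hx => ?_) (fun P Q σ τ _ _ h1 h2 hm x hx => by
      simpa [mul_assoc] using K.mul_mem (h1 x hx) (h2 _ (hm x hx))) hf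
  have hn : F.IsFullyNormalized R := by
    rcases hR with rfl | hR
    exacts [isFullyNormalized_top F, hR.2.1]
  have := finite_mulAut_of_le hn.1
  have h1 := mem_of_sylowIn_of_p'_elts (K := trv (K.subgroupOf R))
    (sylowIn_of_normalized hS hF hn) (fun α hα y => by
    obtain ⟨g, hg, e⟩ := H93.mem_autInducedBy.1 hα
    have := inv_mul_conj_mem_of_commutator_le hK (hn.1 y.2) hg
    rwa [← e] at this) (h R hR) hσ.equiv_mem ⟨x, hPR hx⟩
  rw [← extA_equiv hσ (hPR hx), extA_of_mem _ (hPR hx)]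
  exact h1

theorem BC.pRankLE_of_focal {x b : S} (h : BC x b) (hF : F.IsSaturated 2)
    (hf : S ≤ F.focalSubgroup) : PRankLE 2 2 S := by
  by_contra hn
  obtain ⟨y, h1, e⟩ := focal_le_of_p'_elts h.pg hF (K := (m3 S).map S.subtype) (by
    rw [← map_subtype_commutator]; exact map_mono comm_le_m3) (fun P hP α hα hc y => by
      have hPS := (centralizerIn_le_of_top_or hP).1
      have := finite_of_le hPS
      have ho := Nat.coprime_two_right.1 hc
      by_contra h1
      obtain ⟨β, -, h2, h3⟩ := exists_res (h.pg.to_le hPS) ho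
      refine hn (h.pRankLE ?_ ((inclusion hPS).comp (cmw α).subtype)
        ((inclusion_injective hPS).comp (cmw α).subtype_injective) h3 (ho.of_dvd_nat h2)
        (t := ⟨_, mem_cmw α y⟩) fun h4 => h1 ⟨_, h4, rfl⟩)
      by_contra hA
      rw [h.eq_inner hF hA, autGroup_inner hPS] at hα
      obtain ⟨k, hk⟩ := isPGroup_autInducedBy h.pg P ⟨α, hα⟩
      rw [eq_one_of_odd_of_pow ho (congrArg Subtype.val hk)] at h1
      simp at h1) (hf x.2)
  exact h.x_notMem (Subtype.ext e ▸ h1)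

theorem pRankLE_of_syl {G : Type*} [Group G] [Finite G] {p k : ℕ} [Fact p.Prime] (P : Sylow p G)
    (h : PRankLE p k (P : Subgroup G)) : PRankLE p k G := fun A _ hA => by
  obtain ⟨Q, hQ⟩ := IsPGroup.exists_le_sylow (p := p) (P := A) fun a =>
    ⟨1, Subtype.ext (by simpa using hA a a.2)⟩
  let j := (Sylow.equiv Q P).toMonoidHom.comp (inclusion hQ)
  have hj : Function.Injective j := (Sylow.equiv Q P).injective.comp (inclusion_injective hQ)
  rw [Nat.card_congr (MonoidHom.ofInjective hj).toEquiv]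
  refine h _ inferInstance ?_
  rintro _ ⟨a, rfl⟩
  rw [← map_pow, show a ^ p = 1 from Subtype.ext (hA a a.2), map_one]

theorem pRankLE_of_bicyclic {G : Type u} [Group G] [Finite G] (hG : commutator G = ⊤)
    (P : Sylow 2 G) {x y : (P : Subgroup G)} (hb : ∀ g, ∃ i j : ℤ, g = x ^ i * y ^ j) :
    PRankLE 2 2 G := by
  refine pRankLE_of_syl P ?_
  by_cases hm : IsMetacyclic (P : Subgroup G)
  · intro A _ hA
    have := sr_of_isMetacyclic P.isPGroup' hm A ⊥ bot_le fun a ha => by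
      rw [← pow_two, hA a ha]; exact one_mem _
    rwa [relIndex_bot_left] at this
  obtain ⟨u, v, h⟩ := exists_bc P.isPGroup' hm hb
  exact h.pRankLE_of_focal (isSaturated_groupFusionSystem P) fun g hg =>
    (mem_focal_iff (groupFusionSystem_isRealizedBy _) P (range_subtype _).symm hg).2 (hG ▸ mem_top _)

theorem card_le_of_bicyclic {G : Type*} [Group G] {x y : G} (hb : ∀ g, ∃ i j : ℤ, g = x ^ i * y ^ j)
    [Finite G] : Nat.card G ≤ orderOf x * orderOf y := by
  rw [← Nat.card_zpowers, ← Nat.card_zpowers, ← Nat.card_prod]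
  exact Nat.card_le_card_of_surjective (fun a : zpowers x × zpowers y => (a.1 : G) * a.2) fun g =>
    let ⟨i, j, e⟩ := hb g; ⟨(⟨_, i, rfl⟩, ⟨_, j, rfl⟩), e.symm⟩

end H93
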