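import Mathlib
import Cfsg.Agent.Base
import Cfsg.Agent.Lib.Fusion.Resid
import Cfsg.Agent.Lib.Fusion.CProd
import Cfsg.Agent.Lib.Fusion.CentSys

/-!
# Full subsystems on a strongly closed direct factor
-/

set_option autoImplicit false

namespace H91

open Cfsg Cfsg.FusionSystem H90
open H68 (SylowIn)

variable {Ω : Type*} [Group Ω] {S T U : Subgroup Ω} {F : FusionSystem S} {E : FusionSystem T}
  {p : ℕ} [Finite S] [Fact p.Prime]

omit [Fact p.Prime] in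
/-- The full subsystem on a strongly closed `T` with `S = T C_S(T)` is saturated. -/
theorem isSaturated_of_full (hF : F.IsSaturated p) (hT : F.StronglyClosed T)
    (hS : ∀ s ∈ S, ∃ t ∈ T, ∀ x ∈ T, s * x * s⁻¹ = t * x * t⁻¹)
    (hE : ∀ P f, P ≤ T → (Map E P f ↔ Map F P f)) : E.IsSaturated p := by
  have := finite_of_le hT.1
  refine isSaturated_iff.2 fun P hP => ?_
  obtain ⟨Q, σ, hσ, h₁, h₂⟩ := isSaturated_iff.1 hF P (hP.trans hT.1)
  have hQ : Q ≤ T := fun y hy => by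
    obtain ⟨x, hx, rfl⟩ := hσ.exists_eq hy
    exact SC.mem hT hσ.map hx (hP hx)
  refine ⟨Q, σ, ⟨(hE _ _ hP).2 hσ.map, hσ.2⟩, isFullyAutomized_iff.2 ⟨hQ, ?_⟩,
    isReceptive_iff.2 ⟨hQ, fun R τ hτ => ?_⟩⟩
  · have := finite_of_le hQ
    have e1 : autInducedBy T Q = autInducedBy S Q := le_antisymm (autInducedBy_mono hT.1 Q)
      fun α hα => by
        obtain ⟨g, hg, e⟩ := mem_autInducedBy.1 hα
        obtain ⟨t, ht, et⟩ := hS g hg.1
        exact mem_autInducedBy.2 ⟨t, ⟨ht, mem_normalizer_of_conj_mem fun x hx =>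
          et x (hQ hx) ▸ H68.conj_mem_of_mem_normalizer hg.2 hx⟩,
          fun x hx => (e x hx).trans (et x (hQ hx))⟩
    have e2 : E.autGroup Q = F.autGroup Q := Subgroup.ext fun α => by
      rw [mem_autGroup hQ, mem_autGroup (hQ.trans hT.1), hE _ _ hQ]
    rw [e1, e2]
    exact (isFullyAutomized_iff.1 h₁).2
  · obtain ⟨ψ, hψ, e⟩ := Iso.extend ⟨(hE _ _ hτ.le).1 hτ.map, hτ.2⟩ h₂
    exact ⟨ψ, (hE _ _ ((Next_le_normalizerIn _ _ _).trans inf_le_left)).2 (hψ.mono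
      fun g ⟨hg, h, hh, e⟩ => ⟨⟨hT.1 hg.1, hg.2⟩, h, hT.1 hh, e⟩), e⟩

variable (hS : IsPGroup p S) (hF : F.IsSaturated p)
include hS hF

/-- A map on `P ≤ T` extends to `P U` if `T` and `U` are strongly closed and commute. -/
theorem exists_ext_comm (hT : F.StronglyClosed T) (hU : F.StronglyClosed U) (hc : Comm T U)
    {P : Subgroup Ω} (hP : P ≤ T) {σ : Equiv.Perm Ω} (hσ : Map F P σ) :
    ∃ τ : Equiv.Perm Ω, Map F (P ⊔ U) τ ∧ ∀ x ∈ P, τ x = σ x := by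
  obtain ⟨Q, χ, hχ, hQ⟩ := exists_fullyCentralized F hσ.im_le
  have key : ∀ {R : Subgroup Ω} {a : Equiv.Perm Ω}, R ≤ T → Iso F R Q a →
      ∃ b : Equiv.Perm Ω, Iso F (R ⊔ U) (Q ⊔ U) b ∧ ∀ x ∈ R, b x = a x := fun {R a} hR ha => by
    obtain ⟨b, hb, e, -⟩ := ha.extend_centralizer (receptive_of_centralized hS hF hQ)
    have hb' : Map F (R ⊔ U) b := hb.mono (sup_le_sup_left
      (le_inf hU.1 (hc.symm.mono le_rfl hR).le_centralizer) R)
    have hi := hb'.iso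
    rw [hb'.homOn.im_sup, (ha.congr fun x hx => (e x hx).symm).im_eq,
      ((hb'.mono le_sup_right).iso_self fun x hx =>
        SC.mem hU hb' (Subgroup.mem_sup_right hx) hx).im_eq] at hi
    exact ⟨b, hi, e⟩
  obtain ⟨a, ha, ea⟩ := key hP (hσ.iso.trans hχ)
  obtain ⟨b, hb, eb⟩ := key (im_le_iff.2 fun x hx => SC.mem hT hσ hx (hP hx)) hχ
  refine ⟨_, (ha.trans hb.symm).map, fun x hx => ?_⟩
  rw [Equiv.Perm.mul_apply, ea x hx, Equiv.Perm.mul_apply, ← eb _ (mem_im_of_mem σ hx), pinv_apply]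

theorem direct_factor (hT : F.StronglyClosed T) (hU : F.StronglyClosed U) (hc : Comm T U)
    (hs : T ⊔ U = S) {R R' : FusionSystem T}
    (hR : ∀ P f, P ≤ T → (Map R P f ↔ Map F P f))
    (hR' : ∀ P f, P ≤ T → (Map R' P f ↔ CMap F U P f)) :
    R.IsSaturated p ∧ R'.IsSaturated p ∧ R'.IsNormalIn F p ∧ R'.IsNormalIn R p ∧
      R.IsWeaklyNormalIn F p := by
  have := finite_of_le hT.1
  have hdec : ∀ s ∈ S, ∃ t ∈ T, ∀ x ∈ T, s * x * s⁻¹ = t * x * t⁻¹ := fun s h => by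
    obtain ⟨a, ha, b, hb, rfl⟩ := hc.mem_sup.1 (hs ▸ h)
    exact ⟨a, ha, fun x hx => by
      rw [show a * b * x * (a * b)⁻¹ = a * (b * x * b⁻¹) * a⁻¹ by group, hc.symm.conj_eq hb hx]⟩
  have hRs := isSaturated_of_full hF hT hdec hR
  have hRF : R.IsSubsystemOf F := sub_iff_map.2 fun P f hf => (hR P f hf.le).1 hf
  have hR'R : R'.IsSubsystemOf R := sub_iff_map.2 fun P f hf =>
    (hR P f hf.le).2 ((hR' P f hf.le).1 hf).map
  have hUc := centralized_of_normalized hS hF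
    (isFullyNormalized_of_le_normalizer hU.1 (SC.le_normalizer hU))
  have hTC : T ≤ centralizerIn S U := le_inf hT.1 hc.le_centralizer
  have hR's : R'.IsSaturated p := by
    have := finite_of_le (centralizerIn_le S U)
    refine isSaturated_of_full (isSaturated_csys hS hF hUc) ?_ (fun s h => hdec s h.1)
      fun P f hP => (hR' P f hP).trans map_csys.symm
    simpa [inf_eq_left.2 hTC] using stronglyClosed_sub (csys_sub F hUc.1) hT
  have hinv : Inv R' F := by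
    refine SInv.inv hS hF (fun P Q φ ψ hφ hψ hPQ hm => ?_) (sub_trans hR'R hRF) hT
    obtain ⟨τ, hτ, e⟩ := exists_ext_comm hS hF hT hU hc inf_le_right (hψ.mono (inf_le_left (b := T)))
    have hP : P ≤ Q ⊓ T := le_inf hPQ hφ.le
    have h1 := ((hR' P φ hφ.le).1 hφ).conj hU hτ le_sup_right (hP.trans le_sup_left)
      fun x hx => Subgroup.mem_sup_left ⟨hm x hx, hφ.mem hx⟩
    rw [im_congr fun x hx => e x (hP hx)] at h1
    refine (hR' _ _ (im_le_iff.2 fun x hx => SC.mem hT hψ (hPQ hx) (hφ.le hx))).2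
      (h1.congr fun y hy => ?_)
    obtain ⟨x, hx, rfl⟩ := (hψ.mono hPQ).mem_im.1 hy
    simp only [Equiv.Perm.mul_apply, pinv_apply]
    rw [← e x (hP hx), pinv_apply, e _ ⟨hm x hx, hφ.mem hx⟩]
  refine ⟨hRs, hR's, isNormalIn_iff.2 ⟨hR's, hF, hinv, fun σ hσ => ?_⟩,
    isNormalIn_of_weakly_top (isWeaklyNormalIn_iff.2 ⟨hR's, hRs, hinv.of_sub hS hRs hR'R hRF⟩),
    isWeaklyNormalIn_iff.2 ⟨hRs, hF, SInv.inv hS hF (fun P Q φ ψ hφ hψ hPQ hm => ?_) hRF hT⟩⟩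
  · obtain ⟨-, τ, hτ, e, e'⟩ := cmap_iff.1 ((hR' T σ le_rfl).1 hσ.map)
    refine ⟨τ, hτ.mono ((sup_le hT.1 (centralizerIn_le _ _)).trans hs.ge), e, fun c h => ?_⟩
    obtain ⟨a, ha, b, hb, rfl⟩ := hc.mem_sup.1 (hs ▸ h.1)
    have h1 : a⁻¹ * τ a ∈ T := mul_mem (T.inv_mem ha) (e a ha ▸ hσ.mem ha)
    rw [hτ.map_mul (Subgroup.mem_sup_left ha) (Subgroup.mem_sup_right hb), e' b hb, mul_inv_rev,
      mul_assoc, ← mul_assoc a⁻¹, hc _ h1 b hb, inv_mul_cancel_left]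
    exact h1
  · exact (hR _ _ (im_le_iff.2 fun x hx => SC.mem hT hψ (hPQ hx) (hφ.le hx))).2
      ((inv_refl F).sinv P Q φ ψ (hφ.of_sub hRF) hψ hPQ hm)

end H91
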