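import Mathlib
import Cfsg.Agent.Base
import Cfsg.Agent.Lib.Fusion.Heis
import Cfsg.Agent.Lib.GL.Unitri

/-!
# The Sylow `p`-subgroup of `SL₃(q)` is Heisenberg-like
-/

set_option autoImplicit false

namespace H90

open Cfsg

theorem Heis.of_coords {Ω : Type*} [Group Ω] {S : Subgroup Ω} {K : Type*} [Field K]
    (a b c : S → K) (ha : ∀ x y, a (x * y) = a x + a y) (hb : ∀ x y, b (x * y) = b x + b y)
    (hc : ∀ x y, c (x * y) = c x + c y + a x * b y)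
    (ext : ∀ x y, a x = a y → b x = b y → c x = c y → x = y)
    (ex : ∀ s t, ∃ x, a x = s ∧ b x = t) : ∃ Z, Heis S Z := by
  have a1 : a 1 = 0 := by simpa using ha 1 1
  have b1 : b 1 = 0 := by simpa using hb 1 1
  have ai : ∀ x, a x⁻¹ = - a x := fun x => by
    have := ha x x⁻¹; rw [mul_inv_cancel, a1] at this; linear_combination -this
  have bi : ∀ x, b x⁻¹ = - b x := fun x => by
    have := hb x x⁻¹; rw [mul_inv_cancel, b1] at this; linear_combination -this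
  have comm : ∀ x y, x * y = y * x ↔ a x * b y = a y * b x := fun x y =>
    ⟨fun h => by
      have := congrArg c h
      rw [hc, hc] at this
      linear_combination this,
    fun h => ext _ _ (by rw [ha, ha, add_comm]) (by rw [hb, hb, add_comm])
      (by rw [hc, hc]; linear_combination h)⟩
  let Z₀ : Subgroup S :=
    { carrier := {x | a x = 0 ∧ b x = 0}
      one_mem' := ⟨a1, b1⟩
      mul_mem' := fun {x y} hx hy => ⟨by rw [ha, hx.1, hy.1, add_zero], by rw [hb, hx.2, hy.2, add_zero]⟩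
      inv_mem' := fun {x} hx => ⟨by rw [ai, hx.1, neg_zero], by rw [bi, hx.2, neg_zero]⟩ }
  have mem : ∀ x : S, (x : Ω) ∈ Z₀.map S.subtype ↔ a x = 0 ∧ b x = 0 := fun x =>
    Subgroup.mem_map_iff_mem (f := S.subtype) S.subtype_injective
  refine ⟨Z₀.map S.subtype, Subgroup.map_subtype_le _, ?_, ?_, ?_, ?_⟩
  · rintro _ ⟨z, hz, rfl⟩ s hs
    exact congrArg Subtype.val ((comm ⟨s, hs⟩ z).2 (by rw [hz.1, hz.2]; ring))
  · intro x hx s hs
    refine (mem ((⟨x, hx⟩ : S)⁻¹ * (⟨s, hs⟩ * ⟨x, hx⟩ * (⟨s, hs⟩ : S)⁻¹))).2 ⟨?_, ?_⟩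
    · simp only [ha, ai]; ring
    · simp only [hb, bi]; ring
  · intro x hx hZ y hy z hz e1 e2
    have h1 := (comm ⟨x, hx⟩ ⟨y, hy⟩).1 (Subtype.ext e1)
    have h2 := (comm ⟨x, hx⟩ ⟨z, hz⟩).1 (Subtype.ext e2)
    refine congrArg Subtype.val ((comm ⟨y, hy⟩ ⟨z, hz⟩).2 ?_)
    rw [show x = ((⟨x, hx⟩ : S) : Ω) from rfl, mem, not_and_or] at hZ
    rcases hZ with h | h
    · refine mul_left_cancel₀ h ?_
      linear_combination (a ⟨y, hy⟩) * h2 - (a ⟨z, hz⟩) * h1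
    · refine mul_left_cancel₀ h ?_
      linear_combination (b ⟨y, hy⟩) * h2 - (b ⟨z, hz⟩) * h1
  · rintro x hx hZ _ ⟨z, hz, rfl⟩
    rw [show x = ((⟨x, hx⟩ : S) : Ω) from rfl, mem, not_and_or] at hZ
    obtain ⟨s, hs⟩ : ∃ s : S, a s * b ⟨x, hx⟩ - a ⟨x, hx⟩ * b s = c z := by
      rcases hZ with h | h
      · obtain ⟨s, h1, h2⟩ := ex 0 (- c z / a ⟨x, hx⟩)
        exact ⟨s, by rw [h1, h2]; field_simp; ring⟩
      · obtain ⟨s, h1, h2⟩ := ex (c z / b ⟨x, hx⟩) 0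
        exact ⟨s, by rw [h1, h2]; field_simp; ring⟩
    refine ⟨s, s.2, ?_⟩
    rw [mul_inv_eq_iff_eq_mul]
    refine congrArg Subtype.val (ext (s * ⟨x, hx⟩) (⟨x, hx⟩ * z * s) ?_ ?_ ?_)
    · simp only [ha, hz.1]; ring
    · simp only [hb, hz.2]; ring
    · simp only [hc, ha, hz.1, hz.2]; linear_combination hs

theorem exists_heis_of_sylow_SL3 {Ω : Type*} [Group Ω] {S : Subgroup Ω} (p : ℕ) [Fact p.Prime]
    {K : Type*} [Field K] [Fintype K] [CharP K p] (T : Sylow p (Matrix.SpecialLinearGroup (Fin 3) K))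
    (e : ↥S ≃* ↥(T : Subgroup (Matrix.SpecialLinearGroup (Fin 3) K))) : ∃ Z, Heis S Z := by
  let e' : S ≃* H10.unitriSL (Fin 3) K := e.trans (T.equiv (H10.unitriSylowSL (Fin 3) K p))
  have h0 : ∀ g : H10.unitriSL (Fin 3) K, g.1.1 1 0 = 0 ∧ g.1.1 2 0 = 0 ∧ g.1.1 2 1 = 0 ∧
      g.1.1 0 0 = 1 ∧ g.1.1 1 1 = 1 ∧ g.1.1 2 2 = 1 := fun g => by
    obtain ⟨h1, h2⟩ := H10.mem_unitriSL.1 g.2
    exact ⟨h1 _ _ (by decide), h1 _ _ (by decide), h1 _ _ (by decide), h2 _, h2 _, h2 _⟩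
  refine Heis.of_coords (fun x => (e' x).1.1 0 1) (fun x => (e' x).1.1 1 2)
    (fun x => (e' x).1.1 0 2) (fun x y => ?_) (fun x y => ?_) (fun x y => ?_) (fun x y h1 h2 h3 => ?_)
    (fun s t => ?_)
  · obtain ⟨-, -, -, a4, -, -⟩ := h0 (e' x)
    obtain ⟨-, -, b3, -, b5, -⟩ := h0 (e' y)
    simp [map_mul, Matrix.mul_apply, Fin.sum_univ_three, a4, b3, b5, add_comm]
  · obtain ⟨a1, -, -, -, a5, -⟩ := h0 (e' x)
    obtain ⟨-, -, -, -, -, b6⟩ := h0 (e' y)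
    simp [map_mul, Matrix.mul_apply, Fin.sum_univ_three, a1, a5, b6, add_comm]
  · obtain ⟨-, -, -, a4, -, -⟩ := h0 (e' x)
    obtain ⟨-, -, -, -, -, b6⟩ := h0 (e' y)
    simp only [map_mul, Subgroup.coe_mul, Matrix.SpecialLinearGroup.coe_mul, Matrix.mul_apply,
      Fin.sum_univ_three, a4, b6]
    ring
  · refine e'.injective (Subtype.ext (Subtype.ext (Matrix.ext fun i j => ?_)))
    obtain ⟨a1, a2, a3, a4, a5, a6⟩ := h0 (e' x)
    obtain ⟨b1, b2, b3, b4, b5, b6⟩ := h0 (e' y)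
    fin_cases i <;> fin_cases j <;> simp_all
  · let g : Matrix.SpecialLinearGroup (Fin 3) K :=
      ⟨!![1, s, 0; 0, 1, t; 0, 0, 1], by simp [Matrix.det_fin_three]⟩
    have hg : g ∈ H10.unitriSL (Fin 3) K := H10.mem_unitriSL.2 ⟨fun i j h => by
      fin_cases i <;> fin_cases j <;> simp_all [g], fun i => by fin_cases i <;> simp [g]⟩
    exact ⟨e'.symm ⟨g, hg⟩, by simp [g], by simp [g]⟩

end H90
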