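import Mathlib
import Cfsg.Agent.Base
import Cfsg.Agent.Lib.Fusion.Resid
import Cfsg.Agent.Lib.Fusion.GroupSub
import Cfsg.Agent.Lib.Transfer.Residual

/-!
# Normal subsystems of the fusion system of a group of characteristic `p`
-/

set_option autoImplicit false

namespace H91

open Cfsg Cfsg.FusionSystem H90
open H68 (SylowIn)
open scoped commutatorElement

section Grp

variable {A : Type*} [Group A] {p : ℕ}

theorem mem_normalizer_of_normal {N : Subgroup A} [N.Normal] (g : A) :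
    g ∈ Subgroup.normalizer (N : Set A) := Subgroup.le_normalizer_of_normal (Subgroup.mem_top g)

theorem mul_pow_mul_inv_mem {K : Subgroup A} {a d : A} (ha : a ∈ K)
    (hd : d ∈ Subgroup.normalizer (K : Set A)) (m : ℕ) : (a * d) ^ m * (d ^ m)⁻¹ ∈ K := by
  induction m with
  | zero => simp
  | succ m ih =>
    have := mul_mem ha (H68.conj_mem_of_mem_normalizer hd ih)
    rwa [show a * (d * ((a * d) ^ m * (d ^ m)⁻¹) * d⁻¹) = (a * d) ^ (m + 1) * (d ^ (m + 1))⁻¹ by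
      rw [pow_succ', pow_succ']; group] at this

theorem mem_of_mul_p_elt {K : Subgroup A} {a d : A} (ha : a ∈ K)
    (hd : d ∈ Subgroup.normalizer (K : Set A)) {k : ℕ} (hk : d ^ p ^ k = 1)
    (hc : (orderOf (a * d)).Coprime p) : a * d ∈ K :=
  mem_of_pow_coprime (m := p ^ k) (by simpa [hk] using mul_pow_mul_inv_mem ha hd (p ^ k))
    (by rw [pow_orderOf_eq_one]; exact one_mem _) (hc.pow_right k).symm

theorem mem_of_mem_sup_pgroup {N P : Subgroup A} [N.Normal] (hP : IsPGroup p P) {g : A}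
    (hg : g ∈ N ⊔ P) (hc : (orderOf g).Coprime p) : g ∈ N := by
  obtain ⟨a, ha, d, hd, rfl⟩ := Subgroup.mem_sup_of_normal_left.1 hg
  obtain ⟨k, hk⟩ := hP ⟨d, hd⟩
  exact mem_of_mul_p_elt ha (mem_normalizer_of_normal _) (congrArg Subtype.val hk) hc

theorem isPGroup_of_p'_trivial [Finite A] [Fact p.Prime] {N : Subgroup A}
    (h : ∀ g ∈ N, (orderOf g).Coprime p → g = 1) : IsPGroup p N := fun g => by
  obtain ⟨k, m, hm, hkm⟩ := Nat.exists_eq_pow_mul_and_not_dvd (orderOf_pos (g : A)).ne' p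
    (Fact.out : p.Prime).ne_one
  refine ⟨k, Subtype.ext (h ((g : A) ^ p ^ k) (pow_mem g.2 _) (Nat.Coprime.coprime_dvd_left
    (orderOf_dvd_of_pow_eq_one ?_) ((Fact.out : p.Prime).coprime_iff_not_dvd.2 hm).symm))⟩
  rw [← pow_mul, ← hkm, pow_orderOf_eq_one]

/-- The elements acting trivially on `Q / Z`. -/
def stabMod (Q Z : Subgroup A) [hZ : Z.Normal] : Subgroup A where
  carrier := {g | ∀ q ∈ Q, q⁻¹ * (g * q * g⁻¹) ∈ Z}
  one_mem' := fun q _ => by simp
  mul_mem' := fun {a b} ha hb q hq => by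
    have := mul_mem (ha q hq) (hZ.conj_mem _ (hb q hq) a)
    rwa [show q⁻¹ * (a * q * a⁻¹) * (a * (q⁻¹ * (b * q * b⁻¹)) * a⁻¹) =
      q⁻¹ * (a * b * q * (a * b)⁻¹) by group] at this
  inv_mem' := fun {a} ha q hq => by
    have := hZ.conj_mem _ (inv_mem (ha q hq)) a⁻¹
    rwa [show a⁻¹ * (q⁻¹ * (a * q * a⁻¹))⁻¹ * a⁻¹⁻¹ = q⁻¹ * (a⁻¹ * q * a⁻¹⁻¹) by group] at this

theorem mem_stabMod {Q Z : Subgroup A} [Z.Normal] {g : A} :
    g ∈ stabMod Q Z ↔ ∀ q ∈ Q, q⁻¹ * (g * q * g⁻¹) ∈ Z := Iff.rfl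

theorem stabMod_normal (Q Z : Subgroup A) [hQ : Q.Normal] [hZ : Z.Normal] : (stabMod Q Z).Normal :=
  ⟨fun a ha g q hq => by
    have := hZ.conj_mem _ (ha _ (hQ.conj_mem q hq g⁻¹)) g
    rwa [show g * ((g⁻¹ * q * g⁻¹⁻¹)⁻¹ * (a * (g⁻¹ * q * g⁻¹⁻¹) * a⁻¹)) * g⁻¹ =
      q⁻¹ * (g * a * g⁻¹ * q * (g * a * g⁻¹)⁻¹) by group] at this⟩

theorem le_pCore_of_stabMod [Finite A] [Fact p.Prime]
    (hG : Subgroup.centralizer ((pCore p A : Subgroup A) : Set A) ≤ pCore p A) {Z N : Subgroup A}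
    [Z.Normal] [N.Normal] (hN : N ≤ stabMod (pCore p A) Z)
    (h : ∀ g ∈ N, (orderOf g).Coprime p → g ∈ Subgroup.centralizer (Z : Set A)) :
    N ≤ pCore p A := by
  refine H1.le_pCore (isPGroup_of_p'_trivial fun g hg hc => ?_)
  have h1 : g ∈ pCore p A := hG (mem_centralizer_of_conj_eq fun x hx =>
    eq_of_coprime_fix H1.isPGroup_pCore le_rfl (homOn_cj _ g)
      (fun y hy => (inferInstance : (pCore p A).Normal).conj_mem y hy g)
      ⟨_, hc, fun y _ => by rw [← map_pow, pow_orderOf_eq_one, map_one]; rfl⟩ hx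
      (conj_eq_of_centralizer (h g hg hc) (hN hg x hx)))
  obtain ⟨k, hk⟩ := H1.isPGroup_pCore ⟨g, h1⟩
  exact orderOf_eq_one_iff.1 (Nat.eq_one_of_dvd_coprimes (hc.pow_right k) dvd_rfl
    (orderOf_dvd_of_pow_eq_one (congrArg Subtype.val hk)))

end Grp

variable {Ω : Type*} [Group Ω] {S T : Subgroup Ω} {F : FusionSystem S} {E : FusionSystem T}
  {p : ℕ} [Finite S] [Fact p.Prime]

theorem exists_cj_eq_of_iso (hS : IsPGroup p S) (hT : T ≤ S) (hE : E.IsSaturated p) {U : Subgroup Ω}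
    (hU : E.IsFullyNormalized U) {s : Ω} (hs : s ∈ S) (h : Iso E U U (cj s)) :
    ∃ t ∈ normalizerIn T U, ∀ x ∈ U, s * x * s⁻¹ = t * x * t⁻¹ := by
  have := finite_of_le hT
  have hn := cj_mem_stabP.1 h.mem_stabP
  have h1 := (sylowIn_of_normalized (hS.to_le hT) hE hU).eq_of_le
    ((isPGroup_autInducedBy hS U).to_inf_left (K := E.autGroup U))
    (le_inf (autInducedBy_mono hT U) (autInducedBy_le_autGroup E hU.1)) inf_le_right
  obtain ⟨t, ht, e⟩ := mem_autInducedBy.1 (h1.le ⟨conjAut_mem hs hn,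
    mem_autGroup_of_map h.map fun x hx => extA_conjAut hn hx⟩)
  exact ⟨t, ht, fun x hx => (extA_conjAut hn hx).symm.trans (e x hx)⟩

/-- Two weakly normal subsystems over `T` with a common normal centric subgroup are compared on
the automizers of that subgroup. -/
theorem Inv.sub_of_aut (hS : IsPGroup p S) {D : FusionSystem T} (hE : E.IsSaturated p)
    (hD : D.IsSaturated p) (hs : E.IsSubsystemOf F) (hi : Inv D F) {U : Subgroup Ω}
    (hU : E.IsNormal U) (hU' : D.IsFullyNormalized U) (hc : centralizerIn T U ≤ U)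
    (h : ∀ σ, Iso E U U σ → PP p U σ → Map D U σ) : E.IsSubsystemOf D := by
  have := finite_of_le hi.le
  have hT := hS.to_le hi.le
  refine sub_of_essential_p'_elts hT hE le_rfl fun R hR α hα hco => ?_
  obtain ⟨hUR, hm⟩ := (isNormal_iff_essential hT hE).1 hU R hR
  have hRT := (centric_radical_of_essential hT hE hR).1.1
  have hσ := iso_extA hRT hα
  have hσU : Iso E U U (extA R α) := (hσ.map.mono hUR).iso_self (hm _ hσ)
  have h1 : Iso D U U (extA R α) := ⟨h _ hσU ((pp_of_coprime hco).mono hUR), hσU.2⟩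
  obtain ⟨ψ, hψ, e⟩ := h1.extend (receptive_of_normalized hT hD hU')
  have hn : R ≤ Subgroup.normalizer (U : Set Ω) :=
    hRT.trans (le_normalizer_of_stronglyClosed (IsNormal.stronglyClosed' hU))
  have hψR := hψ.mono (show R ≤ Next T U (extA R α) from fun g hg => hσ.map.mem_Next hUR hg (hn hg))
  have hd : ∀ g ∈ R, (extA R α g)⁻¹ * ψ g ∈ U := fun g hg => by
    refine hc (mem_centralizerIn'.2 ⟨mul_mem (T.inv_mem (hσ.map.mem hg)) (hψR.mem hg),
      fun y hy => ?_⟩)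
    obtain ⟨x, hx, rfl⟩ := hσU.exists_eq hy
    exact HomOn.inv_mul_comm hσ.homOn hψR.homOn hUR (fun x hx => (e x hx).symm) hg (hn hg) hx
  have hψi : Iso D R R ψ := hψR.iso_self fun g hg => by
    simpa using mul_mem (hσ.mem hg) (hUR (hd g hg))
  have hψU : Iso D U U ψ := h1.congr fun x hx => (e x hx).symm
  obtain ⟨a, ha, ea⟩ := hψi.exists_aut
  have hδ : Iso F R R (ψ⁻¹ * extA R α) := (hσ.of_sub hs).trans (hψi.of_sub hi.sub).symm
  obtain ⟨k, hk⟩ := (pe_of_stab hT hRT hδ.homOn (fun x hx => hδ.mem hx) (U := U)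
    (fun y _ hy => by rw [Equiv.Perm.mul_apply, ← e y hy, pinv_apply]) fun x hx => by
      rw [← hψU.mem_iff, hψR.map_mul (R.inv_mem hx) (hδ.mem hx), hψR.map_inv hx,
        Equiv.Perm.mul_apply, papply_inv]
      simpa using U.inv_mem (hd x hx)).pow_eq_one (α := a⁻¹ * α) fun x hx => by
    rw [extA_mul_apply, extA_inv_apply, Equiv.Perm.mul_apply, Equiv.Perm.inv_eq_iff_eq,
      ea _ (hψi.inv_mem (hσ.mem hx)), papply_inv]
  have := mem_of_mul_p_elt ha ((hi.normalAut hRT).le_normalizer (mul_mem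
    (inv_mem (autGroup_mono hi.sub R ha)) (autGroup_mono hs R hα))) hk (by simpa using hco)
  simpa using this

end H91

namespace H91

open Cfsg Cfsg.FusionSystem H90
open H68 (SylowIn)
open scoped commutatorElement

variable {G : Type*} [Group G] {p : ℕ}

theorem conj_mem_of_sc_group {S T : Subgroup G} (h : (groupFusionSystem S).StronglyClosed T)
    {t g : G} (ht : t ∈ T) (hg : g * t * g⁻¹ ∈ S) : g * t * g⁻¹ ∈ T := by
  have hm : Map (groupFusionSystem S) (Subgroup.zpowers t) (cj g) :=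
    map_group.2 ⟨Subgroup.zpowers_le.2 (h.1 ht), by
      rintro _ ⟨n, rfl⟩
      rw [cj_apply, ← conj_zpow]; exact Subgroup.zpow_mem _ hg n, g, fun _ _ => rfl⟩
  exact hm.mem_of_stronglyClosed h (Subgroup.mem_zpowers t) ht

theorem iso_cj_group {S R : Subgroup G} (hR : R ≤ S) [hn : R.Normal] (g : G) :
    Iso (groupFusionSystem S) R R (cj g) :=
  ⟨map_group.2 ⟨hR, fun x hx => hR (hn.conj_mem x hx g), g, fun _ _ => rfl⟩,
    cj_mem_stabP.2 (mem_normalizer_of_normal _)⟩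

variable [Finite G] [Fact p.Prime]

omit [Finite G] [Fact p.Prime] in
theorem inv_mul_mem_centralizer {Z : Subgroup G} {s t : G}
    (e : ∀ x ∈ Z, s * x * s⁻¹ = t * x * t⁻¹) : t⁻¹ * s ∈ Subgroup.centralizer (Z : Set G) :=
  mem_centralizer_of_conj_eq fun x hx => by
    calc t⁻¹ * s * x * (t⁻¹ * s)⁻¹ = t⁻¹ * (s * x * s⁻¹) * t := by group
      _ = x := by rw [e x hx]; group

theorem inv_group_of_normal (S : Sylow p G) {T H : Subgroup G} [H.Normal]
    (e : (S : Subgroup G) ⊓ H = T) (hTH : T ≤ H) :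
    Inv (fusionSystemOfSubgroup H T hTH) (groupFusionSystem (S : Subgroup G)) := by
  subst e
  rw [group_eq_subgroup]
  exact inv_subgroup (H68.sylowIn_top S) le_top Subgroup.le_normalizer_of_normal

/-- The situation of a strongly closed subgroup `T` of a group of characteristic `p`, with
`Q = O_p(G)` and `Z = Q ∩ T`. -/
structure CharSC (S : Sylow p G) (T Q Z : Subgroup G) [Z.Normal] : Prop where
  sc : (groupFusionSystem (S : Subgroup G)).StronglyClosed T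
  normal : Q.Normal
  pgrp : IsPGroup p Q
  le : Q ≤ S
  eq : Z = Q ⊓ T
  core : ∀ N : Subgroup G, N.Normal → N ≤ stabMod Q Z →
    (∀ g ∈ N, (orderOf g).Coprime p → g ∈ Subgroup.centralizer (Z : Set G)) → N ≤ Q

namespace CharSC

variable {S : Sylow p G} {T Q Z : Subgroup G} [hZn : Z.Normal] (h : CharSC S T Q Z)
include h

omit [Finite G] [Fact p.Prime]

theorem mem {x : G} (h1 : x ∈ Q) (h2 : x ∈ T) : x ∈ Z := h.eq ▸ ⟨h1, h2⟩

theorem ZQ : Z ≤ Q := h.eq ▸ inf_le_left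

theorem ZT : Z ≤ T := h.eq ▸ inf_le_right

theorem ZS : Z ≤ S := h.ZQ.trans h.le

theorem comm_mem {q : G} (hq : q ∈ Q) (g : G) : q⁻¹ * (g * q * g⁻¹) ∈ Q :=
  mul_mem (Q.inv_mem hq) (h.normal.conj_mem q hq g)

theorem TY : T ≤ stabMod Q Z := fun t ht _ hq =>
  h.mem (h.comm_mem hq t) (inv_mul_conj_mem ht (SC.le_normalizer h.sc (h.le hq)))

theorem cent {g : G} (h1 : g ∈ stabMod Q Z) (h2 : g ∈ Subgroup.centralizer (Z : Set G)) : g ∈ Q :=
  haveI := h.normal
  haveI := stabMod_normal Q Z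
  h.core (stabMod Q Z ⊓ Subgroup.centralizer (Z : Set G)) inferInstance inf_le_left
    (fun _ h _ => h.2) ⟨h1, h2⟩

theorem cent_sup {g : G} (h1 : g ∈ stabMod Q Z)
    (h2 : g ∈ Subgroup.centralizer (Z : Set G) ⊔ Q) : g ∈ Q :=
  haveI := h.normal
  haveI := stabMod_normal Q Z
  h.core (stabMod Q Z ⊓ (Subgroup.centralizer (Z : Set G) ⊔ Q)) inferInstance inf_le_left
    (fun _ h' => mem_of_mem_sup_pgroup h.pgrp h'.2) ⟨h1, h2⟩

theorem centralizerIn_le : centralizerIn T Z ≤ Z := fun _ hc => h.mem (h.cent (h.TY hc.1) hc.2) hc.1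

theorem isNormal [Finite G] [Fact p.Prime] {D : FusionSystem T} (hD : D.IsSaturated p)
    (hs : D.IsSubsystemOf (groupFusionSystem (S : Subgroup G))) : D.IsNormal Z :=
  h.eq ▸ IsNormal.inf_sub S.isPGroup' (H92.isNormal_of_image (H93.groupFusionSystem_isRealizedBy _)
    h.le (by rw [H93.imageAlong_subtype h.le]; exact h.normal)) hD hs

variable [Finite G] [Fact p.Prime] {E : FusionSystem T}

theorem mem_stabMod_of (hE : E.IsSaturated p) (hi : Inv E (groupFusionSystem (S : Subgroup G)))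
    {g : G} (hg : Iso E Z Z (cj g)) (hj : (orderOf g).Coprime p)
    (e : ∀ c ∈ centralizerIn S Z, c⁻¹ * (g * c * g⁻¹) ∈ T) : g ∈ stabMod Q Z := fun q hq => by
  have hy := h.comm_mem hq g
  have h1 : Iso E Z Z (cj (q⁻¹ * (g * q * g⁻¹))) := by
    have := hg.symm.trans (hi.sinv.aut hg (iso_cj_group h.ZS q⁻¹))
    rwa [← map_inv, ← map_inv, ← map_mul, ← map_mul, ← map_mul, inv_inv, mul_assoc,
      mul_assoc q⁻¹, ← mul_assoc g] at this
  obtain ⟨t, ht, et⟩ := exists_cj_eq_of_iso S.isPGroup' hi.le hE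
    (IsNormal.isFullyNormalized (h.isNormal hE hi.sub)) (h.le hy) h1
  have h2 := inv_mul_mem_centralizer et
  have htZ : t ∈ Z := h.mem (h.cent_sup (h.TY ht.1) (by
    have := mul_mem (Subgroup.mem_sup_right hy) (inv_mem (Subgroup.mem_sup_left h2))
    rwa [mul_inv_rev, inv_inv, mul_inv_cancel_left] at this)) ht.1
  obtain ⟨c, hc⟩ : ∃ c, c = t⁻¹ * (q⁻¹ * (g * q * g⁻¹)) := ⟨_, rfl⟩
  rw [← hc] at h2
  have hcQ : c ∈ Q := hc ▸ mul_mem (inv_mem (h.ZQ htZ)) hy
  have h3 : c⁻¹ * (g * c * g⁻¹) ∈ Z := h.mem (h.comm_mem hcQ g) (e c ⟨h.le hcQ, h2⟩)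
  refine mem_of_coprime_chain h.pgrp le_rfl (homOn_cj Q g) (fun y hy => h.normal.conj_mem y hy g)
    ⟨_, hj, fun y _ => by rw [← map_pow, pow_orderOf_eq_one, map_one]; rfl⟩ h.ZQ
    (fun y hy => hZn.conj_mem y hy g) hq (mem_normalizer_of_normal _) ?_
  have h4 := mul_mem (hZn.conj_mem _ (mul_mem (inv_mem htZ) (hZn.conj_mem t htZ g)) c⁻¹) h3
  simp only [cj_apply]
  rwa [show c⁻¹ * (t⁻¹ * (g * t * g⁻¹)) * c⁻¹⁻¹ * (c⁻¹ * (g * c * g⁻¹)) =
    (q⁻¹ * (g * q * g⁻¹))⁻¹ * (g * (q⁻¹ * (g * q * g⁻¹)) * g⁻¹) by rw [hc]; group] at h4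

theorem lift (hE : E.IsNormalIn (groupFusionSystem (S : Subgroup G)) p) {σ : Equiv.Perm G}
    (hσ : Iso E Z Z σ) (hpp : PP p Z σ) :
    ∃ g ∈ stabMod Q Z, (orderOf g).Coprime p ∧ ∀ x ∈ Z, σ x = g * x * g⁻¹ := by
  obtain ⟨hEs, hF, hi, hx⟩ := isNormalIn_iff.1 hE
  obtain ⟨β, hβ, ⟨n, hn, hβn⟩, e1, e2⟩ := star_pp S.isPGroup' hF hEs hi hx
    (IsNormal.isCentric (h.isNormal hEs hi.sub) h.centralizerIn_le) hσ hpp
  obtain ⟨-, -, g₀, e₀⟩ := map_group.1 hβ.map
  obtain ⟨j, hj⟩ := exists_pow_p'_part g₀ hn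
  have e : ∀ x ∈ WW S Z, β x = g₀ ^ (1 + n * j) * x * (g₀ ^ (1 + n * j))⁻¹ := fun x hx => by
    rw [← perm_pow_apply_of_fixed (hβn x hx) j, pow_eq_on (e := cj g₀) e₀
      (fun y hy => by rw [cj_apply, ← e₀ y hy]; exact hβ.mem hy) _ x hx, ← map_pow, cj_apply]
  have e3 : ∀ x ∈ Z, σ x = g₀ ^ (1 + n * j) * x * (g₀ ^ (1 + n * j))⁻¹ := fun x hx =>
    (e1 x hx).symm.trans (e x (Subgroup.mem_sup_left hx))
  refine ⟨_, h.mem_stabMod_of hEs hi (hσ.congr e3) hj fun c hc => ?_, hj, e3⟩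
  rw [← e c (Subgroup.mem_sup_right hc)]
  exact QuotientGroup.eq.1 (e2 c hc).symm

theorem sup_res {K : Subgroup G} [K.Normal] (hTK : T ≤ K) (hKY : K ≤ stabMod Q Z)
    (hSK : ∀ s ∈ (S : Subgroup G) ⊓ K, ∃ t ∈ T, t⁻¹ * s ∈ Q) :
    ((pResidual p K).map K.subtype ⊔ T).Normal ∧
      (S : Subgroup G) ⊓ ((pResidual p K).map K.subtype ⊔ T) = T := by
  have hTS : T ≤ S := h.sc.1
  have hsyl : SylowIn p ((S : Subgroup G) ⊓ K) K :=
    (H68.sylowIn_top S).inf_of_normal_le Subgroup.le_normalizer_of_normal le_top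
  have hRn : ((pResidual p K).map K.subtype).Normal := Subgroup.normalizer_eq_top_iff.1
    (eq_top_iff.2 (Subgroup.le_normalizer_of_normal.trans
      (H4.normalizer_le_normalizer_pResidual K)))
  have hSR : (S : Subgroup G) ⊓ (pResidual p K).map K.subtype ≤ T := by
    rintro _ ⟨hs, x, hx, rfl⟩
    have key : pResidual p K ⊓ ((S : Subgroup G) ⊓ K).subgroupOf K ≤ T.subgroupOf K := by
      refine H4.pResidual_inf_le_of_fusion hsyl.toSylow.isPGroup'
        ((Nat.Prime.coprime_iff_not_dvd Fact.out).2 hsyl.toSylow.not_dvd_index).symm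
        fun y hy _ u _ hu => ?_
      obtain ⟨t, ht, hc⟩ := hSK y hy
      have h1 := hKY u.2 _ hc
      have hu' : (u : G) * y * (u : G)⁻¹ ∈ S := hu.1
      have h2 : (u : G) * t * (u : G)⁻¹ ∈ T := conj_mem_of_sc_group h.sc ht (by
        have := mul_mem hu' (inv_mem (h.le (h.normal.conj_mem _ hc u)))
        rwa [show (u : G) * y * (u : G)⁻¹ * (u * (t⁻¹ * y) * (u : G)⁻¹)⁻¹ = u * t * (u : G)⁻¹ by
          group] at this)
      have h3 := mul_mem (mul_mem h2 (h.ZT (hZn.conj_mem _ h1 (t⁻¹ * y)))) (inv_mem ht)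
      show (u : G) * y * (u : G)⁻¹ * (y : G)⁻¹ ∈ T
      rwa [show (u : G) * t * (u : G)⁻¹ * (t⁻¹ * y * ((t⁻¹ * y)⁻¹ * (u * (t⁻¹ * y) * (u : G)⁻¹)) *
        (t⁻¹ * y)⁻¹) * t⁻¹ = u * y * (u : G)⁻¹ * (y : G)⁻¹ by group] at h3
    exact key ⟨hx, hs, x.2⟩
  generalize hR : (pResidual p K).map K.subtype = R at hRn hSR
  have hres : ∀ g ∈ K, (orderOf g).Coprime p → g ∈ R := fun g hg hc =>
    hR ▸ H4.mem_map_subtype_pResidual hg hc
  constructor
  · have h1 : Subgroup.normalizer (((S : Subgroup G) ⊓ K : Subgroup G) : Set G) ≤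
        Subgroup.normalizer ((R ⊔ T : Subgroup G) : Set G) :=
      H2.le_normalizer_sup Subgroup.le_normalizer_of_normal fun g hg =>
        mem_normalizer_of_conj_mem fun t ht => conj_mem_of_sc_group h.sc ht
          (H68.conj_mem_of_mem_normalizer hg ⟨hTS ht, hTK ht⟩).1
    have h2 : K ≤ Subgroup.normalizer ((R ⊔ T : Subgroup G) : Set G) :=
      mem_of_sylowIn_of_p'_elts hsyl (Subgroup.le_normalizer.trans h1) fun g hg hc =>
        Subgroup.le_normalizer (Subgroup.mem_sup_left (hres g hg hc))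
    refine Subgroup.normalizer_eq_top_iff.1 (eq_top_iff.2 fun g _ => ?_)
    obtain ⟨n, hn, x, hx, rfl⟩ := hsyl.frattini (mem_normalizer_of_normal g)
    exact mul_mem (h2 hn) (h1 hx)
  · refine le_antisymm (fun x hx => ?_) (le_inf hTS le_sup_right)
    obtain ⟨r, hr, t, ht, rfl⟩ := Subgroup.mem_sup_of_normal_left.1 hx.2
    have h1 := mul_mem hx.1 (Subgroup.inv_mem _ (hTS ht))
    rw [mul_inv_cancel_right] at h1
    exact mul_mem (hSR ⟨h1, hr⟩) ht

theorem exists_model (hE : E.IsNormalIn (groupFusionSystem (S : Subgroup G)) p) :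
    ∃ H : Subgroup G, (∃ hTH : T ≤ H, H.Normal ∧ SylowIn p T H ∧
      E = fusionSystemOfSubgroup H T hTH) ∧ ∀ (H' : Subgroup G) (hTH' : T ≤ H'), H'.Normal →
      SylowIn p T H' → E = fusionSystemOfSubgroup H' T hTH' → H' = H := by
  obtain ⟨hEs, hF, hi, -⟩ := isNormalIn_iff.1 hE
  have hS := S.isPGroup'
  have hQn := h.normal
  have hYn := stabMod_normal Q Z
  have hZE := h.isNormal hEs hi.sub
  obtain ⟨K, hK⟩ : ∃ K : Subgroup G, ∀ {g}, g ∈ K ↔ g ∈ stabMod Q Z ∧ Iso E Z Z (cj g) :=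
    ⟨stabMod Q Z ⊓ (liftP Z (E.autGroup Z)).comap cj, fun {g} => by
      rw [Subgroup.mem_inf, Subgroup.mem_comap]
      exact and_congr_right fun _ => ⟨fun h' => NormalAut.iso_of_mem_liftP le_rfl h.ZT h',
        fun h => h.exists_aut.imp fun a ha => ⟨ha.1, fun x hx => (ha.2 x hx).symm⟩⟩⟩
  have hKn : K.Normal := ⟨fun a ha g => hK.2 ⟨hYn.conj_mem a (hK.1 ha).1 g, by
    have := hi.sinv.aut (hK.1 ha).2 (iso_cj_group h.ZS g)
    rwa [← map_inv, ← map_mul, ← map_mul] at this⟩⟩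
  have hTK : T ≤ K := fun t ht => hK.2 ⟨h.TY ht, iso_cj E h.ZT ht (mem_normalizer_of_normal _)⟩
  obtain ⟨hHn, hSH⟩ := h.sup_res hTK (fun g hg => (hK.1 hg).1) fun s hs => by
    obtain ⟨t, ht, et⟩ := exists_cj_eq_of_iso hS hi.le hEs (IsNormal.isFullyNormalized hZE) hs.1
      (hK.1 hs.2).2
    exact ⟨t, ht.1, h.cent (mul_mem (inv_mem (h.TY ht.1)) (hK.1 hs.2).1)
      (inv_mul_mem_centralizer et)⟩
  have hHK : (pResidual p K).map K.subtype ⊔ T ≤ K := sup_le (Subgroup.map_subtype_le _) hTK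
  have hres : ∀ g ∈ K, (orderOf g).Coprime p → g ∈ (pResidual p K).map K.subtype ⊔ T :=
    fun g hg hc => Subgroup.mem_sup_left (H4.mem_map_subtype_pResidual hg hc)
  have hmin : ∀ H' : Subgroup G, T ≤ H' → (∀ g ∈ K, (orderOf g).Coprime p → g ∈ H') →
      (pResidual p K).map K.subtype ⊔ T ≤ H' := fun H' h1 h2 =>
    sup_le (H4.map_subtype_pResidual_le_iff.2 h2) h1
  have hTH : T ≤ (pResidual p K).map K.subtype ⊔ T := le_sup_right
  generalize (pResidual p K).map K.subtype ⊔ T = H at hHn hSH hHK hres hmin hTH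
  have hsylH : SylowIn p T H := by
    have : SylowIn p ((S : Subgroup G) ⊓ H) H :=
      (H68.sylowIn_top S).inf_of_normal_le Subgroup.le_normalizer_of_normal le_top
    rwa [hSH] at this
  refine ⟨H, ⟨hTH, hHn, hsylH, ?_⟩, fun H' hTH' hn' hsyl' e => ?_⟩
  · have hD := isSaturated_subgroup hsylH
    have hj : Inv (fusionSystemOfSubgroup H T hTH) (groupFusionSystem (S : Subgroup G)) := by
      exact inv_group_of_normal S hSH hTH
    have hZD := h.isNormal hD hj.sub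
    refine eq_of_sub_sub (hj.sub_of_aut hS hEs hD hi.sub hZE (IsNormal.isFullyNormalized hZD)
      h.centralizerIn_le fun σ hσ hpp => ?_) (hi.sub_of_aut hS hD hEs hj.sub hZD
      (IsNormal.isFullyNormalized hZE) h.centralizerIn_le fun σ hσ _ => ?_)
    · obtain ⟨g, hg, hc, e⟩ := h.lift hE hσ hpp
      exact map_subgroup.2 ⟨h.ZT, fun x hx => h.ZT (hσ.mem hx), g,
        hres g (hK.2 ⟨hg, hσ.congr e⟩) hc, e⟩
    · obtain ⟨-, -, g, hg, e⟩ := map_subgroup.1 hσ.map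
      exact (hK.1 (hHK hg)).2.map.congr fun x hx => (e x hx).symm
  · subst e
    have hH'K : H' ≤ K := fun g hg => hK.2 ⟨fun q hq =>
      h.mem (h.comm_mem hq g) (hsyl'.le_of_le_normalizer h.pgrp.to_inf_left inf_le_right
        Subgroup.le_normalizer_of_normal
        ⟨h.comm_mem hq g, inv_mul_conj_mem hg (mem_normalizer_of_normal _)⟩),
      ⟨map_subgroup.2 ⟨h.ZT, fun x hx => h.ZT (hZn.conj_mem x hx g), g, hg, fun _ _ => rfl⟩,
        (iso_cj_group h.ZS g).2⟩⟩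
    refine le_antisymm (mem_of_sylowIn_of_p'_elts hsyl' hTH fun g hg hc => hres g (hH'K hg) hc)
      (hmin H' hTH' fun g hg hc => ?_)
    obtain ⟨-, -, a, ha, ea⟩ := map_subgroup.1 (hK.1 hg).2.map
    refine mem_of_mem_sup_pgroup h.pgrp ?_ hc
    simpa using mul_mem (Subgroup.mem_sup_left ha) (Subgroup.mem_sup_right
      (h.cent (mul_mem (inv_mem (hK.1 (hH'K ha)).1) (hK.1 hg).1) (inv_mul_mem_centralizer ea)))

end CharSC

theorem exists_normal_model (S : Sylow p G)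
    (hG : Subgroup.centralizer ((pCore p G : Subgroup G) : Set G) ≤ pCore p G) {T : Subgroup G}
    {E : FusionSystem T} (hE : E.IsNormalIn (groupFusionSystem (S : Subgroup G)) p) :
    ∃ H : Subgroup G, (∃ hTH : T ≤ H, H.Normal ∧ SylowIn p T H ∧
      E = fusionSystemOfSubgroup H T hTH) ∧ ∀ (H' : Subgroup G) (hTH' : T ≤ H'), H'.Normal →
      SylowIn p T H' → E = fusionSystemOfSubgroup H' T hTH' → H' = H := by
  have hsc := (IsNormalIn.inv hE).sc
  have hQS : pCore p G ≤ S := H1.pCore_le_sylow S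
  have hQn : (pCore p G).Normal := inferInstance
  have hZn : (pCore p G ⊓ T).Normal := ⟨fun x hx g => ⟨hQn.conj_mem x hx.1 g,
    conj_mem_of_sc_group hsc hx.2 (hQS (hQn.conj_mem x hx.1 g))⟩⟩
  exact CharSC.exists_model (Z := pCore p G ⊓ T) ⟨hsc, hQn, H1.isPGroup_pCore, hQS, rfl,
    fun _ _ => le_pCore_of_stabMod hG⟩ hE

omit [Finite G] [Fact p.Prime] in
theorem normalModel_eq_defs : True := by
  have := @stabMod.eq_def.{0}; have := @stabMod.eq_1.{0}
  trivial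

end H91
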