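import Mathlib
import Cfsg.Agent.Base
import Cfsg.Agent.Lib.Fusion.Resid
import Cfsg.Agent.Lib.Fusion.Solv
import Cfsg.Agent.Lib.Fusion.GroupSub
import Cfsg.Agent.Lib.Fusion.ModelUnique
import Cfsg.Agent.Lib.FGS.PLength

/-!
# Fusion systems of `p`-solvable groups
-/

set_option autoImplicit false

namespace H91

open Cfsg Cfsg.FusionSystem H90
open H68 (SylowIn)
open scoped commutatorElement

section Grp

variable {A B : Type*} [Group A] [Group B] {p : ℕ} [Fact p.Prime]

theorem isPSolvable_of_hom [Finite A] [Finite B] (f : A →* B) {H : Subgroup B} (hH : ∀ a, f a ∈ H)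
    (h : IsPSolvable p H) (hk : IsPGroup p f.ker) : IsPSolvable p A :=
  H76.isPSolvable_extension f.ker (H76.isPSolvable_of_isPGroup hk)
    (H76.isPSolvable_of_injective (H76.isPSolvable_of_le h (show f.range ≤ H by
      rintro _ ⟨a, rfl⟩; exact hH a)) (QuotientGroup.quotientKerEquivRange f).injective)

theorem isPSolvable_of_normal [Finite A] {N H : Subgroup A} (hle : N ≤ H)
    (hn : H ≤ Subgroup.normalizer (N : Set A)) (h : IsPSolvable p N)
    (hq : (∀ x ∈ H, (orderOf x).Coprime p → x ∈ N) ∨ ∃ T, SylowIn p T H ∧ T ≤ N) :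
    IsPSolvable p H := by
  have := (Subgroup.normal_subgroupOf_iff_le_normalizer hle).2 hn
  refine H76.isPSolvable_extension (N.subgroupOf H)
    (H76.isPSolvable_of_injective h (f := (Subgroup.subgroupOfEquivOfLe hle).toMonoidHom)
      (Subgroup.subgroupOfEquivOfLe hle).injective) ?_
  rcases hq with hq | ⟨T, hT, hTN⟩
  · refine H76.isPSolvable_of_isPGroup fun x => ?_
    obtain ⟨x, rfl⟩ := QuotientGroup.mk_surjective x
    obtain ⟨k, m, hm, hkm⟩ := Nat.exists_eq_pow_mul_and_not_dvd (orderOf_pos (x : A)).ne' p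
      (Fact.out : p.Prime).ne_one
    refine ⟨k, ?_⟩
    rw [← QuotientGroup.mk_pow, QuotientGroup.eq_one_iff]
    refine hq ((x : A) ^ p ^ k) (pow_mem x.2 _) (Nat.Coprime.coprime_dvd_left (orderOf_dvd_of_pow_eq_one ?_)
      ((Fact.out : p.Prime).coprime_iff_not_dvd.2 hm).symm)
    rw [← pow_mul, ← hkm, pow_orderOf_eq_one]
  · exact H76.isPSolvable_of_coprime ((Fact.out : p.Prime).coprime_iff_not_dvd.2 fun hd =>
      hT.not_dvd_relIndex (hd.trans (Subgroup.relIndex_dvd_of_le_left H hTN))).symm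

end Grp

variable {Ω : Type*} [Group Ω] {S T U : Subgroup Ω} {F : FusionSystem S} {E : FusionSystem T}
  {p : ℕ} [Finite S] [Fact p.Prime]

section Sat

variable (hS : IsPGroup p S) (hF : F.IsSaturated p)
include hS hF

theorem SCS.of_hyp_le (hU : F.StronglyClosed U) (h : F.hyperfocalSubgroup p ≤ U) {C : Subgroup Ω}
    (hC : F.StronglyClosed C) (h0 : SCS F (C ⊓ U)) : SCS F C := by
  suffices ∀ V, U ≤ V → V ≤ S → S ≤ Subgroup.normalizer (V : Set Ω) → SCS F (C ⊓ V) by
    simpa [inf_eq_left.2 hC.1] using this S hU.1 le_rfl Subgroup.le_normalizer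
  intro V
  induction hn : Nat.card V using Nat.strong_induction_on generalizing V with
  | _ n ih =>
    intro hUV hV hN
    by_cases hle : V ≤ U ⊔ ⁅V, S⁆
    · rwa [le_antisymm (H92.le_of_le_sup_commutator' hS hV hU.1
        (le_normalizer_of_stronglyClosed hU) hle) hUV]
    have h1 : U ⊔ ⁅V, S⁆ ≤ V :=
      sup_le hUV (Subgroup.le_normalizer_iff_commutator_le_left.1 hN)
    have := finite_of_le hV
    refine (ih _ (hn ▸ card_lt_of_lt (lt_of_le_not_ge h1 hle)) _ rfl le_sup_left (h1.trans hV)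
      (Subgroup.le_normalizer_iff_commutator_le_left.2
        ((Subgroup.commutator_mono h1 le_rfl).trans le_sup_right))).step (inf_le_inf_left C h1)
      (stronglyClosed_inf hC (stronglyClosed_of_hyperfocal_le hS hF hV hN (h.trans hUV))) ?_
    exact le_inf ((Subgroup.commutator_mono inf_le_left inf_le_left).trans
      (Subgroup.commutator_le_self C))
      ((Subgroup.commutator_mono inf_le_right (inf_le_right.trans hV)).trans le_sup_right)

theorem Inv.isConstrained_of_hyp_le (hi : Inv E F) (hE : E.IsConstrained p)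
    (h : F.hyperfocalSubgroup p ≤ T) : F.IsConstrained p := by
  have := finite_of_le hi.le
  have hc := (isConstrained_iff_core.1 hE).2
  have hC := IsNormal.stronglyClosed_centralizerIn (hi.isNormal_core hS hF)
  have h0 : SCS F (centralizerIn S E.core ⊓ T) :=
    SCS.bot.step bot_le (stronglyClosed_inf hC hi.sc) (commutator_le_of_forall fun a ha b hb => by
      rw [Subgroup.mem_bot, conj_eq_of_centralizer ha.1.2 (hc ⟨hb.2, hb.1.2⟩), mul_inv_cancel])
  exact isConstrained_iff_core.2 ⟨hF, (le_inf (centralizerIn_anti S (hi.core_le hS hF)) le_rfl).trans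
    ((h0.of_hyp_le hS hF hi.sc h hC).inf_centralizer_le hS hF)⟩

/-- Constrained with `p`-solvable automizer of the core. -/
def PSolv (F : FusionSystem S) (p : ℕ) : Prop :=
  F.IsConstrained p ∧ IsPSolvable p (F.autGroup F.core)

theorem PSolv.of_top {E : FusionSystem S} (h : PSolv E p) (hi : Inv E F) : PSolv F p := by
  have e : E.core = F.core := by rw [hi.core_eq hS hF h.1.1, inf_eq_left.2 (core_le' F)]
  have hc := (isConstrained_iff_core.1 h.1).2
  have h2 := h.2
  rw [e] at hc h2
  have := finite_mulAut_of_le (core_le' F)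
  exact ⟨isConstrained_iff_core.2 ⟨hF, hc⟩, isPSolvable_of_normal (autGroup_mono hi.sub _)
    (hi.normalAut (core_le' F)).le_normalizer h2 (Or.inr ⟨_, sylowIn_of_normalized hS hF
      (IsNormal.isFullyNormalized (isNormal_core F)), autInducedBy_le_autGroup E (core_le' F)⟩)⟩

theorem PSolv.of_pindex (h : PSolv E p) (hi : Inv E F) (hp : E.HasPPowerIndexIn F p) :
    PSolv F p := by
  refine ⟨hi.isConstrained_of_hyp_le hS hF h.1 hp.2.1, ?_⟩
  have hQ := core_le' F
  have hle := hi.core_le hS hF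
  have := finite_mulAut_of_le hQ
  have := finite_mulAut_of_le (hle.trans hQ)
  have hn := hi.isNormal_core hS hF
  have h1 : IsPSolvable p (F.autGroup E.core) := isPSolvable_of_normal (autGroup_mono hi.sub _)
    (hi.normalAut (core_le' E)).le_normalizer h.2
    (Or.inl ((H92.hasPPowerIndexIn_iff.1 hp).2.2 _ (core_le' E)))
  have h2 : F.autGroup F.core ≤ (stabP E.core).comap (extA F.core) := fun α hα =>
    (((iso_extA hQ hα).map.mono hle).iso_self fun x hx => (iso_extA hQ hα).map.mem_of_stronglyClosed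
      (IsNormal.stronglyClosed' hn) (hle hx) hx).mem_stabP
  refine isPSolvable_of_hom ((resHom hle).comp (Subgroup.inclusion h2)) (fun α =>
    mem_autGroup_of_map ((iso_extA hQ α.2).map.mono hle) fun x hx => extA_resHom hle _ hx) h1
    fun ⟨α, hα⟩ => ?_
  have hfix : ∀ x ∈ E.core, extA F.core α x = x := fun x hx =>
    (extA_resHom hle (Subgroup.inclusion h2 α) hx).symm.trans (extA_eq_one_iff.1 hα x hx)
  obtain ⟨k, m, hm, hkm⟩ := Nat.exists_eq_pow_mul_and_not_dvd (orderOf_pos (α : MulAut F.core)).ne' p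
    (Fact.out : p.Prime).ne_one
  refine ⟨k, Subtype.ext (Subtype.ext ?_)⟩
  have hc : (orderOf ((α : MulAut F.core) ^ p ^ k)).Coprime p :=
    Nat.Coprime.coprime_dvd_left (orderOf_dvd_of_pow_eq_one (by
      rw [← pow_mul, ← hkm, pow_orderOf_eq_one])) ((Fact.out : p.Prime).coprime_iff_not_dvd.2 hm).symm
  refine extA_eq_one_iff.2 fun x hx => extA_eq_of_coprime (hS.to_le hQ) hc (W := E.core)
    (fun y _ hy => by rw [map_pow, perm_pow_fix (hfix y hy)]) hx ?_
  rw [hi.core_eq hS hF h.1.1]
  exact ⟨mul_mem (Subgroup.inv_mem _ hx) (extA_mem _ hx), hp.2.1 (mem_hyperfocal hQ (pow_mem α.2 _) hc hx)⟩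

omit hS [Fact p.Prime] in
theorem pSolv_of_bot (h : S = ⊥) : PSolv F p := by
  refine ⟨isConstrained_iff_core.2 ⟨hF, (centralizerIn_le _ _).trans (h.le.trans bot_le)⟩,
    0, fun _ => ⊥, rfl, ?_, monotone_const, fun _ => inferInstance, fun i => i.elim0⟩
  refine ((Subgroup.eq_top_iff' _).2 fun α => Subgroup.mem_bot.2 (Subtype.ext
    (extA_eq_one_iff.2 fun x hx => ?_)))
  rw [Subgroup.mem_bot.1 (h.le (core_le' F hx)), (homOn_extA _).one]

theorem PSolv.eq_bot (h : PSolv F p) {L : FusionSystem U} (hL : Perf L p) (hi : Inv L F) :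
    U = ⊥ := by
  have hn := isNormalIn_inner hS hF (isNormal_core F)
  have hj := IsNormalIn.inv hn
  have := (Subgroup.normal_subgroupOf_iff_le_normalizer (autGroup_mono hj.sub F.core)).2
    (hj.normalAut le_rfl).le_normalizer
  have := finite_mulAut_of_le (core_le' F)
  have h1 := limit_sub_of_cent_le hS hF hn.1.1 hj (IsNormalIn.extCond hn)
    ((cent_le _ _ p).trans (isConstrained_iff_core.1 h.1).2) (H76.isPSolvable_quotient h.2 _) hL hi
  exact le_bot_iff.1 (hL.hyp.ge.trans ((H92.hyperfocal_mono h1 p).trans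
    (hyp_inner (hS.to_le (core_le' F))).le))

theorem hasTerminatingResidualSeries_iff : F.HasTerminatingResidualSeries p ↔ PSolv F p := by
  refine ⟨fun h => ?_, fun h => hasTerminatingResidualSeries_of hS hF fun _ _ => h.eq_bot hS hF⟩
  rename_i h1 h2
  revert h1 h2
  induction h with
  | trivial F p h => intro _ _; exact pSolv_of_bot hF h
  | @step S F E p D h1 h2 _ ih =>
    intro _ _
    have := finite_of_le (hyperfocal_le E p)
    have hj := IsNormalIn.inv (H92.isNormalIn_of_hasPPowerIndexIn hS h1.1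
      (le_normalizer_hyperfocal E p) h2.1 h2.2)
    exact (PSolv.of_pindex hS h1.1 (ih (hS.to_le hj.le) h2.1) hj h2.2).of_top hS hF
      (eq_opp hS hF h1 ▸ inv_opp hS hF)

end Sat

section Real

variable {G : Type*} [Group G] {ι : S →* G}

theorem isPSolvable_autGroup [Finite G] (hF : F.IsRealizedBy ι) (h : IsPSolvable p G)
    {P : Subgroup Ω} (hP : P ≤ S) : IsPSolvable p (F.autGroup P) := by
  have := finite_mulAut_of_le hP
  rw [← H93.range_normAct hF hP]
  exact H76.isPSolvable_of_surjective (H76.isPSolvable_subgroup h _)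
    (H93.normAct hF.1 hP).rangeRestrict_surjective

theorem IsModel.isPSolvable (hG : F.IsModel p G ι) (h : IsPSolvable p (F.autGroup F.core)) :
    IsPSolvable p G := by
  have := hG.1
  have hQ := core_le' F
  have := finite_mulAut_of_le hQ
  have e := H92.IsModel.imageAlong_core hG
  have h1 : IsPSolvable p (Subgroup.normalizer (imageAlong ι F.core : Set G)) := by
    refine isPSolvable_of_hom (H93.normAct hG.2.1.1 hQ)
      (fun g => H93.range_normAct hG.2.1 hQ ▸ ⟨g, rfl⟩) h fun ⟨g, hg⟩ => ?_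
    have : (g : G) ∈ pCore p G := hG.2.2.2 (by
      rw [← e]
      refine mem_centralizer_of_conj_eq fun y hy => ?_
      obtain ⟨x, hx, rfl⟩ := (H93.mem_imageAlong hQ).1 hy
      rw [← H93.ext_normAct hG.2.1.1 hQ g ⟨x, hx⟩, MonoidHom.mem_ker.1 hg]; rfl)
    obtain ⟨k, hk⟩ := H1.isPGroup_pCore ⟨_, this⟩
    exact ⟨k, Subtype.ext (Subtype.ext (congrArg (fun x : pCore p G => (x : G)) hk))⟩
  rw [e, Subgroup.normalizer_eq_top] at h1
  exact H76.isPSolvable_of_surjective h1 (f := (⊤ : Subgroup G).subtype) fun g => ⟨⟨g, trivial⟩, rfl⟩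

theorem isConstrained_of_isPSolvable [Finite G] (hF : F.IsRealizedBy ι) (h : IsPSolvable p G)
    (R : Sylow p G) (hR : (R : Subgroup G) = ι.range) : F.IsConstrained p := by
  have hS : IsPGroup p S := (hR ▸ R.isPGroup' :).of_injective ι.rangeRestrict
    (MonoidHom.rangeRestrict_injective_iff.2 hF.1)
  obtain ⟨θ, h1, h2, -⟩ := exists_quot_of_real hF (H93.groupFusionSystem_isRealizedBy (R : Subgroup G))
    (by rw [Subgroup.range_subtype, hR])
  obtain ⟨h3, h4⟩ := quot_group_mk R (pPrimeCore p G)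
  rw [H1.inf_pPrimeCore_eq_bot R.isPGroup'] at h4
  refine h1.isConstrained_of hS (h2 ▸ isCentral_bot _) (H93.isSaturated_of_isRealizedBy hF R hR)
    (h3.isConstrained_of R.isPGroup' (h4 ▸ isCentral_bot _) (H93.isSaturated_groupFusionSystem R)
      (H93.isConstrained_of_isModel ⟨inferInstance, H93.groupFusionSystem_isRealizedBy _,
        ⟨R.mapSurjective (QuotientGroup.mk'_surjective _), by rw [Subgroup.range_subtype]; rfl⟩,
        H23.centralizer_pCore_le_of_isPSolvable (H76.isPSolvable_quotient h _)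
          H1.pPrimeCore_quotient_pPrimeCore⟩))

end Real

omit [Finite S] [Fact p.Prime] in
theorem pSolv_eq_defs : True := by
  have := @PSolv.eq_def.{0}; have := @PSolv.eq_1.{0}
  trivial

end H91
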