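import Mathlib
import Cfsg.Agent.Lib.Fusion.Sparse
import Cfsg.Agent.Lib.H71.Stab
import Cfsg.Agent.S0659

/-!
# Models of sparse systems; the abstract `ZJ` argument with an invariance hypothesis (helper92)
-/

set_option autoImplicit false

namespace H92

open Cfsg Cfsg.FusionSystem H90 Equiv H93

section Grp

variable {G : Type*} [Group G] [Finite G] {p : ℕ} [Fact p.Prime]

theorem npc_quot_of_minimal (hp : p ≠ 2) (P : Sylow p G)
    (hmin : ∀ H : Subgroup G, (P : Subgroup G) ≤ H → H ≠ ⊤ → HasNormalPComplement p H) :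
    HasNormalPComplement p (G ⧸ pCore p G) := by
  have hs := QuotientGroup.mk'_surjective (pCore p G)
  set P' := P.mapSurjective hs
  by_cases hb : (P' : Subgroup (G ⧸ pCore p G)) = ⊥
  · rw [H4.hasNormalPComplement_iff_inf_eq_bot P', hb, inf_bot_eq]
  refine Cfsg.Agent.S0659.result hp P' ?_
  rw [← Subgroup.map_comap_eq_self_of_surjective hs (Subgroup.normalizer _)]
  refine H4.hasNormalPComplement_map (hmin _ ?_ fun h => ?_) _
  · rw [← Subgroup.map_le_iff_le_comap]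
    exact Subgroup.le_normalizer.trans (H25.ZJ.normalizer_le_normalizer_centerThompsonAOf _)
  · have h1 := congrArg (Subgroup.map (QuotientGroup.mk' (pCore p G))) h
    rw [Subgroup.map_comap_eq_self_of_surjective hs, ← MonoidHom.range_eq_map,
      MonoidHom.range_eq_top.2 hs, Subgroup.normalizer_eq_top_iff] at h1
    exact H24.centerThompsonAOf_ne_bot P'.isPGroup' hb (H1.pCore_eq_bot_iff.1
      H1.pCore_quotient_pCore _ h1 (P'.isPGroup'.to_le (H25.ZJ.centerThompsonAOf_le_self _)))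

theorem stableFor_of_minimal (hp : p ≠ 2) (P : Sylow p G)
    (hc : Subgroup.centralizer (pCore p G : Set G) ≤ pCore p G)
    (hmin : ∀ H : Subgroup G, (P : Subgroup G) ≤ H → H ≠ ⊤ → HasNormalPComplement p H) :
    H25.ZJ.StableFor p (P : Subgroup G) :=
  H71.stableFor_of_normalizerPStable ((H71.metaP_of_minimal P
    (H1.pPrimeCore_eq_bot_of_centralizer_le hc) (npc_quot_of_minimal hp P hmin)
    hmin).2.normalizerPStable hp) _

open H25.ZJ in
/-- The abstract `ZJ` theorem, with invariance of the local intersections as the hypothesis. -/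
theorem sInf_inf_normal (S : Sylow p G) (𝒜 : Set (Subgroup G))
    (hle : ∀ A ∈ 𝒜, A ≤ S) (hab : ∀ A ∈ 𝒜, IsMulCommutative A)
    (hinv : ∀ T : Subgroup G, T ≤ S → (∃ A ∈ 𝒜, A ≤ T) → Subgroup.normalizer (T : Set G) ≤
      Subgroup.normalizer ((sInf {A | A ∈ 𝒜 ∧ A ≤ T} : Subgroup G) : Set G))
    (hrepl : ∀ B : Subgroup G, B ≤ S → ⁅⁅B, B⁆, B⁆ = ⊥ →
      (∃ U ∈ 𝒜, ⁅B, B⁆ ≤ U ∧ ¬ B ≤ U) → ∃ A ∈ 𝒜, ¬ B ≤ A ∧ B ≤ Subgroup.normalizer (A : Set G))
    (hstab : StableFor p (S : Subgroup G)) (B : Subgroup G) (hBn : B.Normal) (hBS : B ≤ S) :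
    (sInf 𝒜 ⊓ B).Normal := by
  induction B using WellFoundedLT.induction with | ind B ih => ?_
  by_contra hnot
  set I := sInf 𝒜 with hI
  have hBI : ¬ B ≤ I := fun h => hnot (by rw [inf_eq_right.mpr h]; exact hBn)
  obtain ⟨U, hU, hBU⟩ : ∃ U ∈ 𝒜, ¬ B ≤ U := by
    by_contra hc
    push Not at hc
    exact hBI (le_sInf hc)
  have hSI : (S : Subgroup G) ≤ Subgroup.normalizer (I : Set G) := by
    have h1 : {A | A ∈ 𝒜 ∧ A ≤ (S : Subgroup G)} = 𝒜 :=
      Set.ext fun A => ⟨fun h => h.1, fun h => ⟨h, hle A h⟩⟩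
    have := hinv S le_rfl ⟨U, hU, hle U hU⟩
    rw [h1] at this
    exact Subgroup.le_normalizer.trans this
  have hcl : Subgroup.normalClosure ((I ⊓ B : Subgroup G) : Set G) = B := by
    have h1 : Subgroup.normalClosure ((I ⊓ B : Subgroup G) : Set G) ≤ B :=
      Subgroup.normalClosure_le_normal (fun x hx => hx.2)
    by_contra hne
    have h2 := ih _ (lt_of_le_of_ne h1 hne) inferInstance (h1.trans hBS)
    have h3 : I ⊓ Subgroup.normalClosure ((I ⊓ B : Subgroup G) : Set G) = I ⊓ B :=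
      le_antisymm (inf_le_inf_left _ h1) (le_inf inf_le_left Subgroup.le_normalClosure)
    exact hnot (h3 ▸ h2)
  have hBne : B ≠ ⊥ := fun h => hBI (h ▸ bot_le)
  have hM := ih _ (commutator_lt_of_isPGroup (S.isPGroup'.to_le hBS) hBne) inferInstance
    ((Subgroup.commutator_le_self B).trans hBS)
  have hder : ⁅B, B⁆ ≤ I := by
    have h1 : ⁅I ⊓ B, B⁆ ≤ I ⊓ ⁅B, B⁆ :=
      le_inf ((Subgroup.commutator_mono inf_le_left le_rfl).trans
        (Subgroup.le_normalizer_iff_commutator_le_left.mp (hBS.trans hSI)))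
        (Subgroup.commutator_mono inf_le_right le_rfl)
    have h2 := commutator_normalClosure_le h1
    rw [hcl] at h2
    exact h2.trans inf_le_left
  have hcl2 : ⁅⁅B, B⁆, B⁆ = ⊥ := by
    have h1 : ⁅I ⊓ B, ⁅B, B⁆⁆ ≤ ⊥ :=
      (commutator_eq_bot_of_comm (H := I ⊓ B) fun x hx y hy => comm_of_isMulCommutative (hab U hU)
        (sInf_le hU hx.1) (sInf_le hU (hder hy))).le
    have h2 := commutator_normalClosure_le h1
    rw [hcl, Subgroup.commutator_comm] at h2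
    exact le_bot_iff.mp h2
  obtain ⟨A, hA, hBA, hBN⟩ := hrepl B hBS hcl2 ⟨U, hU, hder.trans (sInf_le hU), hBU⟩
  have hq : ⁅⁅B, A⁆, A⁆ = ⊥ := eq_bot_of_le_of_eq_bot
    (Subgroup.commutator_mono (Subgroup.le_normalizer_iff_commutator_le_right.mp hBN) le_rfl)
    (Subgroup.commutator_self_eq_bot_iff.mpr (hab A hA))
  set C := Subgroup.centralizer (B : Set G) with hC
  set T := (S : Subgroup G) ⊓ (pCore p (G ⧸ C)).comap (QuotientGroup.mk' C) with hT
  have hAT : A ≤ T :=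
    le_inf (hle A hA) (hstab B (S.isPGroup'.to_le hBS) A (hle A hA) (hab A hA) hq)
  have htop := normalizer_sylow_inf_comap_sup_eq_top S C (pCore p (G ⧸ C)) H1.isPGroup_pCore
  set X := sInf {A | A ∈ 𝒜 ∧ A ≤ T} with hX
  have hXn : (X ⊓ B).Normal := by
    rw [← Subgroup.normalizer_eq_top_iff, eq_top_iff, ← htop]
    refine sup_le ((le_inf (hinv T inf_le_left ⟨A, hA, hAT⟩) Subgroup.le_normalizer_of_normal).trans
      Subgroup.inf_normalizer_le_normalizer_inf) ?_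
    exact (H24.centralizer_anti inf_le_right).trans (Subgroup.centralizer_le_normalizer _)
  apply hBA
  have h1 : I ⊓ B ≤ X ⊓ B := inf_le_inf_right _ (sInf_le_sInf fun A hA => hA.1)
  have h2 := Subgroup.normalClosure_le_normal (s := ((I ⊓ B : Subgroup G) : Set G)) h1
  rw [hcl] at h2
  exact h2.trans (inf_le_left.trans (sInf_le ⟨hA, hAT⟩))

theorem sInf_normal (S : Sylow p G) (𝒜 : Set (Subgroup G)) (hne : 𝒜.Nonempty)
    (hle : ∀ A ∈ 𝒜, A ≤ S) (hab : ∀ A ∈ 𝒜, IsMulCommutative A)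
    (hinv : ∀ T : Subgroup G, T ≤ S → (∃ A ∈ 𝒜, A ≤ T) → Subgroup.normalizer (T : Set G) ≤
      Subgroup.normalizer ((sInf {A | A ∈ 𝒜 ∧ A ≤ T} : Subgroup G) : Set G))
    (hrepl : ∀ B : Subgroup G, B ≤ S → ⁅⁅B, B⁆, B⁆ = ⊥ →
      (∃ U ∈ 𝒜, ⁅B, B⁆ ≤ U ∧ ¬ B ≤ U) → ∃ A ∈ 𝒜, ¬ B ≤ A ∧ B ≤ Subgroup.normalizer (A : Set G))
    (hstab : H25.ZJ.StableFor p (S : Subgroup G))
    (hc : Subgroup.centralizer (pCore p G : Set G) ≤ pCore p G) : (sInf 𝒜).Normal := by
  have h := sInf_inf_normal S 𝒜 hle hab hinv hrepl hstab (pCore p G) inferInstance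
    (H1.pCore_le_sylow S)
  obtain ⟨U, hU⟩ := hne
  have h1 : {A | A ∈ 𝒜 ∧ A ≤ (S : Subgroup G)} = 𝒜 :=
    Set.ext fun A => ⟨fun h => h.1, fun h => ⟨h, hle A h⟩⟩
  have h2 := hinv S le_rfl ⟨U, hU, hle U hU⟩
  rw [h1] at h2
  rwa [inf_eq_left.mpr] at h
  have := hab U hU
  exact H25.ZJ.le_pCore_of_stableFor hstab hc ((sInf_le hU).trans (hle U hU))
    (H24.isMulCommutative_mono this (sInf_le hU))
    ((H1.pCore_le_sylow S).trans (Subgroup.le_normalizer.trans h2))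

end Grp

variable {Ω : Type*} [Group Ω] {S : Subgroup Ω} {F : FusionSystem S} {p : ℕ} [Fact p.Prime]
  {G : Type*} [Group G] [Finite G] {ι : S →* G} {T : Sylow p G}

/-- Proper overgroups of the Sylow subgroup in a model of a sparse system are `p`-nilpotent. -/
theorem Sparse.npc_of_ne_top (h : Sparse F p) (hG : F.IsModel p G ι)
    (hT : (T : Subgroup G) = ι.range) (H : Subgroup G) (hH : (T : Subgroup G) ≤ H) (hne : H ≠ ⊤) :
    HasNormalPComplement p H := by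
  have hι := hG.2.1.1
  have hE := inducedBy_inducedSystem hι H S le_rfl fun x _ => hH (hT ▸ ext_mem_range x)
  rcases h.2 S _ rfl (hE.isSaturated hι le_rfl (by
    rw [imageAlong_self, ← hT]; exact (syl_top T).mono hH le_top))
    (hE.isSubsystemOf hG.2.1 le_rfl) with h1 | h1
  · refine (hne (eq_top_iff.2 fun g _ => ?_)).elim
    have hQ := IsModel.pCore_le_range hG
    obtain ⟨φ, hφ, e⟩ := exists_Hom_conj hG.2.1 (preimageAlong_le (pCore p G)) g fun x hx =>
      hQ (Subgroup.Normal.conj_mem inferInstance _ (mem_preimageAlong.1 hx).2 g)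
    obtain ⟨-, -, k, hk, e'⟩ := (hE _ φ).1 (h1 _ hφ)
    have : k⁻¹ * g ∈ H := hH (H1.pCore_le_sylow T (hG.2.2.2 fun y hy => by
      obtain ⟨x, hx, rfl⟩ := mem_range_iff_ext.1 (hQ hy)
      have e1 := (e ⟨x, mem_preimageAlong.2 ⟨hx, hy⟩⟩).symm.trans
        (e' ⟨x, mem_preimageAlong.2 ⟨hx, hy⟩⟩)
      simp only at e1
      calc ext ι x * (k⁻¹ * g) = k⁻¹ * (k * ext ι x * k⁻¹) * g := by group
        _ = k⁻¹ * g * ext ι x := by rw [← e1]; group))
    simpa using H.mul_mem hk this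
  refine npc_of_controls hT (hT ▸ hH) fun x hx g hg hx' => ?_
  have hP : Subgroup.zpowers x ≤ S := Subgroup.zpowers_le.2 hx
  obtain ⟨φ, hφ, e⟩ := exists_hom_conj hι hP g ((comap_conj_le_range hP).2
    (Subgroup.zpowers_le.2 (mem_preimageAlong.2 ⟨hx, hx'⟩)))
  obtain ⟨-, -, s, e'⟩ := (real_iff (innerFusionSystem_isRealizedBy S)).1
    (h1 _ ((hE _ φ).2 ⟨hP, hφ, g, hg, e⟩))
  refine ⟨s, s.2, ?_⟩
  have e1 := congrArg (fun y : S => ι y) (e' ⟨x, Subgroup.mem_zpowers x⟩)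
  rw [← e ⟨x, Subgroup.mem_zpowers x⟩, ext_of_mem (hφ _), ext_of_mem hx, ext_coe]
  simpa [ext_of_mem (hφ _), ext_of_mem hx] using e1.symm

theorem Sparse.stableFor (h : Sparse F p) (hp : p ≠ 2) (hG : F.IsModel p G ι)
    (hT : (T : Subgroup G) = ι.range) : H25.ZJ.StableFor p (T : Subgroup G) :=
  stableFor_of_minimal hp T hG.2.2.2 (h.npc_of_ne_top hG hT)

end H92
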