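import Mathlib
import Cfsg.Agent.Lib.ZJ.CentralQuot
import Cfsg.Agent.Lib.Fusion.ParkTransfer

/-!
# Quadratic action modulo a centralized subgroup, for every odd prime (helper92)

The case `p > 3` follows the argument of `Lib/ZJ/CentralQuot`; for `p = 3` the transvection is a
linear combination of elements of the quaternion group.
-/

set_option autoImplicit false

namespace H92

open Subgroup Cfsg H24 H25.ZJ Polynomial
open scoped commutatorElement MatrixGroups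

local notation:max "𝐍(" A ")" => Subgroup.normalizer (SetLike.coe A)
local notation:max "𝐂(" A ")" => Subgroup.centralizer (SetLike.coe A)

variable {G : Type*} [Group G] {p : ℕ}

/-- Stability, in the form for pairs of quadratic elements, on the subgroups of `X`. -/
def PairStab (p : ℕ) (X : Subgroup G) : Prop :=
  ∀ Q ≤ X, ∀ a b : G, closure ({a, b} : Set G) ≤ 𝐍(Q) → ⁅⁅Q, zpowers a⁆, zpowers a⁆ = ⊥ →
    ⁅⁅Q, zpowers b⁆, zpowers b⁆ = ⊥ → ∀ z ∈ closure ({a, b} : Set G), ∃ k : ℕ, z ^ p ^ k ∈ 𝐂(Q)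

theorem PairStab.mono {X Y : Subgroup G} (h : PairStab p X) (hY : Y ≤ X) : PairStab p Y :=
  fun Q hQ => h Q (hQ.trans hY)

theorem quat_lin {R : Type*} [Ring R] (h3 : (3 : R) = 0) {N I J : R} (hJ : J * J = -1)
    (hIJ : J * I = -(I * J)) (hNI : N * I = -(J * N)) (h1 : (N - 1) * (N - 1) = 0)
    (h2 : (N * I - 1) * (N * I - 1) = 0) : N = 1 - I + J - I * J := by
  have a1 : N * N = N + N - 1 := by rw [← sub_eq_zero, ← h1]; noncomm_ring
  have a2 : N * I * (N * I) = N * I + N * I - 1 := by rw [← sub_eq_zero, ← h2]; noncomm_ring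
  have a3 : J * (N * I) = N := by rw [hNI, mul_neg, ← mul_assoc, hJ]; noncomm_ring
  have a4 : N * I * (N * I) = J * I - N - N := by
    calc N * I * (N * I) = -(J * (N * N) * I) := by nth_rw 1 [hNI]; noncomm_ring
      _ = J * I - J * (N * I) - J * (N * I) := by rw [a1]; noncomm_ring
      _ = _ := by rw [a3]
  have a5 : (1 + J) * (J * I - N - N) = (1 + J) * (N * I + N * I - 1) := by rw [← a4, a2]
  have a6 : J * (J * I) = -I := by rw [← mul_assoc, hJ]; noncomm_ring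
  have a7 : J * I + J * (J * I) - N - N - J * N - J * N =
      N * I + N * I - 1 + J * (N * I) + J * (N * I) - J := by
    rw [← sub_eq_zero] at a5 ⊢
    rw [← a5]; noncomm_ring
  rw [a6, a3, hNI, hIJ] at a7
  have a8 : (3 : R) * N = 0 := by rw [h3, zero_mul]
  rw [← sub_eq_zero] at a7 ⊢
  rw [← neg_eq_zero, ← add_zero (0 : R)]
  nth_rw 1 [← a7, ← a8]
  noncomm_ring

theorem sl23_lin {F : Type*} [Field F] [CharP F 3] (ι : SL(2, ZMod 3) →* SL(2, F))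
    (h : ι (-1) = -1) : ∃ i j k : SL(2, ZMod 3), i ^ 4 = 1 ∧ j ^ 4 = 1 ∧ k ^ 4 = 1 ∧
      (ι (upT 1)).1 = 1 - (ι i).1 + (ι j).1 - (ι k).1 ∧
      (ι (upT 1)⁻¹).1 = 1 - (ι i⁻¹).1 + (ι j⁻¹).1 - (ι k⁻¹).1 := by
  let i : SL(2, ZMod 3) := H64.SL2.mk 0 1 (-1) 0 (by decide)
  let j : SL(2, ZMod 3) := H64.SL2.mk 1 1 1 (-1) (by decide)
  have hm : ∀ a b, (ι (a * b)).1 = (ι a).1 * (ι b).1 := fun a b => by rw [map_mul]; rfl
  have hn : ∀ a, (ι (-a)).1 = -(ι a).1 := fun a => by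
    rw [← neg_one_mul, map_mul, h, neg_one_mul]; rfl
  have h1 : (ι 1).1 = 1 := by rw [map_one]; rfl
  have ht : ∀ a : SL(2, ZMod 3), a ^ 3 = 1 → ((ι a).1 - 1) * ((ι a).1 - 1) = 0 := fun a ha =>
    sub_one_sq_of_tr (tr_eq_two_of_pow_eq_one 3 (k := 1) (by rw [pow_one, ← map_pow, ha, map_one]))
  have h3 : (3 : Matrix (Fin 2) (Fin 2) F) = 0 := by exact_mod_cast CharP.cast_eq_zero _ 3
  refine ⟨i, j, i * j, by decide, by decide, by decide, ?_, ?_⟩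
  · rw [hm]
    refine quat_lin h3 ?_ ?_ ?_ (ht _ (by decide)) ?_
    · rw [← hm, ← h1, ← hn]; congr 2; decide
    · rw [← hm, ← hm, ← hn]; congr 2; decide
    · rw [← hm, ← hm, ← hn]; congr 2; decide
    · rw [← hm]; exact ht _ (by decide)
  · have := quat_lin h3 (N := (ι (upT 1)⁻¹).1) (I := (ι i⁻¹).1) (J := (ι (-(i * j)⁻¹)).1)
      (by rw [← hm, ← h1, ← hn]; congr 2; decide) (by rw [← hm, ← hm, ← hn]; congr 2; decide)
      (by rw [← hm, ← hm, ← hn]; congr 2; decide) (ht _ (by decide))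
      (by rw [← hm]; exact ht _ (by decide))
    rw [this, ← hm, show i⁻¹ * -(i * j)⁻¹ = -j⁻¹ by decide, hn, hn]
    abel

theorem exists_inverted {Q : Subgroup G} (hodd : ∀ u ∈ Q, Odd (orderOf u)) {t : G}
    (ht : t ∈ 𝐍(Q)) (htt : t * t ∈ 𝐂(Q)) {u : G} (hu : u ∈ Q) :
    ∃ y ∈ Q, t⁻¹ * y * t = y⁻¹ ∧ t⁻¹ * (u * y) * t = u * y := by
  have hτ := conj_mem_of_mem_normalizer' ht hu
  set w := u⁻¹ * (t⁻¹ * u * t) with hw
  have hwQ : w ∈ Q := mul_mem (inv_mem hu) hτ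
  have hwi : t⁻¹ * w * t = w⁻¹ := by
    have h1 := htt u hu
    calc t⁻¹ * w * t = t⁻¹ * u⁻¹ * t * ((t * t)⁻¹ * (u * (t * t))) := by rw [hw]; group
      _ = w⁻¹ := by rw [h1, hw]; group
  obtain ⟨m, hm⟩ := hodd w hwQ
  set y := w ^ (m + 1) with hy
  have hyy : y * y = w := by
    rw [hy, ← pow_add, show m + 1 + (m + 1) = orderOf w + 1 by omega, pow_succ, pow_orderOf_eq_one,
      one_mul]
  have hyi : t⁻¹ * y * t = y⁻¹ := by
    have := conj_pow (a := t⁻¹) (b := w) (i := m + 1)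
    rw [inv_inv, hwi, inv_pow] at this
    exact this.symm
  refine ⟨y, pow_mem hwQ _, hyi, ?_⟩
  calc t⁻¹ * (u * y) * t = u * w * (t⁻¹ * y * t) := by rw [hw]; group
    _ = u * y := by rw [hyi, ← hyy]; group

theorem mem_centralizer_commutator {C D : Subgroup G} (hCD : C ≤ 𝐂(D)) (hc : ⁅C, C⁆ ≤ D)
    {n k₁ k₂ k₃ : G} (hn : n ∈ 𝐍(C)) (h₁ : k₁ ∈ 𝐍(C) ⊓ 𝐂(D)) (h₂ : k₂ ∈ 𝐍(C) ⊓ 𝐂(D))
    (h₃ : k₃ ∈ 𝐍(C) ⊓ 𝐂(D))
    (e : ∀ u ∈ C, (n⁻¹ * u * n)⁻¹ *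
      (u * (k₁⁻¹ * u * k₁)⁻¹ * (k₂⁻¹ * u * k₂) * (k₃⁻¹ * u * k₃)⁻¹) ∈ D)
    (e' : ∀ u ∈ C, (n * u * n⁻¹)⁻¹ *
      (u * (k₁ * u * k₁⁻¹)⁻¹ * (k₂ * u * k₂⁻¹) * (k₃ * u * k₃⁻¹)⁻¹) ∈ D) : n ∈ 𝐂(⁅C, C⁆) := by
  have hz : ∀ x ∈ C, ∀ y ∈ C, ∀ z ∈ C, z * ⁅x, y⁆ * z⁻¹ = ⁅x, y⁆ := fun x hx y hy z hz => by
    rw [← hCD hz _ (hc (commutator_mem_commutator hx hy)), mul_inv_cancel_right]
  have hm : ∀ x ∈ C, ∀ y ∈ C, ⁅x, y⁆ ∈ C := fun x hx y hy =>
    mul_mem (mul_mem (mul_mem hx hy) (inv_mem hx)) (inv_mem hy)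
  have hL : ∀ y ∈ C, ∀ x ∈ C, ∀ x' ∈ C, ⁅x * x', y⁆ = ⁅x, y⁆ * ⁅x', y⁆ := fun y hy x hx x' hx' => by
    have : ⁅x * x', y⁆ = ⁅x, y⁆ * (⁅x, y⁆⁻¹ * (x * ⁅x', y⁆ * x⁻¹) * ⁅x, y⁆⁻¹⁻¹) := by
      simp only [commutatorElement_def]; group
    rw [this, hz _ hx' _ hy _ hx, hz _ hx' _ hy _ (inv_mem (hm x hx y hy))]
  have hR : ∀ x ∈ C, ∀ y ∈ C, ∀ y' ∈ C, ⁅x, y * y'⁆ = ⁅x, y⁆ * ⁅x, y'⁆ := fun x hx y hy y' hy' => by
    have : ⁅x, y * y'⁆ = ⁅x, y⁆ * (y * ⁅x, y'⁆ * y⁻¹) := by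
      simp only [commutatorElement_def]; group
    rw [this, hz _ hx _ hy' _ hy]
  have hL' : ∀ y ∈ C, ∀ {x}, x ∈ C → ⁅x⁻¹, y⁆ = ⁅x, y⁆⁻¹ := fun y hy _ hx =>
    MulOn.inv (f := fun x => ⁅x, y⁆) (hL y hy) hx
  have hR' : ∀ x ∈ C, ∀ {y}, y ∈ C → ⁅x, y⁻¹⁆ = ⁅x, y⁆⁻¹ := fun x hx _ hy =>
    MulOn.inv (f := fun y => ⁅x, y⁆) (hR x hx) hy
  have hk : ∀ k ∈ 𝐍(C) ⊓ 𝐂(D), ∀ x ∈ C, ∀ y ∈ C, ⁅k⁻¹ * x * k, y⁆ = ⁅x, k * y * k⁻¹⁆ :=
    fun k hk x hx y hy => by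
      have := hk.2 _ (hc (commutator_mem_commutator hx (conj_mem_of_mem_normalizer hk.1 hy)))
      rw [← inv_mul_cancel_left k ⁅x, k * y * k⁻¹⁆, ← this]
      simp only [commutatorElement_def]; group
  have key : ∀ x ∈ C, ∀ y ∈ C, ⁅n⁻¹ * x * n, y⁆ = ⁅x, n * y * n⁻¹⁆ := fun x hx y hy => by
    have a0 := conj_mem_of_mem_normalizer' hn hx
    have a1 := conj_mem_of_mem_normalizer' h₁.1 hx
    have a2 := conj_mem_of_mem_normalizer' h₂.1 hx
    have a3 := conj_mem_of_mem_normalizer' h₃.1 hx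
    have b0 := conj_mem_of_mem_normalizer hn hy
    have b1 := conj_mem_of_mem_normalizer h₁.1 hy
    have b2 := conj_mem_of_mem_normalizer h₂.1 hy
    have b3 := conj_mem_of_mem_normalizer h₃.1 hy
    have c1 := commutatorElement_eq_one_iff_mul_comm.2 (hCD hy _ (e x hx))
    have c2 := commutatorElement_eq_one_iff_mul_comm.2 (hCD hx _ (e' y hy)).symm
    rw [hL y hy _ (inv_mem a0) _ (mul_mem (mul_mem (mul_mem hx (inv_mem a1)) a2) (inv_mem a3)),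
      hL y hy _ (mul_mem (mul_mem hx (inv_mem a1)) a2) _ (inv_mem a3),
      hL y hy _ (mul_mem hx (inv_mem a1)) _ a2, hL y hy _ hx _ (inv_mem a1), hL' y hy a0,
      hL' y hy a1, hL' y hy a3, inv_mul_eq_one, hk _ h₁ x hx y hy, hk _ h₂ x hx y hy,
      hk _ h₃ x hx y hy] at c1
    rw [hR x hx _ (inv_mem b0) _ (mul_mem (mul_mem (mul_mem hy (inv_mem b1)) b2) (inv_mem b3)),
      hR x hx _ (mul_mem (mul_mem hy (inv_mem b1)) b2) _ (inv_mem b3),
      hR x hx _ (mul_mem hy (inv_mem b1)) _ b2, hR x hx _ hy _ (inv_mem b1), hR' x hx b0,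
      hR' x hx b1, hR' x hx b3, inv_mul_eq_one] at c2
    rw [c1, c2]
  rw [← zpowers_le, le_centralizer_iff]
  refine commutator_le.2 fun x hx y hy z hz => ?_
  obtain ⟨i, rfl⟩ := mem_zpowers_iff.1 hz
  refine (Commute.zpow_left ?_ i).eq
  have := key x hx _ (conj_mem_of_mem_normalizer' hn hy)
  rw [show n * (n⁻¹ * y * n) * n⁻¹ = y by group] at this
  change n * _ = _ * n
  nth_rw 1 [← this]
  simp only [commutatorElement_def]; group

theorem not_pairStab_of_min [Finite G] [hpp : Fact p.Prime] (hp2 : p ≠ 2) {Q D L : Subgroup G}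
    (hQ : IsPGroup p Q) (hL : L ≤ 𝐍(Q)) (hDQ : D ≤ Q) (hne : D ≠ Q) (hLD : L ≤ 𝐍(D))
    (hQD : ⁅Q, Q⁆ ≤ D) (hmax : ∀ Y : Subgroup G, D ≤ Y → Y ≤ Q → L ≤ 𝐍(Y) → Y ≠ Q → Y ≤ D)
    (hK : ∀ k ∈ pResidual p L, (k : G) ∈ 𝐂(D))
    (hnc : ∃ l : L, (orderOf (l : G)).Coprime p ∧ (l : G) ∉ 𝐂(Q))
    (a b : L) (hab : closure ({a, b} : Set L) = ⊤)
    (ha : ⁅⁅Q, zpowers (a : G)⁆, zpowers (a : G)⁆ ≤ D)
    (hb : ⁅⁅Q, zpowers (b : G)⁆, zpowers (b : G)⁆ ≤ D) : ¬ PairStab p Q := by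
  classical
  intro hst
  obtain ⟨F, _, _, _, hs⟩ := exists_finite_field_splits p (orderOf (a * b))
  have := finite_dual F Q
  let σ : L → Q → Q := fun h u => ⟨(h : G)⁻¹ * u * h, conj_mem_of_mem_normalizer' (hL h.2) u.2⟩
  have hσ : ∀ (h : L) (f : Additive Q →+ F) (u : Q),
      dualRep F Q L hL h f (Additive.ofMul u) = f (Additive.ofMul (σ h u)) :=
    fun h f u => dualRep_apply F Q L hL h f u
  let W : Submodule F (Additive Q →+ F) :=
    { carrier := {f | ∀ d : Q, (d : G) ∈ D → f (Additive.ofMul d) = 0}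
      zero_mem' := fun _ _ => rfl
      add_mem' := fun {f g} hf hg d hd => by rw [AddMonoidHom.add_apply, hf d hd, hg d hd, add_zero]
      smul_mem' := fun c f hf d hd => by rw [AddMonoidHom.smul_apply, hf d hd, smul_zero] }
  let ρ : L →* Module.End F W := Representation.subrepresentation (dualRep F Q L hL) W
    fun h f hf d hd => by
      rw [hσ]; exact hf _ (conj_mem_of_mem_normalizer' (hLD h.2) hd)
  have hρ : ∀ (h : L) (f : W) (u : Q),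
      (ρ h f).1 (Additive.ofMul u) = f.1 (Additive.ofMul (σ h u)) := fun h f u => hσ h f.1 u
  have hδ : ∀ (h : L) (f : W) (u : Q),
      f.1 (Additive.ofMul (u⁻¹ * σ h u)) = (ρ h f - f).1 (Additive.ofMul u) := fun h f u => by
    rw [ofMul_mul, map_add, ofMul_inv, map_neg, Submodule.coe_sub, AddMonoidHom.sub_apply, hρ]
    abel
  have hDn : (D.subgroupOf Q).Normal := (normal_subgroupOf_iff_le_normalizer hDQ).2
    (le_normalizer_iff_commutator_le_right.2 ((commutator_mono le_rfl hDQ).trans hQD))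
  have : Nontrivial W := by
    have : Nontrivial (Q ⧸ D.subgroupOf Q) := QuotientGroup.nontrivial_iff.2 fun h =>
      hne (le_antisymm hDQ (subgroupOf_eq_top.1 h))
    obtain ⟨f, hf⟩ := H71.exists_addHom_ne_zero F (Q ⧸ D.subgroupOf Q) (hQ.to_quotient _)
    refine ⟨⟨f.comp (MonoidHom.toAdditive (QuotientGroup.mk' (D.subgroupOf Q))), fun d hd => ?_⟩,
      0, fun e => hf (AddMonoidHom.ext fun x => ?_)⟩
    · change f (Additive.ofMul (QuotientGroup.mk' (D.subgroupOf Q) d)) = 0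
      rw [QuotientGroup.mk'_apply, (QuotientGroup.eq_one_iff d).2 hd]
      exact map_zero f
    · obtain ⟨y, hy⟩ := QuotientGroup.mk'_surjective _ x.toMul
      have := DFunLike.congr_fun (congrArg Subtype.val e) (Additive.ofMul y)
      change f (Additive.ofMul (QuotientGroup.mk' (D.subgroupOf Q) y)) = 0 at this
      rw [hy] at this
      exact this
  have hquad : ∀ c : L, ⁅⁅Q, zpowers (c : G)⁆, zpowers (c : G)⁆ ≤ D →
      ∀ f : W, ρ c (ρ c f - f) = ρ c f - f := fun c hc f => by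
    rw [← sub_eq_zero]
    refine Subtype.ext (AddMonoidHom.ext fun u => ?_)
    obtain ⟨u, rfl⟩ := Additive.ofMul.surjective u
    rw [← hδ, ← hδ]
    refine f.2 _ (hc ?_)
    have m1 : ((u⁻¹ * σ c u : Q) : G) ∈ ⁅Q, zpowers (c : G)⁆ := by
      have := commutator_mem_commutator (inv_mem u.2) (inv_mem (mem_zpowers (c : G)))
      simpa [commutatorElement_def, σ, mul_assoc] using this
    have := commutator_mem_commutator (inv_mem m1) (inv_mem (mem_zpowers (c : G)))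
    simpa [commutatorElement_def, σ, mul_assoc] using this
  have hker : ∀ S : Set W, (∀ h, ∀ f ∈ S, ρ h f ∈ S) → (∃ f ∈ S, f ≠ 0) →
      ∀ u : Q, (∀ f ∈ S, f.1 (Additive.ofMul u) = 0) → (u : G) ∈ D := by
    intro S hS ⟨f₀, hf₀, hf₀'⟩ u hu
    let Y : Subgroup Q :=
      { carrier := {u | ∀ f ∈ S, f.1 (Additive.ofMul u) = 0}
        one_mem' := fun f _ => map_zero f.1
        mul_mem' := fun {c d} h1 h2 f hf => by rw [ofMul_mul, map_add, h1 f hf, h2 f hf, add_zero]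
        inv_mem' := fun {c} h1 f hf => by rw [ofMul_inv, map_neg, h1 f hf, neg_zero] }
    refine hmax (Y.map Q.subtype) (fun d hd => ⟨⟨d, hDQ hd⟩, fun f _ => f.2 _ hd, rfl⟩)
      (map_subtype_le Y) (fun g hg => mem_normalizer_of_conj_mem ?_) (fun h => hf₀' ?_)
      ⟨u, hu, rfl⟩
    · rintro _ ⟨w, hw, rfl⟩
      refine ⟨σ ⟨g, hg⟩⁻¹ w, fun f hf => ?_, by simp [σ]⟩
      rw [← hρ]
      exact hw _ (hS _ f hf)
    · refine Subtype.ext (AddMonoidHom.ext fun z => ?_)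
      obtain ⟨w, hw, e⟩ : (z.toMul : G) ∈ Y.map Q.subtype := h.ge z.toMul.2
      have : w = z.toMul := Subtype.ext e
      subst this
      exact hw f₀ hf₀
  rcases H59.exists_natural_of_quadratic (K := F) (W := W) a b hab (orderOf_pos (a * b)).ne' (pow_orderOf_eq_one _) hs
    ρ (hquad a ha) (hquad b hb) with ⟨f, hf0, hf⟩ | ⟨c, φ, ψ, hc0, hφa, hφb, hψ, hφ⟩
  · obtain ⟨l, hl, hlc⟩ := hnc
    refine hlc (mem_centralizer_of_stab hQ hDQ hl
      (hK l (H4.mem_pResidual_of_coprime (by rwa [← orderOf_coe]))) fun u hu => ?_)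
    exact hker {f} (by rintro h _ rfl; exact hf h) ⟨f, rfl, hf0⟩ ((⟨u, hu⟩ : Q)⁻¹ * σ l ⟨u, hu⟩)
      (by rintro _ rfl; rw [hδ, hf]; simp)
  have hE : ∀ u : Q, (∀ v, (ψ v).1 (Additive.ofMul u) = 0) → (u : G) ∈ D := fun u hu => by
    refine hker (Set.range ψ) ?_ ⟨ψ (Pi.single 0 1), ⟨_, rfl⟩, fun e => ?_⟩ u ?_
    · rintro h _ ⟨v, rfl⟩
      exact ⟨_, (hφ h v).symm⟩
    · have := congrFun (hψ (e.trans (map_zero ψ).symm)) 0
      simp at this
    · rintro _ ⟨v, rfl⟩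
      exact hu v
  have hδ' : ∀ (h : L) (v : Fin 2 → F) (u : Q), (ψ v).1 (Additive.ofMul (u⁻¹ * σ h u)) =
      (ψ (((φ h).1 - 1).mulVec v)).1 (Additive.ofMul u) := fun h v u => by
    rw [hδ, hφ, Matrix.sub_mulVec, Matrix.one_mulVec, map_sub]
  have hcent : ∀ h ∈ pResidual p L, φ h = 1 → (orderOf (h : G)).Coprime p → (h : G) ∈ 𝐂(Q) :=
    fun h hh h1 h2 => mem_centralizer_of_stab hQ hDQ h2 (hK h hh) fun u hu =>
      hE ((⟨u, hu⟩ : Q)⁻¹ * σ h ⟨u, hu⟩) fun v => by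
        rw [hδ', h1]; simp
  obtain ⟨K₀, hK₀, ⟨e⟩⟩ := Cfsg.Agent.S0274.result p hp2 φ.range
    (one_lt_card_sylow_of_upT_loT p hc0 one_ne_zero ⟨a, hφa⟩ ⟨b, hφb⟩)
  let ι : SL(2, ZMod p) →* SL(2, F) := K₀.subtype.comp e.symm.toMonoidHom
  have hι : Function.Injective ι := K₀.subtype_injective.comp e.symm.injective
  have h2p : (2 : ZMod p) ≠ 0 := H59.two_ne_zero_zmod hp2
  have hlift : ∀ s ∈ pResidual p SL(2, ZMod p), ∃ k ∈ pResidual p L, φ k = ι s := fun s hs => by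
    have h4 := H4.map_pResidual_le (n := p) (ι.codRestrict φ.range fun s => hK₀ (e.symm s).2)
      ⟨s, hs, rfl⟩
    rw [← H4.map_pResidual_eq_of_surjective φ.rangeRestrict_surjective] at h4
    obtain ⟨k, hk, hk'⟩ := h4
    exact ⟨k, hk, congrArg Subtype.val hk'⟩
  have hlift4 : ∀ s : SL(2, ZMod p), s ^ 4 = 1 → ∃ k ∈ pResidual p L, φ k = ι s := fun s hs =>
    hlift s (H4.mem_pResidual_of_coprime (Nat.Coprime.coprime_dvd_left
      (orderOf_dvd_of_pow_eq_one hs)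
      (((Nat.coprime_primes Nat.prime_two hpp.out).2 hp2.symm).pow_left 2)))
  have h2F : (2 : F) ≠ 0 := fun h => by
    have : ((2 : ℕ) : F) = 0 := by exact_mod_cast h
    exact hp2 ((Nat.prime_dvd_prime_iff_eq hpp.out Nat.prime_two).1
      ((CharP.cast_eq_zero_iff F p 2).1 this))
  have hι1 : ι (-1) = -1 := by
    refine (H64.SL2.mem_center_iff'.1 (H64.SL2.mem_center_of_mul_self_eq_one h2F ?_)).resolve_left
      fun h => H64.SL2.neg_one_ne_one h2p (hι (h.trans (map_one ι).symm))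
    rw [← map_mul, neg_mul_neg, one_mul, map_one]
  have := H4.pResidual_normal p L
  set N₀ : Subgroup L := pResidual p L ⊓ (center SL(2, F)).comap φ with hN₀
  obtain ⟨t, htK, htφ, j, htj⟩ : ∃ t ∈ pResidual p L, φ t = -1 ∧ ∃ j, t ^ 2 ^ j = 1 := by
    obtain ⟨t₀, h1, h2⟩ := hlift4 (-1) (by rw [show (4 : ℕ) = 2 * 2 from rfl, pow_mul, neg_one_sq, one_pow])
    obtain ⟨j, m, hm, hjm⟩ := Nat.exists_eq_two_pow_mul_odd (orderOf_pos t₀).ne'
    refine ⟨t₀ ^ m, pow_mem h1 _, by rw [map_pow, h2, hι1, hm.neg_one_pow], j, ?_⟩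
    rw [← pow_mul, mul_comm, ← hjm, pow_orderOf_eq_one]
  have htN : t ∈ N₀ := ⟨htK, by
    change φ t ∈ center SL(2, F)
    rw [htφ]; exact H64.SL2.neg_one_mem_center⟩
  obtain ⟨T₂, hT₂⟩ := (H9.isPGroup_zpowers_of_pow (p := 2) (a := j) (x := (⟨t, htN⟩ : N₀))
    (Subtype.ext htj)).exists_le_sylow
  set T := (T₂ : Subgroup N₀).map N₀.subtype with hT
  have htT : t ∈ T := ⟨_, hT₂ (mem_zpowers _), rfl⟩
  have hTp : IsPGroup 2 T := T₂.isPGroup'.map _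
  have hTc : ∀ s ∈ T, φ s = 1 → (s : G) ∈ 𝐂(Q) := fun s hs h1 => by
    refine hcent s (map_subtype_le _ hs).1 h1 ?_
    obtain ⟨k, hk⟩ := hTp ⟨s, hs⟩
    rw [orderOf_coe]
    exact Nat.Coprime.coprime_dvd_left (orderOf_dvd_of_pow_eq_one (congrArg Subtype.val hk))
      (((Nat.coprime_primes Nat.prime_two hpp.out).2 hp2.symm).pow_left k)
  have hfr : ∀ k : L, ∃ n ∈ 𝐍(T), φ n = φ k ∧ (k ∈ pResidual p L → n ∈ pResidual p L) := fun k => by
    have h1 : k ∈ 𝐍(T) ⊔ N₀ := by rw [hT, Sylow.normalizer_sup_eq_top T₂]; exact mem_top _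
    obtain ⟨n, hn, n₀, hn₀, rfl⟩ := (mem_sup_of_le_normalizer le_normalizer_of_normal).1 h1
    have hnK : n * n₀ ∈ pResidual p L → n ∈ pResidual p L :=
      (Subgroup.mul_mem_cancel_right _ hn₀.1).1
    rcases H64.SL2.mem_center_iff'.1 hn₀.2 with h | h
    · exact ⟨n, hn, by rw [map_mul, h, mul_one], hnK⟩
    · exact ⟨n * t, mul_mem hn (le_normalizer htT), by rw [map_mul, map_mul, h, htφ],
        fun h => mul_mem (hnK h) htK⟩
  have hodd : ∀ u ∈ Q, Odd (orderOf u) := fun u hu => by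
    obtain ⟨k, hk⟩ := hQ ⟨u, hu⟩
    exact Odd.of_dvd_nat (hpp.out.odd_of_ne_two hp2).pow
      (orderOf_dvd_of_pow_eq_one (congrArg Subtype.val hk))
  have htt : (t : G) * t ∈ 𝐂(Q) :=
    hTc (t * t) (mul_mem htT htT) (by rw [map_mul, htφ, neg_mul_neg, one_mul])
  have hfix : ∀ c ∈ Q, (t : G)⁻¹ * c * t = c → c ∈ D := fun c hc hct => by
    refine hE ⟨c, hc⟩ fun v => ?_
    have h1 := hδ' t v ⟨c, hc⟩
    have h2 : (⟨c, hc⟩ : Q)⁻¹ * σ t ⟨c, hc⟩ = 1 := Subtype.ext (by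
      change c⁻¹ * ((t : G)⁻¹ * c * t) = 1
      rw [hct, inv_mul_cancel])
    have h3 : ((φ t).1 - 1).mulVec v = (-2 : F) • v := by
      rw [htφ, Matrix.sub_mulVec, Matrix.SpecialLinearGroup.coe_neg,
        Matrix.SpecialLinearGroup.coe_one, Matrix.neg_mulVec, Matrix.one_mulVec]
      module
    rw [h2, ofMul_one, map_zero, h3, map_smul, Submodule.coe_smul, AddMonoidHom.smul_apply,
      smul_eq_mul] at h1
    exact (mul_eq_zero.1 h1.symm).resolve_left (neg_ne_zero.2 h2F)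
  have htn : ∀ n ∈ 𝐍(T), ∀ u ∈ Q, (t : G)⁻¹ * (((n : L) : G)⁻¹ * u * n) * t =
      (n : G)⁻¹ * ((t : G)⁻¹ * u * t) * n := fun n hnT u hu => by
    have h1 := hTc (n * t * n⁻¹ * t⁻¹)
      (mul_mem (conj_mem_of_mem_normalizer hnT htT) (inv_mem htT))
      (by
        rw [map_mul, map_mul, map_mul, map_inv, map_inv, htφ, mul_neg, mul_one, neg_mul,
          mul_inv_cancel, mul_inv_cancel]) u hu
    simp only [Subgroup.coe_mul, Subgroup.coe_inv] at h1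
    calc (t : G)⁻¹ * ((n : G)⁻¹ * u * n) * t
        = ((n : G) * t)⁻¹ * (u * ((n : G) * t * (n : G)⁻¹ * (t : G)⁻¹)) * ((t : G) * n) := by
          group
      _ = _ := by rw [h1]; group
  have htD : ∀ d ∈ D, (t : G)⁻¹ * d * t = d := fun d hd => by
    rw [mul_assoc, hK t htK d hd, inv_mul_cancel_left]
  have hQD' : Q ≤ 𝐍(D) := (normal_subgroupOf_iff_le_normalizer hDQ).1 hDn
  set C := Q ⊓ 𝐂(D) with hC
  have hLC : L ≤ 𝐍(C) := (le_inf hL (hLD.trans (normalizer_le_normalizer_centralizer D))).trans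
    inf_normalizer_le_normalizer_inf
  have hCD : ⁅C, C⁆ ≤ D := (commutator_mono inf_le_left inf_le_left).trans hQD
  have hYC : ∀ y ∈ Q, (t : G)⁻¹ * y * t = y⁻¹ → y ∈ C := fun y hy e => ⟨hy, fun d hd => by
    have h1 := htD _ (conj_mem_of_mem_normalizer (hQD' hy) hd)
    refine (H71.commute_of_commute_sq (hodd y hy) ?_).eq
    calc d * (y * y) = y * (((t : G)⁻¹ * y * t) * ((t : G)⁻¹ * d * t) * ((t : G)⁻¹ * y * t)⁻¹) * y := by
          rw [e, htD d hd]; group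
      _ = y * ((t : G)⁻¹ * (y * d * y⁻¹) * t) * y := by group
      _ = y * y * d := by rw [h1]; group⟩
  have hCE : ∀ u ∈ C, ∀ x ∈ ⁅C, C⁆, x * u = u * x := fun u hu x hx => hu.2 x (hCD hx)
  have hEC : ⁅C, C⁆ ≤ C := H2.commutator_le_of_le_normalizer le_normalizer
  have hLE : L ≤ 𝐍(⁅C, C⁆) := H2.le_normalizer_commutator hLC hLC
  let R : Subgroup G :=
    { carrier := {u | u ∈ C ∧ u * ((t : G)⁻¹ * u * t) ∈ ⁅C, C⁆}
      one_mem' := ⟨one_mem _, by simp⟩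
      mul_mem' := fun {u v} hu hv => ⟨mul_mem hu.1 hv.1, by
        have := mul_mem (mul_mem hu.2 (commutator_mem_commutator
          (inv_mem (conj_mem_of_mem_normalizer' (hLC t.2) hu.1)) hv.1)) hv.2
        convert this using 1
        simp only [commutatorElement_def]; group⟩
      inv_mem' := fun {u} hu => ⟨inv_mem hu.1, by
        have h1 := hCE u hu.1 _ hu.2
        convert inv_mem hu.2 using 1
        rw [← inv_mul_cancel_left u (u * ((t : G)⁻¹ * u * t)), ← h1]; group⟩ }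
  have hRQ : R ≤ Q := fun u hu => hu.1.1
  have hER : ⁅C, C⁆ ≤ R := fun u hu => ⟨hEC hu, mul_mem hu (by rwa [htD u (hCD hu)])⟩
  have hRD : ∀ u ∈ R, u ∈ D → u ∈ ⁅C, C⁆ := fun u hu hd => by
    obtain ⟨k, hk⟩ := hQ ⟨u, hRQ hu⟩
    refine mem_of_pow_mem (congrArg Subtype.val hk) (n := 2)
      (fun h => hp2 ((Nat.prime_dvd_prime_iff_eq hpp.out Nat.prime_two).1 h)) ?_
    have := hu.2
    rwa [htD u hd, ← pow_two] at this
  have hNR : ∀ n ∈ 𝐍(T), ((n : L) : G) ∈ 𝐍(R) := fun n hn =>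
    inv_mem_iff.1 (mem_normalizer_of_conj_mem fun u hu => by
      rw [inv_inv]
      refine ⟨conj_mem_of_mem_normalizer' (hLC n.2) hu.1, ?_⟩
      rw [htn n hn u (hRQ hu)]
      convert conj_mem_of_mem_normalizer' (hLE n.2) hu.2 using 1
      group)
  have hφ1 : ∀ h : L, (h : G) ∈ 𝐂(R) → φ h = 1 := fun h hh => by
    have h1 : ∀ v, (φ h).1.mulVec v = v := fun v => hψ (by
      rw [← hφ]
      refine Subtype.ext (AddMonoidHom.ext fun u => ?_)
      obtain ⟨u, rfl⟩ := Additive.ofMul.surjective u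
      obtain ⟨y, hy, e1, e2⟩ := exists_inverted hodd (hL t.2) htt u.2
      have hyR : y ∈ R := ⟨hYC y hy e1, by rw [e1, mul_inv_cancel]; exact one_mem _⟩
      have hd := hfix _ (mul_mem u.2 hy) e2
      have e3 : σ h u = σ h (u * ⟨y, hy⟩) * (u * ⟨y, hy⟩)⁻¹ * u := Subtype.ext (by
        change (h : G)⁻¹ * u * h = (h : G)⁻¹ * (u * y) * h * (u * y)⁻¹ * u
        rw [mul_assoc _ (u * y : G), mul_assoc _ y, hh y hyR]; group)
      rw [hρ, e3, ofMul_mul, map_add, (ψ v).2 _ (mul_mem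
        (conj_mem_of_mem_normalizer' (hLD h.2) hd) (inv_mem hd)), zero_add])
    refine Subtype.ext (Matrix.toLin'.injective (LinearMap.ext fun v => ?_))
    simpa using h1 v
  obtain ⟨n, hnT, hnφ, hnE⟩ : ∃ n ∈ 𝐍(T), φ n = ι (upT 1) ∧ ((n : L) : G) ∈ 𝐂(⁅C, C⁆) := by
    by_cases hp3 : p = 3
    swap
    · have h3 : (2 : ZMod p) ^ 2 ≠ 1 := fun h => by
        have : ((3 : ℕ) : ZMod p) = 0 := by push_cast; linear_combination h
        exact hp3 ((Nat.prime_dvd_prime_iff_eq hpp.out Nat.prime_three).1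
          ((ZMod.natCast_eq_zero_iff _ _).1 this))
      obtain ⟨k, hk, hkφ⟩ := hlift (upT 1) ((H4.pResidual_eq_top_of_commutator_eq_top
        (Matrix.SL2.commutator_eq_top h2p h3)).ge (mem_top _))
      obtain ⟨n, hn, e1, e2⟩ := hfr k
      exact ⟨n, hn, e1.trans hkφ, centralizer_le hCD (hK n (e2 hk))⟩
    subst hp3
    obtain ⟨k, hk⟩ := hK₀ (e.symm (upT 1)).2
    obtain ⟨n, hn, e1, -⟩ := hfr k
    have hnφ : φ n = ι (upT 1) := e1.trans hk
    obtain ⟨i₁, i₂, i₃, o₁, o₂, o₃, l, l'⟩ := sl23_lin ι hι1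
    obtain ⟨k₁, m₁, f₁⟩ := hlift4 i₁ o₁
    obtain ⟨k₂, m₂, f₂⟩ := hlift4 i₂ o₂
    obtain ⟨k₃, m₃, f₃⟩ := hlift4 i₃ o₃
    have key : ∀ n k₁ k₂ k₃ : L, (φ n).1 = 1 - (φ k₁).1 + (φ k₂).1 - (φ k₃).1 → ∀ u : Q,
        (((σ n u)⁻¹ * (u * (σ k₁ u)⁻¹ * σ k₂ u * (σ k₃ u)⁻¹) : Q) : G) ∈ D :=
      fun n k₁ k₂ k₃ l u => hE _ fun v => by
        simp only [ofMul_mul, ofMul_inv, map_add, map_neg, ← hρ, hφ, l, Matrix.sub_mulVec,
          Matrix.add_mulVec, Matrix.one_mulVec, map_sub, Submodule.coe_sub, Submodule.coe_add,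
          AddMonoidHom.sub_apply, AddMonoidHom.add_apply]
        abel
    refine ⟨n, hn, hnφ, mem_centralizer_commutator inf_le_right hCD (hLC n.2)
      ⟨hLC k₁.2, hK _ m₁⟩ ⟨hLC k₂.2, hK _ m₂⟩ ⟨hLC k₃.2, hK _ m₃⟩
      (fun u hu => key n k₁ k₂ k₃ (by rw [hnφ, f₁, f₂, f₃, l]) ⟨u, hu.1⟩) fun u hu => ?_⟩
    simpa [σ] using key n⁻¹ k₁⁻¹ k₂⁻¹ k₃⁻¹ (by
      rw [map_inv, map_inv, map_inv, map_inv, hnφ, f₁, f₂, f₃, ← map_inv, ← map_inv, ← map_inv,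
        ← map_inv, l']) ⟨u, hu.1⟩
  have hfixn : ∀ u ∈ R, u⁻¹ * ((n : G)⁻¹ * u * n) ∈ D → u * n = n * u := fun u hu h =>
    fix_of_fix_mod (fun u hu => hodd u (hRQ hu)) hER (hNR t (le_normalizer htT))
      (centralizer_le hCD (hK t htK)) hnE (centralizer_le hRQ htt)
      (fun c hc e => hRD c hc (hfix c (hRQ hc) e)) (fun u hu => htn n hnT u (hRQ hu)) hu
      (hRD _ (mul_mem (inv_mem hu) (conj_mem_of_mem_normalizer' (hNR n hnT) hu)) h)
  have htr : H64.SL2.tr (φ n) = 2 := tr_eq_two_of_pow_eq_one p (k := 1)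
    (by rw [hnφ, pow_one, ← map_pow, upT_pow_char, map_one])
  have hq : ⁅⁅R, zpowers (n : G)⁆, zpowers (n : G)⁆ = ⊥ := by
    rw [← zpowers_inv, commutator_eq_bot_iff_le_centralizer]
    refine commutator_zpowers_right_le (le_normalizer fun x hx => ?_) fun u hu x hx => ?_
    · obtain ⟨k, rfl⟩ := mem_zpowers_iff.1 hx
      exact ((Commute.refl _).zpow_left k).eq
    · obtain ⟨k, rfl⟩ := mem_zpowers_iff.1 hx
      let w : Q := (⟨u, hRQ hu⟩ : Q)⁻¹⁻¹ * σ n (⟨u, hRQ hu⟩ : Q)⁻¹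
      have h1 := hfixn w (mul_mem (inv_mem (inv_mem hu))
        (conj_mem_of_mem_normalizer' (hNR n hnT) (inv_mem hu))) (hE (w⁻¹ * σ n w) fun v => by
        rw [hδ', hδ', Matrix.mulVec_mulVec, sub_one_sq_of_tr htr, Matrix.zero_mulVec, map_zero]
        rfl)
      have h2 : (w : G) = ⁅u, (n : G)⁻¹⁆ := by simp [w, σ, commutatorElement_def, mul_assoc]
      rw [← h2]
      exact ((show Commute (w : G) n from h1).inv_right.zpow_right k).symm.eq
  obtain ⟨m₀, hm₀⟩ := hK₀ (e.symm (H64.SL2.mk 0 1 (-1) 0 (by simp))).2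
  obtain ⟨m, hmT, hm, -⟩ := hfr m₀
  replace hm : φ m = ι (H64.SL2.mk 0 1 (-1) 0 (by simp)) := hm.trans hm₀
  obtain ⟨k, hk⟩ := hst R hRQ n (m * n * (m : G)⁻¹) ((closure_le _).2 (by
      rintro _ (rfl | rfl)
      exacts [hNR n hnT, mul_mem (mul_mem (hNR m hmT) (hNR n hnT)) (inv_mem (hNR m hmT))])) hq
    (le_bot_iff.1 (commutator_commutator_conj_le (hNR m hmT)
      (le_normalizer_of_normal (mem_top _)) hq.le)) _
    (mul_mem (subset_closure (.inl rfl)) (subset_closure (.inr rfl)))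
  have h1 := hφ1 ((n * (m * n * m⁻¹)) ^ p ^ k) hk
  rw [map_pow, map_mul, map_mul, map_mul, map_inv, hm, hnφ, ← map_inv, ← map_mul, ← map_mul,
    ← map_mul, ← map_pow, ← map_one ι] at h1
  have h2 := tr_eq_two_of_pow_eq_one p (hι h1)
  simp only [H64.SL2.tr, H64.SL2.ent, upT_00, upT_01, upT_10, upT_11] at h2
  exact one_ne_zero (by linear_combination -h2 : (1 : ZMod p) = 0)

theorem mem_centralizer_of_pairStab [Finite G] [Fact p.Prime] (hp : p ≠ 2)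
    {a b : G} {T : Subgroup G}
    (hT : ∀ l ∈ closure ({a, b} : Set G), (orderOf l).Coprime p → l ∈ 𝐂(T))
    (Q : Subgroup G) (hst : PairStab p Q) (hQ : IsPGroup p Q) (hTQ : T ≤ Q) (hL : closure ({a, b} : Set G) ≤ 𝐍(Q))
    (ha : ⁅⁅Q, zpowers a⁆, zpowers a⁆ ≤ T) (hb : ⁅⁅Q, zpowers b⁆, zpowers b⁆ ≤ T) :
    ∀ l ∈ closure ({a, b} : Set G), (orderOf l).Coprime p → l ∈ 𝐂(Q) := by
  induction Q using WellFoundedLT.induction with | ind Q ih => ?_
  set L := closure ({a, b} : Set G) with hLdef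
  have := H4.pResidual_normal p L
  set K := (pResidual p L).map L.subtype with hK
  have hKle : ∀ Y : Subgroup G, (∀ l ∈ L, (orderOf l).Coprime p → l ∈ 𝐂(Y)) → Y ≤ 𝐂(K) :=
    fun Y hY => le_centralizer_iff.1 (map_le_iff_le_comap.2 (H4.pResidual_le_iff.2 fun g hg =>
      hY g g.2 (by rwa [orderOf_coe])))
  have hLK : L ≤ 𝐍(K) := fun x hx => le_normalizer_map _
    ⟨⟨x, hx⟩, le_normalizer_of_normal (mem_top _), rfl⟩
  set D := Q ⊓ 𝐂(K) with hD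
  have hLD : L ≤ 𝐍(D) := (le_inf hL (hLK.trans (normalizer_le_normalizer_centralizer K))).trans
    inf_normalizer_le_normalizer_inf
  have hTD : T ≤ D := le_inf hTQ (hKle T hT)
  by_contra hcon
  push Not at hcon
  obtain ⟨l, hl, hlp, hlc⟩ := hcon
  have hne : D ≠ Q := fun h => hlc (le_centralizer_iff.1 (h.ge.trans inf_le_right)
    ⟨⟨l, hl⟩, H4.mem_pResidual_of_coprime (by rwa [← orderOf_coe]), rfl⟩)
  have hmax : ∀ Y : Subgroup G, D ≤ Y → Y ≤ Q → L ≤ 𝐍(Y) → Y ≠ Q → Y ≤ D :=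
    fun Y h1 h2 h3 h4 => le_inf h2 (hKle Y (ih Y (lt_of_le_of_ne h2 h4) (hst.mono h2) (hQ.to_le h2)
      (hTD.trans h1) h3 ((commutator_mono (commutator_mono h2 le_rfl) le_rfl).trans ha)
      ((commutator_mono (commutator_mono h2 le_rfl) le_rfl).trans hb)))
  have hF : (frattini Q).map Q.subtype ≤ D := by
    refine le_sup_left.trans (hmax _ le_sup_right (sup_le (map_subtype_le _) inf_le_left) ?_
      fun h => hne (H2.eq_of_sup_frattini inf_le_left h.ge))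
    exact (le_inf (hL.trans (isCharIn_map_subtype (frattini Q)).normalizer_le) hLD).trans
      (normalizer_inf_normalizer_le_normalizer_sup _ _)
  have haL : a ∈ L := subset_closure (by simp)
  have hbL : b ∈ L := subset_closure (by simp)
  exact not_pairStab_of_min hp hQ hL inf_le_left hne hLD
    ((H1.map_subtype_frattini_le_iff hQ).1 hF).1 hmax
    (fun k hk => le_centralizer_iff.1 (inf_le_right : D ≤ 𝐂(K)) ⟨k, hk, rfl⟩)
    ⟨⟨l, hl⟩, hlp, hlc⟩ ⟨a, haL⟩ ⟨b, hbL⟩ (closure_pair_subtype_eq_top rfl haL hbL)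
    (ha.trans hTD) (hb.trans hTD) hst

theorem stabQuot_eq_defs : True := by
  have := @PairStab.eq_1.{0}
  trivial

end H92
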