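import Mathlib
import Cfsg.Agent.Lib.Fusion.Control
import Cfsg.Agent.Lib.Fusion.StabQuot
import Cfsg.Agent.Lib.Fusion.Transport
import Cfsg.Agent.Lib.Fusion.Park

/-!
# `p`-stable fusion systems (helper92)
-/

set_option autoImplicit false

namespace H92

open Cfsg Cfsg.FusionSystem H90 Equiv H93
open scoped commutatorElement

universe u

section
variable {Ω Ω' : Type*} [Group Ω] [Group Ω'] {p : ℕ}

/-- `σ` acts quadratically on `Q`. -/
def QuadP (Q : Subgroup Ω) (σ : Ω → Ω) : Prop := ∀ a ∈ Q, σ (a⁻¹ * σ a) = a⁻¹ * σ a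

/-- `σ` and `τ` generate a `p`-group of permutations of `Q`. -/
def PairP (p : ℕ) (Q : Subgroup Ω) (σ τ : Perm Ω) : Prop :=
  ∀ ρ ∈ Subgroup.closure ({σ, τ} : Set (Perm Ω)), PE p Q ρ

theorem closure_pair_rel {G H : Type*} [Group G] [Group H] {r : G → H → Prop} (h1 : r 1 1)
    (hm : ∀ a a' b b', r a a' → r b b' → r (a * b) (a' * b')) (hi : ∀ a a', r a a' → r a⁻¹ a'⁻¹)
    {a b : G} {a' b' : H} (ha : r a a') (hb : r b b') {z : G}
    (hz : z ∈ Subgroup.closure ({a, b} : Set G)) :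
    ∃ z' ∈ Subgroup.closure ({a', b'} : Set H), r z z' := by
  induction hz using Subgroup.closure_induction with
  | mem x hx =>
    rcases hx with rfl | rfl
    exacts [⟨a', Subgroup.subset_closure (.inl rfl), ha⟩, ⟨b', Subgroup.subset_closure (.inr rfl), hb⟩]
  | one => exact ⟨1, Subgroup.one_mem _, h1⟩
  | mul x y _ _ hx hy =>
    obtain ⟨x', hx', e⟩ := hx
    obtain ⟨y', hy', e'⟩ := hy
    exact ⟨_, Subgroup.mul_mem _ hx' hy', hm _ _ _ _ e e'⟩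
  | inv x _ hx =>
    obtain ⟨x', hx', e⟩ := hx
    exact ⟨_, Subgroup.inv_mem _ hx', hi _ _ e⟩

/-- `f` intertwines `σ` and `σ'` on `Q`. -/
def Tw (Q : Subgroup Ω) (f : Ω → Ω') (σ : Perm Ω) (σ' : Perm Ω') : Prop :=
  σ ∈ stabP Q ∧ ∀ x ∈ Q, σ' (f x) = f (σ x)

variable {Q : Subgroup Ω} {Q' : Subgroup Ω'} {f : Ω → Ω'} {σ τ : Perm Ω} {σ' τ' : Perm Ω'}

theorem tw_one : Tw Q f 1 1 := ⟨Subgroup.one_mem _, fun _ _ => rfl⟩

theorem Tw.mul (h : Tw Q f σ σ') (h' : Tw Q f τ τ') : Tw Q f (σ * τ) (σ' * τ') :=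
  ⟨Subgroup.mul_mem _ h.1 h'.1, fun x hx => by
    rw [Perm.mul_apply, h'.2 x hx, h.2 _ ((h'.1 x).2 hx), Perm.mul_apply]⟩

theorem Tw.inv (h : Tw Q f σ σ') : Tw Q f σ⁻¹ σ'⁻¹ :=
  ⟨Subgroup.inv_mem _ h.1, fun x hx => by
    rw [Perm.inv_eq_iff_eq, h.2 _ ((Subgroup.inv_mem _ h.1 x).2 hx), H91.papply_inv]⟩

theorem Tw.pow (h : Tw Q f σ σ') (n : ℕ) : Tw Q f (σ ^ n) (σ' ^ n) := by
  induction n with
  | zero => exact tw_one
  | succ n ih => rw [pow_succ, pow_succ]; exact ih.mul h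

theorem PairP.of_surj (h : PairP p Q σ τ) (h1 : Tw Q f σ σ') (h2 : Tw Q f τ τ')
    (hf : ∀ y ∈ Q', ∃ x ∈ Q, f x = y) : PairP p Q' σ' τ' := fun ρ' hρ' => by
  obtain ⟨ρ, hρ, e⟩ := closure_pair_rel (r := fun a' a => Tw Q f a a') tw_one
    (fun _ _ _ _ => Tw.mul) (fun _ _ => Tw.inv) h1 h2 hρ'
  obtain ⟨k, hk⟩ := h ρ hρ
  refine ⟨k, fun y hy => ?_⟩
  obtain ⟨x, hx, rfl⟩ := hf y hy
  rw [(e.pow _).2 x hx, hk x hx]

theorem PairP.of_inj (h : PairP p Q' σ' τ') (h1 : Tw Q f σ σ') (h2 : Tw Q f τ τ')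
    (hm : ∀ x ∈ Q, f x ∈ Q') (hf : ∀ x ∈ Q, ∀ y ∈ Q, f x = f y → x = y) : PairP p Q σ τ :=
  fun ρ hρ => by
  obtain ⟨ρ', hρ', e⟩ := closure_pair_rel tw_one (fun _ _ _ _ => Tw.mul) (fun _ _ => Tw.inv) h1 h2 hρ
  obtain ⟨k, hk⟩ := h ρ' hρ'
  exact ⟨k, fun x hx => hf _ (((e.pow _).1 x).2 hx) x hx
    (by rw [← (e.pow _).2 x hx, hk _ (hm x hx)])⟩

theorem QuadP.of_surj (h : QuadP Q σ) (h1 : Tw Q f σ σ') (hf' : MulOn Q f)
    (hf : ∀ y ∈ Q', ∃ x ∈ Q, f x = y) : QuadP Q' σ' := fun y hy => by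
  obtain ⟨x, hx, rfl⟩ := hf y hy
  have h2 := (h1.1 x).2 hx
  rw [h1.2 x hx, ← hf'.inv hx, ← hf' _ (Q.inv_mem hx) _ h2,
    h1.2 _ (Q.mul_mem (Q.inv_mem hx) h2), h x hx]

theorem pairP_cj_iff {a b : Ω} : PairP p Q (cj a) (cj b) ↔
    ∀ z ∈ Subgroup.closure ({a, b} : Set Ω), ∃ k : ℕ, z ^ p ^ k ∈ Subgroup.centralizer (Q : Set Ω) := by
  rw [PairP, ← Set.image_pair, ← MonoidHom.map_closure]
  refine ⟨fun h z hz => ?_, ?_⟩
  · obtain ⟨k, hk⟩ := h _ ⟨z, hz, rfl⟩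
    exact ⟨k, cj_mem_fixP.1 (by rwa [map_pow])⟩
  · rintro h _ ⟨z, hz, rfl⟩
    obtain ⟨k, hk⟩ := h z hz
    exact ⟨k, by rw [← map_pow]; exact cj_mem_fixP.2 hk⟩

theorem commutator_zpowers_le_of {a : Ω} {T : Subgroup Ω} (ha : a ∈ Subgroup.normalizer (Q : Set Ω))
    (hT : T ≤ Q) (hn : Q ≤ Subgroup.normalizer (T : Set Ω)) (ha' : a ∈ Subgroup.normalizer (T : Set Ω))
    (h : ∀ x ∈ Q, (x⁻¹ * cj a x)⁻¹ * cj a (x⁻¹ * cj a x) ∈ T) :
    ⁅⁅Q, Subgroup.zpowers a⁆, Subgroup.zpowers a⁆ ≤ T := by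
  let K : Subgroup Ω :=
    { carrier := {w | w ∈ Q ∧ w⁻¹ * (a * w * a⁻¹) ∈ T}
      one_mem' := ⟨Q.one_mem, by simp⟩
      mul_mem' := fun {v w} hv hw => ⟨Q.mul_mem hv.1 hw.1, by
        have := T.mul_mem ((Subgroup.mem_normalizer_iff''.1 (hn hw.1) _).1 hv.2) hw.2
        convert this using 1; group⟩
      inv_mem' := fun {w} hw => ⟨Q.inv_mem hw.1, by
        have := T.inv_mem ((Subgroup.mem_normalizer_iff.1 (hn hw.1) _).1 hw.2)
        convert this using 1; group⟩ }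
  have hK : a ∈ Subgroup.normalizer (K : Set Ω) := Subgroup.mem_normalizer_iff.2 fun w =>
    and_congr (Subgroup.mem_normalizer_iff.1 ha w) (by
      rw [Subgroup.mem_normalizer_iff.1 ha']
      congr! 1; group)
  have h1 : ⁅Q, Subgroup.zpowers a⁆ ≤ K := H24.commutator_zpowers_right_le hK fun x hx => by
    have := h _ (Q.inv_mem hx)
    have h2 := (Subgroup.mem_normalizer_iff.1 ha _).1 (Q.inv_mem hx)
    simp only [cj_apply, inv_inv] at this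
    exact ⟨by simpa [commutatorElement_def, mul_assoc] using Q.mul_mem hx h2,
      by simpa [commutatorElement_def, mul_assoc] using this⟩
  refine (Subgroup.commutator_mono h1 le_rfl).trans (H24.commutator_zpowers_right_le ha'
    fun w hw => ?_)
  simpa [commutatorElement_def, mul_assoc] using (K.inv_mem hw).2

theorem quadP_cj_iff {a : Ω} (ha : a ∈ Subgroup.normalizer (Q : Set Ω)) :
    QuadP Q (cj a) ↔ ⁅⁅Q, Subgroup.zpowers a⁆, Subgroup.zpowers a⁆ = ⊥ := by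
  refine ⟨fun h => le_bot_iff.1 (commutator_zpowers_le_of ha bot_le Subgroup.le_normalizer_of_normal
    (Subgroup.le_normalizer_of_normal (Subgroup.mem_top a)) fun x hx => by
      rw [h x hx, inv_mul_cancel]; exact Subgroup.one_mem _), fun h x hx => ?_⟩
  have := Subgroup.commutator_eq_bot_iff_le_centralizer.1 h (Subgroup.commutator_mem_commutator
    (Q.inv_mem hx) (Subgroup.mem_zpowers a)) a (Subgroup.mem_zpowers a)
  rw [cj_apply, cj_apply, mul_inv_eq_iff_eq_mul]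
  simpa [commutatorElement_def, mul_assoc] using this

theorem quad_formula_iff (χ : MulAut Q) :
    (∀ a : Q, χ a⁻¹ * a * χ a⁻¹ * χ (χ a) = 1) ↔ QuadP Q (extA Q χ) := by
  have key : ∀ a : Q, χ a⁻¹ * a * χ a⁻¹ * χ (χ a) = 1 ↔ χ (a⁻¹ * χ a) = a⁻¹ * χ a := fun a => by
    rw [map_mul, map_inv, eq_comm (b := a⁻¹ * χ a), ← inv_mul_eq_one (b := (χ a)⁻¹ * χ (χ a))]
    congr! 1; group
  simp only [key]
  refine ⟨fun h a ha => ?_, fun h a => Subtype.ext ?_⟩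
  · rw [extA_of_mem χ ha, extA_of_mem χ (Q.mul_mem (Q.inv_mem ha) (Subtype.prop _))]
    exact congrArg Subtype.val (h ⟨a, ha⟩)
  · have := h a a.2
    rwa [extA_of_mem χ a.2, extA_of_mem χ (Q.mul_mem (Q.inv_mem a.2) (Subtype.prop _))] at this

theorem pairP_extA_iff {α β : MulAut Q} : PairP p Q (extA Q α) (extA Q β) ↔
    IsPGroup p (Subgroup.closure ({α, β} : Set (MulAut Q))) := by
  rw [PairP, ← Set.image_pair, ← MonoidHom.map_closure, H68.isPGroup_iff_forall]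
  refine ⟨fun h z hz => pe_extA_iff.1 (h _ ⟨z, hz, rfl⟩), ?_⟩
  rintro h _ ⟨z, hz, rfl⟩
  exact pe_extA_iff.2 (h z hz)

end

variable {Ω : Type*} [Group Ω] {S T : Subgroup Ω} {F : FusionSystem S} {p : ℕ}

/-- `F` is `p`-stable: two quadratic automorphisms generate a `p`-group. -/
def FStab (F : FusionSystem S) (p : ℕ) : Prop :=
  ∀ Q (σ τ : Perm Ω), Iso F Q Q σ → Iso F Q Q τ → QuadP Q σ → QuadP Q τ → PairP p Q σ τ

/-- `F` is `p`-stable, as in the statements. -/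
def StabS (F : FusionSystem S) (p : ℕ) : Prop :=
  ∀ Q : Subgroup Ω, F.IsFullyNormalized Q → ∀ χ : MulAut Q, χ ∈ F.autGroup Q →
    (∀ a : Q, χ a⁻¹ * a * χ a⁻¹ * χ (χ a) = 1) → χ ∈ pCoreOf p (F.autGroup Q)

theorem FStab.of_sub (h : FStab F p) {E : FusionSystem T} (hE : E.IsSubsystemOf F) : FStab E p :=
  fun Q σ τ hσ hτ => h Q σ τ (hσ.of_sub hE) (hτ.of_sub hE)

theorem tw_conj {P : Subgroup Ω} {χ σ : Perm Ω} (hσ : σ ∈ stabP P) :
    Tw P χ σ (χ * σ * χ⁻¹) := ⟨hσ, fun x _ => by simp⟩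

theorem fStab_iff_stabS [Finite S] [Fact p.Prime] : FStab F p ↔ StabS F p := by
  refine ⟨fun h Q hQ χ hχ hq => ?_, fun h P σ τ hσ hτ hq hq' => ?_⟩
  · have := finite_mulAut_of_le hQ.1
    refine ⟨⟨χ, hχ⟩, H1.le_pCore (H9.isPGroup_normalClosure_of_forall_conj (x := (⟨χ, hχ⟩ :
      F.autGroup Q)) fun g => ?_) (Subgroup.subset_normalClosure rfl), rfl⟩
    rw [quad_formula_iff] at hq
    have hg := iso_extA hQ.1 g.2
    have h1 := h Q _ _ (iso_extA hQ.1 hχ) (iso_extA hQ.1 (g * ⟨χ, hχ⟩ * g⁻¹).2) hq (by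
      simpa only [Subgroup.coe_mul, Subgroup.coe_inv, map_mul, map_inv] using
        hq.of_surj (tw_conj (extA_mem_stabP χ)) hg.homOn fun _ => hg.exists_eq)
    refine ((pairP_extA_iff.1 h1).comap_of_injective _ (F.autGroup Q).subtype_injective).to_le
      ((Subgroup.closure_le _).2 ?_)
    rintro _ (rfl | rfl)
    exacts [Subgroup.subset_closure (.inl rfl), Subgroup.subset_closure (.inr rfl)]
  · obtain ⟨Q, χ, hχ, hQ⟩ := exists_fullyNormalized F hσ.le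
    obtain ⟨α, hα, e⟩ := (hχ.conj hσ).exists_aut
    obtain ⟨β, hβ, e'⟩ := (hχ.conj hτ).exists_aut
    have t1 : Tw P χ σ (extA Q α) := ⟨hσ.mem_stabP, fun x hx => by simp [e _ (hχ.mem hx)]⟩
    have t2 : Tw P χ τ (extA Q β) := ⟨hτ.mem_stabP, fun x hx => by simp [e' _ (hχ.mem hx)]⟩
    have h1 := h Q hQ α hα ((quad_formula_iff α).2
      (hq.of_surj t1 hχ.homOn fun _ => hχ.exists_eq))
    have h2 := h Q hQ β hβ ((quad_formula_iff β).2
      (hq'.of_surj t2 hχ.homOn fun _ => hχ.exists_eq))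
    refine (pairP_extA_iff.2 ((H1.isPGroup_pCoreOf (F.autGroup Q)).to_le
      ((Subgroup.closure_le _).2 ?_))).of_inj
      t1 t2 (fun _ => hχ.mem) fun _ _ _ _ => χ.injective.eq_iff.1
    rintro _ (rfl | rfl)
    exacts [h1, h2]

section real
variable {G : Type*} [Group G] {ι : S →* G}

theorem tw_cj {Q : Subgroup Ω} {σ : Perm Ω} {g : G} (hσ : σ ∈ stabP Q)
    (e : ∀ x ∈ Q, ext ι (σ x) = g * ext ι x * g⁻¹) : Tw Q (ext ι) σ (cj g) :=
  ⟨hσ, fun x hx => (e x hx).symm⟩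

theorem exists_tw_cj (hF : F.IsRealizedBy ι) {Q : Subgroup Ω} {σ : Perm Ω} (hσ : Iso F Q Q σ) :
    ∃ g ∈ Subgroup.normalizer (imageAlong ι Q : Set G), Tw Q (ext ι) σ (cj g) := by
  obtain ⟨α, hα, e⟩ := hσ.exists_aut
  obtain ⟨g, hg⟩ := (mem_autGroup_real hF hσ.le).1 hα
  obtain ⟨hg', -⟩ := eq_normAct hF.1 hσ.le hg
  exact ⟨g, hg', tw_cj hσ.mem_stabP fun x hx => by rw [← e x hx, extA_of_mem α hx, hg]⟩

theorem exists_iso_tw (hF : F.IsRealizedBy ι) {Q : Subgroup Ω} (hQ : Q ≤ S) {g : G}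
    (hg : g ∈ Subgroup.normalizer (imageAlong ι Q : Set G)) :
    ∃ σ, Iso F Q Q σ ∧ Tw Q (ext ι) σ (cj g) :=
  ⟨_, iso_extA hQ ((range_normAct hF hQ).le ⟨⟨g, hg⟩, rfl⟩), tw_cj (extA_mem_stabP _) fun x hx => by
    rw [extA_of_mem _ hx, ext_normAct]⟩

theorem QuadP.of_inj {Ω' : Type*} [Group Ω'] {Q : Subgroup Ω} {Q' : Subgroup Ω'} {f : Ω → Ω'}
    {σ : Perm Ω} {σ' : Perm Ω'} (h : QuadP Q' σ') (h1 : Tw Q f σ σ') (hf' : MulOn Q f)
    (hm : ∀ x ∈ Q, f x ∈ Q') (hf : ∀ x ∈ Q, ∀ y ∈ Q, f x = f y → x = y) : QuadP Q σ :=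
  fun x hx => by
  have h2 := Q.mul_mem (Q.inv_mem hx) ((h1.1 x).2 hx)
  refine hf _ ((h1.1 _).2 h2) _ h2 ?_
  rw [← h1.2 _ h2, hf' _ (Q.inv_mem hx) _ ((h1.1 x).2 hx), hf'.inv hx, ← h1.2 x hx, h _ (hm x hx)]

theorem fStab_iff_pairStab (hF : F.IsRealizedBy ι) : FStab F p ↔ PairStab p ι.range := by
  refine ⟨fun h Q' hQ' a b hn ha hb => pairP_cj_iff.1 ?_, fun h Q σ τ hσ hτ hq hq' => ?_⟩
  · obtain ⟨Q, hQ, rfl⟩ : ∃ Q ≤ S, imageAlong ι Q = Q' :=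
      ⟨_, preimageAlong_le _, imageAlong_preimageAlong hQ'⟩
    have ha' := hn (Subgroup.subset_closure (.inl rfl))
    have hb' := hn (Subgroup.subset_closure (.inr rfl))
    obtain ⟨σ, hσ, t1⟩ := exists_iso_tw hF hQ ha'
    obtain ⟨τ, hτ, t2⟩ := exists_iso_tw hF hQ hb'
    have key : ∀ {σ g}, QuadP (imageAlong ι Q) (cj g) → Tw Q (ext ι) σ (cj g) → QuadP Q σ :=
      fun h t => h.of_inj t ((mulOn_ext ι).mono hQ) (fun _ => ext_mem_imageAlong hQ)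
        fun _ hx _ hy => ext_inj hF.1 (hQ hx) (hQ hy)
    exact (h Q σ τ hσ hτ (key ((quadP_cj_iff ha').2 ha) t1) (key ((quadP_cj_iff hb').2 hb) t2)).of_surj
      t1 t2 fun _ => (mem_imageAlong hQ).1
  · have hQ := hσ.le
    obtain ⟨a, ha, t1⟩ := exists_tw_cj hF hσ
    obtain ⟨b, hb, t2⟩ := exists_tw_cj hF hτ
    refine (pairP_cj_iff.2 (h _ (imageAlong_le_range Q) a b ((Subgroup.closure_le _).2 ?_)
      ((quadP_cj_iff ha).1 (hq.of_surj t1 ((mulOn_ext ι).mono hQ) fun _ => (mem_imageAlong hQ).1))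
      ((quadP_cj_iff hb).1 (hq'.of_surj t2 ((mulOn_ext ι).mono hQ)
        fun _ => (mem_imageAlong hQ).1)))).of_inj t1 t2 (fun _ => ext_mem_imageAlong hQ)
        fun _ hx _ hy => ext_inj hF.1 (hQ hx) (hQ hy)
    rintro _ (rfl | rfl)
    exacts [ha, hb]

theorem pairStab_iff [Finite G] [Fact p.Prime] (P : Sylow p G) :
    PairStab p (P : Subgroup G) ↔ IsNormalizerPStable p G := by
  refine ⟨fun h => H25.ZJ.normalizerPStable_of_pairs fun Q hQ a b hn ha hb => pairP_cj_iff.1 ?_,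
    fun h Q hQ a b hn ha hb z hz => ?_⟩
  · obtain ⟨g, -, hg⟩ := H4.exists_conj_le_sylow_of_le P le_top hQ le_top
    have ha' := hn (Subgroup.subset_closure (.inl rfl))
    have hb' := hn (Subgroup.subset_closure (.inr rfl))
    have h1 : ∀ c ∈ Subgroup.normalizer (Q : Set G), g * c * g⁻¹ ∈ Subgroup.normalizer
        (Q.map (MulAut.conj g).toMonoidHom : Set G) := fun c hc => Subgroup.le_normalizer_map _
      ⟨c, hc, rfl⟩
    have t : ∀ c ∈ Subgroup.normalizer (Q : Set G), Tw Q (MulAut.conj g) (cj c) (cj (g * c * g⁻¹)) :=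
      fun c hc => ⟨cj_mem_stabP.2 hc, fun x _ => by
        simp only [cj_apply, MulAut.conj_apply]; group⟩
    have h2 : ∀ c ∈ Subgroup.normalizer (Q : Set G), QuadP Q (cj c) →
        QuadP (Q.map (MulAut.conj g).toMonoidHom) (cj (g * c * g⁻¹)) := fun c hc h =>
      h.of_surj (t c hc) (fun _ _ _ _ => map_mul _ _ _) fun _ h => h
    refine (pairP_cj_iff.2 (h _ (Subgroup.map_le_iff_le_comap.2 hg) _ _
      ((Subgroup.closure_le _).2 ?_) ((quadP_cj_iff (h1 a ha')).1 (h2 a ha' ((quadP_cj_iff ha').2 ha)))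
      ((quadP_cj_iff (h1 b hb')).1 (h2 b hb' ((quadP_cj_iff hb').2 hb))))).of_inj (t a ha') (t b hb')
      (fun x hx => ⟨x, hx, rfl⟩) fun _ _ _ _ => (MulAut.conj g).injective.eq_iff.1
    rintro _ (rfl | rfl)
    exacts [h1 _ ha', h1 _ hb']
  · have ha' := hn (Subgroup.subset_closure (.inl rfl))
    have hb' := hn (Subgroup.subset_closure (.inr rfl))
    let π := QuotientGroup.mk' ((Subgroup.centralizer (Q : Set G)).subgroupOf
      (Subgroup.normalizer (Q : Set G)))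
    have h1 : Subgroup.closure ({a, b} : Set G) ≤ ((pCore p _).comap π).map
        (Subgroup.normalizer (Q : Set G)).subtype := (Subgroup.closure_le _).2 (by
      rintro _ (rfl | rfl)
      exacts [⟨⟨_, ha'⟩, h Q (P.isPGroup'.to_le hQ) _ ha' ha, rfl⟩,
        ⟨⟨_, hb'⟩, h Q (P.isPGroup'.to_le hQ) _ hb' hb, rfl⟩])
    obtain ⟨z, hz', rfl⟩ := h1 hz
    obtain ⟨k, hk⟩ := H1.isPGroup_pCore (p := p) ⟨π z, Subgroup.mem_comap.1 hz'⟩
    have h2 : π (z ^ p ^ k) = 1 := (map_pow π z _).trans (congrArg Subtype.val hk)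
    exact ⟨k, (QuotientGroup.eq_one_iff (z ^ p ^ k)).1 h2⟩

end real

variable [Finite S] [Fact p.Prime]

/-- For odd `p`, `p`-stability passes to quotients by central subgroups. -/
theorem FStab.quot (h : FStab F p) (hp : p ≠ 2) (hS : IsPGroup p S) {Ω' : Type*} [Group Ω']
    {S' : Subgroup Ω'} {F' : FusionSystem S'} {θ : S →* Ω'} (hq : H91.Quot F F' θ)
    (hK : F.IsCentral (H91.kerIn θ)) : FStab F' p := fun Q' σ' τ' hσ' hτ' q1 q2 => by
  obtain ⟨σ, hσ, e1⟩ := hq.lifts.iso hq.range hσ'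
  obtain ⟨τ, hτ, e2⟩ := hq.lifts.iso hq.range hτ'
  refine PairP.of_surj ?_ ⟨hσ.mem_stabP, e1⟩ ⟨hτ.mem_stabP, e2⟩
    fun _ => hq.exists_mem_preimage hσ'.le
  have hKQ := H91.kerIn_le_preimage θ Q'
  have hQ' : ∀ x ∈ preimageAlong θ Q', H91.ex θ x ∈ Q' := fun _ h => (H91.mem_preimageAlong.1 h).2
  generalize preimageAlong θ Q' = Q at *
  have hQ := hσ.le
  have hKS := hKQ.trans hQ
  obtain ⟨G, _, _, ι, hG⟩ := Park.exists_finite_realization hS F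
  obtain ⟨a, ha, t1⟩ := exists_tw_cj hG hσ
  obtain ⟨b, hb, t2⟩ := exists_tw_cj hG hτ
  have hn : Subgroup.closure ({a, b} : Set G) ≤ Subgroup.normalizer (imageAlong ι Q : Set G) :=
    (Subgroup.closure_le _).2 (by rintro _ (rfl | rfl); exacts [ha, hb])
  have hc : Subgroup.normalizer (imageAlong ι Q : Set G) ≤
      Subgroup.centralizer (imageAlong ι (H91.kerIn θ) : Set G) := fun g hg y hy => by
    obtain ⟨x, hx, rfl⟩ := (mem_imageAlong hKS).1 hy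
    obtain ⟨ρ, hρ, t⟩ := exists_iso_tw hG hQ hg
    have := t.2 x (hKQ hx)
    rw [map_eq_of_mem_center hρ.map (hKQ hx) (H91.IsCentral.le_center' hK hx), cj_apply,
      mul_inv_eq_iff_eq_mul] at this
    exact this.symm
  have hle : imageAlong ι (H91.kerIn θ) ≤ imageAlong ι Q := H91.imageAlong_mono ι hKQ
  have key : ∀ {σ σ' g}, Iso F Q Q σ → (∀ x ∈ Q, σ' (H91.ex θ x) = H91.ex θ (σ x)) → QuadP Q' σ' →
      g ∈ Subgroup.normalizer (imageAlong ι Q : Set G) → Tw Q (ext ι) σ (cj g) →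
      ⁅⁅imageAlong ι Q, Subgroup.zpowers g⁆, Subgroup.zpowers g⁆ ≤ imageAlong ι (H91.kerIn θ) :=
    fun {σ σ' g} hσ e q hg t => commutator_zpowers_le_of hg hle
      ((Subgroup.le_normalizer.trans hc).trans (Subgroup.centralizer_le_normalizer _))
      (Subgroup.centralizer_le_normalizer _ (hc hg)) fun y hy => by
      obtain ⟨x, hx, rfl⟩ := (mem_imageAlong hQ).1 hy
      have h1 := Q.mul_mem (Q.inv_mem hx) (hσ.mem hx)
      rw [t.2 x hx, ← ext_inv (hQ hx), ← ext_mul (hQ (Q.inv_mem hx)) (hQ (hσ.mem hx)), t.2 _ h1,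
        ← ext_inv (hQ h1), ← ext_mul (hQ (Q.inv_mem h1)) (hQ (hσ.mem h1))]
      refine ext_mem_imageAlong hKS ((H91.ex_eq_iff (hQ h1) (hQ (hσ.mem h1))).1 ?_)
      rw [← e _ h1, H91.ex_inv_mul θ (hQ hx) (hQ (hσ.mem hx)), ← e x hx, q _ (hQ' x hx)]
  refine (pairP_cj_iff.2 fun z hz => ?_).of_inj t1 t2 (fun _ => ext_mem_imageAlong hQ)
    fun _ hx _ hy => ext_inj hG.1 (hQ hx) (hQ hy)
  obtain ⟨k, hk⟩ := H24.exists_pow_coprime_orderOf p z
  exact ⟨k, mem_centralizer_of_pairStab hp (fun l hl _ => hc (hn hl)) _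
    (((fStab_iff_pairStab hG).1 h).mono (imageAlong_le_range Q))
    (isPGroup_imageAlong (hS.to_le hQ)) hle hn (key hσ e1 q1 ha t1) (key hτ e2 q2 hb t2) _
    (Subgroup.pow_mem _ hz _) hk⟩

theorem QuadP.pe (hS : IsPGroup p S) {Q : Subgroup Ω} {σ : Perm Ω} (h : QuadP Q σ)
    (hσ : Iso F Q Q σ) : PE p Q σ :=
  pe_of_stab hS hσ.le hσ.homOn (fun _ => hσ.mem) (U := fixIn hσ.homOn) (fun _ _ h => h.2)
    fun x hx => ⟨Q.mul_mem (Q.inv_mem hx) (hσ.mem hx), h x hx⟩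

/-- Failure of `p`-stability is seen in the normalizer of a noncyclic centric radical subgroup. -/
theorem exists_not_fStab_nsys (hS : IsPGroup p S) (hF : F.IsSaturated p) (h : ¬ FStab F p) :
    ∃ (R : Subgroup Ω) (hR : F.IsFullyNormalized R), F.IsCentric R ∧ F.IsRadical p R ∧
      ¬ IsCyclic R ∧ ¬ FStab (nsys F R hR.1) p := by
  simp only [FStab, not_forall] at h
  obtain ⟨Q, σ, τ, hσ, hτ, q1, q2, h⟩ := h
  obtain ⟨R, hR, hc, hr, Q, σ, τ, hQ, hσ, hτ, s1, s2, q1, q2, h⟩ := H92.exists_centric_radical hS hF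
    (C := fun R => ∃ (Q : Subgroup Ω) (σ τ : Perm Ω), Q ≤ R ∧ Iso F R R σ ∧ Iso F R R τ ∧
      σ ∈ stabP Q ∧ τ ∈ stabP Q ∧ QuadP Q σ ∧ QuadP Q τ ∧ ¬ PairP p Q σ τ)
    (by
      rintro R R' χ hχ ⟨Q, σ, τ, hQ, hσ, hτ, s1, s2, q1, q2, h⟩
      have hi := hχ.restrict hQ
      have hs : ∀ σ, Iso F R R σ → σ ∈ stabP Q → χ * σ * χ⁻¹ ∈ stabP (im χ Q) := fun σ hσ s =>
        (hi.conj ⟨hσ.1.mono hQ, s⟩).mem_stabP
      exact ⟨im χ Q, _, _, im_le_iff.2 fun x hx => hχ.mem (hQ hx), hχ.conj hσ, hχ.conj hτ,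
        hs σ hσ s1, hs τ hτ s2, q1.of_surj (tw_conj s1) hi.homOn fun _ => hi.exists_eq,
        q2.of_surj (tw_conj s2) hi.homOn fun _ => hi.exists_eq, fun h' => h (h'.of_inj (tw_conj s1)
          (tw_conj s2) (fun _ => hi.mem) fun _ _ _ _ => χ.injective.eq_iff.1)⟩)
    (by
      rintro R R' hle hext ⟨Q, σ, τ, hQ, hσ, hτ, s1, s2, q1, q2, h⟩
      obtain ⟨σ', hσ', e1⟩ := hext σ hσ
      obtain ⟨τ', hτ', e2⟩ := hext τ hτ
      have t1 : Tw Q id σ σ' := ⟨s1, fun x hx => e1 x (hQ hx)⟩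
      have t2 : Tw Q id τ τ' := ⟨s2, fun x hx => e2 x (hQ hx)⟩
      exact ⟨Q, σ', τ', hQ.trans hle, hσ', hτ', mem_stabP_congr s1 t1.2, mem_stabP_congr s2 t2.2,
        q1.of_surj t1 (fun _ _ _ _ => rfl) fun y hy => ⟨y, hy, rfl⟩,
        q2.of_surj t2 (fun _ _ _ _ => rfl) fun y hy => ⟨y, hy, rfl⟩,
        fun h' => h (h'.of_inj t1 t2 (fun _ h => h) fun _ _ _ _ h => h)⟩) hσ.le
    ⟨Q, σ, τ, le_rfl, hσ, hτ, hσ.mem_stabP, hτ.mem_stabP, q1, q2, h⟩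
  have hi : ∀ σ, Iso F R R σ → σ ∈ stabP Q → Iso (nsys F R hR.1) Q Q σ := fun σ hσ s =>
    ⟨map_nsys.2 (nmap_of_map hσ.map hQ le_rfl (hQ.trans Subgroup.le_normalizer) fun _ => hσ.mem), s⟩
  refine ⟨R, hR, hc, hr, fun hcyc => h ?_, fun h' => h (h' Q σ τ (hi σ hσ s1) (hi τ hτ s2) q1 q2)⟩
  have : IsCyclic Q := Subgroup.isCyclic_of_le hQ
  have hσ' : Iso F Q Q σ := ⟨hσ.1.mono hQ, s1⟩
  have hτ' : Iso F Q Q τ := ⟨hτ.1.mono hQ, s2⟩
  obtain ⟨α, -, e1⟩ := hσ'.exists_aut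
  obtain ⟨β, -, e2⟩ := hτ'.exists_aut
  refine (pairP_extA_iff.2 ?_).of_inj (f := id) ⟨s1, e1⟩ ⟨s2, e2⟩ (fun _ h => h) fun _ _ _ _ h => h
  obtain ⟨i, hi⟩ := (q1.pe hS hσ').pow_eq_one e1
  obtain ⟨j, hj⟩ := (q2.pe hS hτ').pow_eq_one e2
  have : (Subgroup.zpowers β).Normal := ⟨fun x hx g => by
    rwa [(IsCyclic.mulAutMulEquiv Q).injective (a₁ := g * x) (a₂ := x * g)
      (by rw [map_mul, map_mul, mul_comm]), mul_inv_cancel_right]⟩
  rw [Set.insert_eq, Subgroup.closure_union, ← Subgroup.zpowers_eq_closure,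
    ← Subgroup.zpowers_eq_closure]
  exact (H9.isPGroup_zpowers_of_pow hi).to_sup_of_normal_right (H9.isPGroup_zpowers_of_pow hj)

/-- A class of systems closed under subsystems and central quotients in whose constrained members
`W(S)` is normal consists of constrained systems. -/
theorem isConstrained_of_class {W : ∀ (Q : Type u) [Group Q], Subgroup Q} (hW : IsCharPFunctor p W)
    {𝒞 : ∀ (Ω : Type u) [Group Ω] (S : Subgroup Ω), FusionSystem S → Prop}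
    (h1 : ∀ (Ω : Type u) [Group Ω] (S T : Subgroup Ω) (F : FusionSystem S) (E : FusionSystem T),
      E.IsSubsystemOf F → 𝒞 Ω S F → 𝒞 Ω T E)
    (h2 : ∀ (Ω Ω' : Type u) [Group Ω] [Group Ω'] (S : Subgroup Ω) (S' : Subgroup Ω') [Finite S]
      (F : FusionSystem S) (F' : FusionSystem S') (θ : S →* Ω'), IsPGroup p S → F.IsSaturated p →
      H91.Quot F F' θ → F.IsCentral (H91.kerIn θ) → 𝒞 Ω S F → 𝒞 Ω' S' F')
    (h3 : ∀ (Ω : Type u) [Group Ω] (S : Subgroup Ω) [Finite S] (F : FusionSystem S), IsPGroup p S →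
      F.IsConstrained p → 𝒞 Ω S F → F.IsNormal (inducedFunctor W S))
    {Ω : Type u} [Group Ω] {S : Subgroup Ω} [Finite S] {F : FusionSystem S}
    (hS : IsPGroup p S) (hF : F.IsSaturated p) (hc : 𝒞 Ω S F) : F.IsConstrained p := by
  revert hS hF hc
  refine sat_induction (C := fun Ω _ S F => IsPGroup p S → F.IsSaturated p → 𝒞 Ω S F →
    F.IsConstrained p) (fun Ω _ S _ F ih ihq hS hF hc => ?_) Ω S F
  have hQ := H91.isNormal_core F
  by_cases hb : S = ⊥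
  · exact isConstrained_of_le hF ((sup_le hQ.1 (centralizerIn_le S _)).trans (hb.le.trans bot_le))
  by_cases h0 : F.core = ⊥
  · have h0' := (nSub_iff (F := F) (iF_le W S)).2 (sub_refl _)
    refine absurd (H91.IsNormal.le_core' (isNormal_of_nmap (iF_le W S) fun P f hf' =>
      (map_nsys (hQ := iF_le W S)).1 (hf'.of_sub (sub_of_push hS hF (not_center_le_core hS hb h0)
        fun X hX hXc h => (nSub_iff hX.1).2 ((nSub_iF hW hS h0' hX.1
          (iF_not_le_core hW hS h0 hX.1 hXc) h).sub ?_))))) fun h =>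
      iF_ne_bot hW hS hb (eq_bot_iff.2 (h.trans h0.le))
    have hS' := hS.to_le (normalizerIn_le S X)
    have hc' := h1 _ _ _ _ _ (nsys_sub F hX.1) hc
    have := finite_of_le (normalizerIn_le S X)
    exact h3 _ _ _ hS' (ih _ _ (nsys_sub F hX.1) (not_sub_nsys hX.1 hXc) hS'
      (isSaturated_nsys hS hF hX) hc') hc'
  by_cases hC : F.IsSubsystemOf (csys F F.core hQ.1)
  · have hZ := isCentral_of_cmap hQ.1 fun P f hf => map_csys.1 (hf.of_sub hC)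
    obtain ⟨Ω', _, S', F', θ, hq, hθ⟩ := exists_quot (H91.IsNormal.stronglyClosed' hQ)
    have := hq.finite
    exact hq.isConstrained_of hS (hθ ▸ hZ) hF (ihq _ _ F' (quot_card_lt hq (hθ ▸ h0))
      (hq.isPGroup hS) (hq.isSaturated hS hF) (h2 _ _ _ _ _ _ θ hS hF hq (hθ ▸ hZ) hc))
  have hn := H91.isNormalIn_iff.1 (H91.isNormalIn_csys hS hF hQ)
  have := finite_of_le (centralizerIn_le S F.core)
  have h4 := H91.isConstrained_iff_core.1 (ih _ _ (csys_sub F hQ.1) hC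
    (hS.to_le (centralizerIn_le S _)) hn.1 (h1 _ _ _ _ _ (csys_sub F hQ.1) hc))
  have h5 := hn.2.2.1.core_le hS hF
  exact isConstrained_of_le hF (sup_le le_rfl fun x hx =>
    h5 (h4.2 ⟨hx, Subgroup.centralizer_le h5 hx.2⟩))

theorem FStab.isNormal_ZJ_of_isConstrained (h : FStab F p) (hp : p ≠ 2) (hS : IsPGroup p S)
    (hF : F.IsConstrained p) : F.IsNormal (centerThompsonAOf S) := by
  obtain ⟨G, _, ι, hG⟩ := exists_model hS hF
  have := hG.1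
  obtain ⟨T, hT⟩ := hG.2.2.1
  rw [← iF_ZJ]
  refine isNormal_of_image hG.2.1 (iF_le _ S) ?_
  rw [iF_image (isCharPFunctor_ZJ p) hS hG.2.1.1, ← hT, iF_ZJ]
  exact H25.ZJ.centerThompsonAOf_normal hp T hG.2.2.2 (H71.stableFor_of_normalizerPStable
    ((pairStab_iff T).1 (hT ▸ (fStab_iff_pairStab hG.2.1).1 h)) _)

/-- For odd `p`, a `p`-stable saturated fusion system is constrained. -/
theorem FStab.isConstrained (h : FStab F p) (hp : p ≠ 2) (hS : IsPGroup p S)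
    (hF : F.IsSaturated p) : F.IsConstrained p :=
  isConstrained_of_class (isCharPFunctor_ZJ p) (𝒞 := fun _ _ _ F => FStab F p)
    (fun _ _ _ _ _ _ hE h => h.of_sub hE) (fun _ _ _ _ _ _ _ _ _ _ hS _ hq hK h => h.quot hp hS hq hK)
    (fun _ _ S _ _ hS hF h => (iF_ZJ S).symm ▸ h.isNormal_ZJ_of_isConstrained hp hS hF) hS hF h

omit [Finite S] [Fact p.Prime] in
theorem stable_eq_defs : True := by
  have := @QuadP.eq_1.{0}
  have := @PairP.eq_1.{0}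
  have := @Tw.eq_1.{0, 0}
  have := @FStab.eq_1.{0}
  have := @StabS.eq_1.{0}
  trivial

end H92
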