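import Mathlib
import Cfsg.Agent.Lib.Fusion.AutSys

/-!
# A nilpotency criterion by weakly embedded subgroups of one order (helper92)
-/

set_option autoImplicit false

namespace H92

open Cfsg Cfsg.FusionSystem H90 Equiv H93

universe u

variable {Ω : Type u} [Group Ω] {S T : Subgroup Ω} {F : FusionSystem S} {p d : ℕ}

/-- Automorphisms normalizing a subgroup of order `d` are `p`-elements. -/
def NPE (F : FusionSystem S) (p d : ℕ) : Prop :=
  ∀ (H P : Subgroup Ω) (σ : Perm Ω), Nat.card H = d → H ≤ P →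
    P ≤ Subgroup.normalizer (H : Set Ω) → Iso F P P σ → (∀ x ∈ H, σ x ∈ H) → PE p P σ

/-- Subgroups of order `d` are weakly embedded. -/
def WEmb (F : FusionSystem S) (d : ℕ) : Prop :=
  ∀ Q : Subgroup Ω, Q ≤ S → Nat.card Q = d → ∃ P : Subgroup Ω,
    F.StronglyClosed P ∧ F.StronglyClosed (Q ⊔ P) ∧ F.StronglyClosed (Q ⊓ P)

theorem NPE.of_sub (h : NPE F p d) {E : FusionSystem T} (hE : E.IsSubsystemOf F) : NPE E p d :=
  fun H P σ h1 h2 h3 h4 => h H P σ h1 h2 h3 (h4.of_sub hE)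

theorem WEmb.of_sub (h : WEmb F d) {E : FusionSystem T} (hE : E.IsSubsystemOf F) : WEmb E d := by
  intro Q hQ hc
  obtain ⟨P, h1, h2, h3⟩ := h Q (hQ.trans (sub_le hE)) hc
  refine ⟨P ⊓ T, H91.stronglyClosed_sub hE h1, ?_, ?_⟩
  · rw [inf_comm, ← H68.inf_sup_of_le_normalizer
      ((hQ.trans (sub_le hE)).trans (le_normalizer_of_stronglyClosed h1)) hQ, inf_comm]
    exact H91.stronglyClosed_sub hE h2
  · rw [← inf_assoc]
    exact H91.stronglyClosed_sub hE h3

section Quot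

variable {Ω' : Type*} [Group Ω'] {S' : Subgroup Ω'} {F' : FusionSystem S'} {θ : S →* Ω'}

theorem quot_card_preimage (h : H91.Quot F F' θ) {X : Subgroup Ω'} (hX : X ≤ S') :
    Nat.card (preimageAlong θ X) = Nat.card X * Nat.card (H91.kerIn θ) := by
  rw [H91.card_preimageAlong (h.range ▸ hX), H91.kerIn,
    Subgroup.card_map_of_injective S.subtype_injective]

theorem WEmb.quot (h : WEmb F d) (hq : H91.Quot F F' θ) {d' : ℕ}
    (e : d' * Nat.card (H91.kerIn θ) = d) : WEmb F' d' := by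
  intro Q hQ hc
  obtain ⟨P, h1, h2, h3⟩ := h _ (H91.preimageAlong_le θ Q) (by rw [quot_card_preimage hq hQ, hc, e])
  refine ⟨_, hq.stronglyClosed_image h1, ?_, ?_⟩
  · have := hq.stronglyClosed_image h2
    rwa [H91.imageAlong_sup θ (H91.preimageAlong_le _ _) h1.1, hq.image_preimage hQ] at this
  · convert hq.stronglyClosed_image h3 using 1
    ext y
    rw [H91.mem_imageAlong' h3.1, Subgroup.mem_inf, H91.mem_imageAlong' h1.1]
    exact ⟨fun ⟨hy, x, hx, e⟩ => ⟨x, ⟨H91.mem_preimageAlong.2 ⟨h1.1 hx, e ▸ hy⟩, hx⟩, e⟩,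
      fun ⟨x, hx, e⟩ => ⟨e ▸ (H91.mem_preimageAlong.1 hx.1).2, x, hx.2, e⟩⟩

theorem NPE.quot [Finite S] (h : NPE F p d) (hq : H91.Quot F F' θ) {d' : ℕ}
    (e : d' * Nat.card (H91.kerIn θ) = d) : NPE F' p d' := by
  intro H P σ' h1 h2 h3 h4 h5
  obtain ⟨σ, hσ, e'⟩ := hq.lifts.iso hq.range h4
  obtain ⟨k, hk⟩ := h (preimageAlong θ H) _ σ
    (by rw [quot_card_preimage hq (h2.trans h4.le), h1, e]) (H91.preimageAlong_mono θ h2)
    (fun x hx => H91.mem_normalizer_preimage (hσ.le hx) (h3 (H91.mem_preimageAlong.1 hx).2)) hσ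
    fun x hx => H91.mem_preimageAlong.2 ⟨hσ.map.mem (H91.preimageAlong_mono θ h2 hx),
      e' x (H91.preimageAlong_mono θ h2 hx) ▸ h5 _ (H91.mem_preimageAlong.1 hx).2⟩
  refine ⟨k, fun y hy => ?_⟩
  obtain ⟨x, hx, rfl⟩ := hq.exists_mem_preimage h4.le hy
  rw [H91.pow_ex_eq (fun x hx => hσ.mem hx) e' _ x hx, hk x hx]

end Quot

variable [Finite S] [Fact p.Prime] (hS : IsPGroup p S) (hF : F.IsSaturated p)
include hS hF

theorem nPE_of_normalizer (h : ∀ H : Subgroup Ω, F.IsFullyNormalized H → Nat.card H = d →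
    ∀ N : FusionSystem (normalizerIn S H), F.IsNormalizerSystem H N → ∀ P : Subgroup Ω,
      N.Hom P = (innerFusionSystem (normalizerIn S H)).Hom P) : NPE F p d := by
  intro H P σ h1 h2 h3 h4 h5
  obtain ⟨H', τ, hn, hτ, hi, hm, -⟩ := exists_normalizer_map hS hF (h2.trans h4.le)
  have hP : P ≤ normalizerIn S H := le_inf h4.le h3
  have h6 := (hτ.mono hP).iso
  obtain ⟨-, g, hg, e⟩ := map_inner.1 ((hom_eq_iff_map.1 (h H' hn (hi.card_eq ▸ h1) _
    (isNormalizerSystem_nsys F hn.1) _) _).1 (map_nsys.2 (nmap_of_map (h6.conj h4).map le_rfl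
      (hi.im_eq ▸ im_mono _ h2) (im_le_iff.2 fun x hx => (hm x (hP hx)).2)
      fun x hx => hi.mem (h5 _ (hi.inv_mem hx)))))
  have := ((pe_cj hS hg.1 _).congr (fun y hy => by
    rw [show cj g y = _ from (e y hy).symm]; exact (h6.conj h4).mem hy) e).conj (χ := τ⁻¹) (L := P)
    fun y hy => h6.mem hy
  rwa [show τ⁻¹ * (τ * σ * τ⁻¹) * τ⁻¹⁻¹ = σ by group] at this

theorem hyp_le_of_pe {U : Subgroup Ω} (hU : F.StronglyClosed U)
    (h : ∀ P σ, U ≤ P → Iso F P P σ → PE p P σ) : F.hyperfocalSubgroup p ≤ U := by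
  refine H91.hyp_le_iff.2 fun P σ n hσ hn e x hx => ?_
  obtain ⟨τ, m, hτ, hm, e1, e2⟩ := H91.exists_p'_sup_mod hS hF hU hσ hn e
  have := QuotientGroup.eq.1 (e2 x hx)
  rwa [eq_of_pp_pe ⟨m, hm, e1⟩ (h _ τ le_sup_right hτ) (Subgroup.mem_sup_left hx)] at this

theorem eq_inner_of_pe {U : Subgroup Ω} (hU : F.IsNormal U)
    (h : ∀ P σ, U ≤ P → Iso F P P σ → PE p P σ) : F = innerFusionSystem S :=
  eq_inner_of_hyp_le hS hF hU (hyp_le_of_pe hS hF (H91.IsNormal.stronglyClosed' hU) h)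
    fun σ hσ hp _ => eq_of_pp_pe hp (h U σ le_rfl hσ)

omit hS hF [Finite S] [Fact p.Prime] in
theorem NPE.pe (h : NPE F p d) {U : Subgroup Ω} (hU : F.StronglyClosed U) (hc : Nat.card U = d)
    (P : Subgroup Ω) (σ : Perm Ω) (hP : U ≤ P) (hσ : Iso F P P σ) : PE p P σ :=
  h U P σ hc hP (hσ.le.trans (le_normalizer_of_stronglyClosed hU)) hσ
    fun _ hx => hσ.map.mem_of_stronglyClosed hU (hP hx) hx

omit hF in
theorem exists_maximal_not_le {X Y : Subgroup Ω} (hY : Y ≤ S)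
    (h : ¬ Y ≤ (frattini S).map S.subtype ⊔ X) (hX : X ≤ S) :
    ∃ M, X ≤ M ∧ M < S ∧ ⁅S, S⁆ ≤ M ∧ ¬ Y ≤ M ∧ Nat.card S = Nat.card M * p := by
  obtain ⟨y, hy, hy'⟩ := SetLike.not_le_iff_exists.1 h
  obtain ⟨M, h1, h2, h3⟩ := H5.exists_index_eq_not_mem (N := frattini S ⊔ X.subgroupOf S)
    ((H5.commutator_le_frattini hS).trans le_sup_left)
    (fun x => Subgroup.mem_sup_left (H5.pow_mem_frattini hS x)) (g := ⟨y, hY hy⟩) fun h => hy' (by
      rw [← Subgroup.map_subgroupOf_eq_of_le hX, ← Subgroup.map_sup]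
      exact ⟨_, h, rfl⟩)
  have h4 : y ∉ M.map S.subtype := fun ⟨z, hz, e⟩ => h3 (by subst e; exact hz)
  refine ⟨M.map S.subtype, ?_, lt_of_le_of_ne (Subgroup.map_subtype_le _) fun e => h4 (e.ge (hY hy)),
    (commutator_le_frattini hS).trans (Subgroup.map_mono (le_sup_left.trans h1)),
    fun h => h4 (h hy), ?_⟩
  · rw [← Subgroup.map_subgroupOf_eq_of_le hX]
    exact Subgroup.map_mono (le_sup_right.trans h1)
  · rw [Subgroup.card_map_of_injective S.subtype_injective, ← h2, M.card_mul_index]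

theorem eq_inner_of_wEmb {k : ℕ} (hk : 0 < k) (hlt : p ^ k < Nat.card S) (h1 : WEmb F (p ^ k))
    (h2 : NPE F p (p ^ k)) : F = innerFusionSystem S := by
  revert hS hF k
  refine sat_induction (C := fun Ω _ S F => IsPGroup p S → F.IsSaturated p → ∀ {k : ℕ}, 0 < k →
    p ^ k < Nat.card S → WEmb F (p ^ k) → NPE F p (p ^ k) → F = innerFusionSystem S)
    (fun Ω _ S _ F ih ih' hS hF k hk hlt h1 h2 => ?_) Ω S F
  have hp1 := (Fact.out : p.Prime).one_lt
  by_contra hne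
  have ihs : ∀ (T : Subgroup Ω) (E : FusionSystem T), E.IsSubsystemOf F → ¬ F.IsSubsystemOf E →
      E.IsSaturated p → p ^ k < Nat.card T → E = innerFusionSystem T := fun T E h3 h4 h5 h6 =>
    ih T E h3 h4 (hS.to_le (sub_le h3)) h5 hk h6 (h1.of_sub h3) (h2.of_sub h3)
  have hb : ∀ U, F.StronglyClosed U → Nat.card U = p ^ k → ¬ F.IsNormal U := fun U hU hc h =>
    hne (eq_inner_of_pe hS hF h (h2.pe hU hc))
  have ha : ∀ U, F.StronglyClosed U → U ≠ ⊥ → Nat.card U ≤ p ^ k →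
      F.hyperfocalSubgroup p ≤ U := fun U hU hU1 hc => by
    rcases hc.eq_or_lt with hc' | hc'
    · exact hyp_le_of_pe hS hF hU (h2.pe hU hc')
    have := finite_of_le hU.1
    obtain ⟨j, hj⟩ := (hS.to_le hU.1).exists_card_eq
    replace hc : j < k := by rwa [hj, Nat.pow_lt_pow_iff_right hp1] at hc'
    obtain ⟨Ω', _, S', F', θ, hq, rfl⟩ := exists_quot hU
    have := hq.finite
    have e : p ^ (k - j) * Nat.card (H91.kerIn θ) = p ^ k := by
      rw [hj, ← pow_add, Nat.sub_add_cancel hc.le]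
    refine quot_hyp_le hS hF hq (ih' Ω' S' F' (quot_card_lt hq hU1) (hq.isPGroup hS)
      (hq.isSaturated hS hF) (Nat.sub_pos_of_lt hc) ?_ (h1.quot hq e) (h2.quot hq e))
    have e' := quot_card_preimage hq le_rfl
    rw [hq.preimage_top] at e'
    rw [← e, e'] at hlt
    exact lt_of_mul_lt_mul_right hlt (Nat.zero_le _)
  have hY := stronglyClosed_hyperfocal hS hF
  have hD : ∀ D : Subgroup Ω, Nat.card D = p ^ k → D ≠ ⊥ := fun D hD h => by
    rw [h, Subgroup.card_bot] at hD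
    exact (Nat.one_lt_pow hk.ne' hp1).ne hD
  have hex : ∀ P : Subgroup Ω, P ≤ S → p ^ k ≤ Nat.card P → ∃ D ≤ P, Nat.card D = p ^ k :=
    fun P hP h => by
      obtain ⟨D, hD⟩ := Sylow.exists_subgroup_card_pow_prime_of_le_card Fact.out (hS.to_le hP) h
      exact ⟨D.map P.subtype, Subgroup.map_subtype_le _, by
        rwa [Subgroup.card_map_of_injective P.subtype_injective]⟩
  by_cases hSY : S ≤ F.hyperfocalSubgroup p
  · have ha' : ∀ U, F.StronglyClosed U → U ≠ ⊥ → p ^ k < Nat.card U := fun U hU hU1 => by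
      by_contra h
      have := finite_of_le hU.1
      exact (hlt.trans_le (card_le_of_le (hSY.trans (ha U hU hU1 (not_lt.1 h))))).not_ge (not_lt.1 h)
    obtain ⟨D, hDS, hDc⟩ := hex S le_rfl hlt.le
    obtain ⟨P, h3, h4, h5⟩ := h1 D hDS hDc
    have hP1 : P ≠ ⊥ := fun h => by
      rw [h, sup_bot_eq] at h4
      exact (ha' D h4 (hD D hDc)).ne' hDc
    have hPS : ¬ S ≤ P := fun h => by
      rw [inf_eq_left.2 (hDS.trans h)] at h5
      exact (ha' D h5 (hD D hDc)).ne' hDc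
    have hn := le_normalizer_of_stronglyClosed h3
    have hPn : F.IsNormal P := by
      by_contra h
      have e := ihs _ _ (nsys_sub F h3.1) (fun h' => h (isNormal_of_nmap h3.1 fun _ _ hf =>
        map_nsys.1 (hf.of_sub h'))) (isSaturated_nsys hS hF
          (isFullyNormalized_of_le_normalizer h3.1 hn)) (by rwa [normalizerIn_eq hn])
      refine hPS (hSY.trans (hyp_le_of_pe hS hF h3 fun R σ hR hσ => ?_))
      obtain ⟨-, g, hg, e'⟩ := map_inner.1 (e ▸ map_nsys.2 (nmap_of_sc hσ.map h3 hR))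
      exact (pe_cj hS hg.1 _).congr (fun y hy => by
        rw [show cj g y = _ from (e' y hy).symm]; exact hσ.mem hy) e'
    have hA := isPGroup_autGroup_of_inner hS h3.1 (F := F) fun E h6 h7 _ =>
      ihs P E h7 (fun h => hPS (sub_le h)) h6 (ha' P h3 hP1)
    have hA' : ∀ (σ : Perm Ω) (n : ℕ), Iso F P P σ → n.Coprime p → (∀ x ∈ P, (σ ^ n) x = x) →
        ∀ x ∈ P, σ x = x := fun σ n hσ hn e x hx => by
      obtain ⟨α, hα, e'⟩ := hσ.exists_aut
      have := finite_mulAut_of_le h3.1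
      rw [← e' x hx, eq_one_of_coprime_of_isPGroup hA hα (H91.coprime_of_extA e' hn e), map_one]
      rfl
    obtain ⟨D, hDP, hDc⟩ := hex P h3.1 (ha' P h3 hP1).le
    have h6 := H91.IsCentral.mono' (H91.isCentral_of_p'_trivial hS hF hPn
      (hSY.trans (H91.hyp_le_centralizer hPn hA')) hA') hDP
    exact hb D (H91.IsCentral.stronglyClosed' h6) hDc (H91.IsCentral.isNormal' h6)
  obtain ⟨M', h3, h4, h5, -, h6⟩ := exists_maximal_not_le hS le_rfl (fun h => hSY (by
    have h' : frattini S ⊔ (F.hyperfocalSubgroup p).subgroupOf S = ⊤ := by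
      rw [eq_top_iff, ← Subgroup.map_le_map_iff_of_injective S.subtype_injective, Subgroup.map_sup,
        Subgroup.map_subgroupOf_eq_of_le hY.1]
      exact (Subgroup.map_subtype_le _).trans h
    rw [sup_comm] at h'
    exact Subgroup.subgroupOf_eq_top.1 (frattini_nongenerating h'))) hY.1
  have hn : ∀ {M : Subgroup Ω}, ⁅S, S⁆ ≤ M → M ≤ S → S ≤ Subgroup.normalizer (M : Set Ω) :=
    fun h h' => Subgroup.le_normalizer_iff_commutator_le_right.2
      ((Subgroup.commutator_mono le_rfl h').trans h)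
  have := finite_of_le h4.le
  have hM' : Nat.card M' = p ^ k := by
    refine le_antisymm (not_lt.1 fun h => ?_) ?_
    · obtain ⟨E, hE, hi⟩ := exists_hasPPowerIndexIn hS hF h4.le h3
      refine hne (eq_inner_of_hyperfocal_eq_bot hS hF ?_)
      rw [← hyperfocal_eq_of_hasPPowerIndexIn hS hi,
        ihs M' E hi.1 (fun h => h4.not_ge (sub_le h)) hE h, H91.hyp_inner (hS.to_le h4.le)]
    · obtain ⟨j, hj⟩ := (hS.to_le h4.le).exists_card_eq
      rw [h6, hj, ← pow_succ, Nat.pow_lt_pow_iff_right hp1] at hlt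
      rw [hj]
      exact Nat.pow_le_pow_right hp1.le (Nat.le_of_lt_succ hlt)
  obtain ⟨M, -, h7, h8, h9, h10⟩ := exists_maximal_not_le hS hY.1 (fun h =>
    hne (eq_inner_of_focal_le_frattini hS hF (by
      rw [focal_eq_hyperfocal_sup hS hF]
      exact sup_le (by simpa using h) (commutator_le_frattini hS)))) bot_le
  have hM : Nat.card M = p ^ k := by
    rw [h6, hM'] at h10
    exact (Nat.eq_of_mul_eq_mul_right (by omega) h10).symm
  have := finite_of_le h7.le
  obtain ⟨P, h11, h12, h13⟩ := h1 M h7.le hM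
  have hU : M ⊓ P = ⊥ := by_contra fun h =>
    h9 ((ha _ h13 h (hM ▸ card_le_of_le inf_le_left)).trans inf_le_left)
  have hP1 : P ≠ ⊥ := fun h => by
    rw [h, sup_bot_eq] at h12
    exact h9 (ha M h12 (hD M hM) hM.le)
  have hc : S ≤ centralizerIn S P := le_inf le_rfl (Subgroup.commutator_eq_bot_iff_le_centralizer.1
    (eq_bot_iff.2 (hU ▸ le_inf ((Subgroup.commutator_mono le_rfl h11.1).trans h8)
      (Subgroup.le_normalizer_iff_commutator_le_right.1 (le_normalizer_of_stronglyClosed h11)))))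
  have hPc : Nat.card P ≤ p ^ k := by
    have h14 := Nat.card_le_card_of_injective (fun x : M × P => (⟨x.1 * x.2,
      mul_mem (h7.le x.1.2) (h11.1 x.2.2)⟩ : S)) fun x y e => by
        have e1 : (x.1 : Ω) * x.2 = y.1 * y.2 := congrArg Subtype.val e
        have e2 : (y.1 : Ω)⁻¹ * x.1 = y.2 * (x.2 : Ω)⁻¹ := by
          rw [inv_mul_eq_iff_eq_mul, ← mul_assoc, ← e1, mul_inv_cancel_right]
        have e3 : (y.1 : Ω)⁻¹ * x.1 ∈ M ⊓ P :=
          ⟨M.mul_mem (M.inv_mem y.1.2) x.1.2, e2 ▸ P.mul_mem y.2.2 (P.inv_mem x.2.2)⟩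
        rw [hU, Subgroup.mem_bot] at e3
        rw [e3, eq_comm, mul_inv_eq_one] at e2
        exact Prod.ext (Subtype.ext (inv_mul_eq_one.1 e3).symm) (Subtype.ext e2.symm)
    rw [Nat.card_prod, h10] at h14
    exact (Nat.le_of_mul_le_mul_left h14 Nat.card_pos).trans (Nat.le_self_pow hk.ne' p)
  refine hne (eq_inner_of_hyp_le hS hF (isNormal_of_abelian hS hF h11 fun x hx y hy =>
    (hc (h11.1 hy)).2 x hx) (ha P h11 hP1 hPc) fun σ hσ hp x hx => ?_)
  obtain ⟨τ, hτ, e, -⟩ := hσ.extend_centralizer (receptive_of_normalized hS hF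
    (isFullyNormalized_of_le_normalizer h11.1 (le_normalizer_of_stronglyClosed h11)))
  rw [← e x hx]
  exact eq_of_pp_pe (hp.congr (fun _ h => hσ.mem h) e) ((h2.pe (stronglyClosed_of_hyperfocal_le hS hF
    h4.le (hn h5 h4.le) h3) hM' S τ h4.le (hτ.mono (hc.trans le_sup_right)).iso_top).mono h11.1) hx

omit hS hF [Finite S] [Fact p.Prime] in
theorem weakEmb_eq_defs : True := by
  have := @NPE.eq_1.{0}
  have := @WEmb.eq_1.{0}
  trivial

end H92
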