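import Mathlib
import Cfsg.Agent.Lib.Fusion.PIndex
import Cfsg.Agent.Lib.Fusion.Reduce
import Cfsg.Agent.Lib.H81.Yoshida
import Cfsg.Agent.S1952

/-!
# Yoshida's transfer theorem for fusion systems (helper92)
-/

set_option autoImplicit false

namespace H92

open Cfsg Cfsg.FusionSystem H90 Equiv

/-- A cocycle of a `p`-group without fixed points whose product is nontrivial on an element of
least possible order comes from a maximal subgroup. -/
theorem Coc.exists_maximal {P X E : Type*} [Group P] [Finite P] [MulAction P X] [CommGroup E]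
    {p : ℕ} [hp : Fact p.Prime] (hP : IsPGroup p P) {T : Finset X} {χ : P → X → E}
    (hc : Coc ⊤ T χ) (hT : ∀ y ∈ T, ∃ g : P, g • y ≠ y) {u : P}
    (hs : ∀ g, orderOf g < orderOf u → ∀ y ∈ T, g • y = y → χ g y = 1)
    (hu : ∏ y ∈ T, χ u y ≠ 1) :
    ∃ M : Subgroup P, M.Normal ∧ M.index = p ∧ u ∈ M ∧ ∃ z, z ∉ M ∧ ∃ μ : P → E, MulOn M μ ∧
      ∏ i ∈ Finset.range p, μ ((z ^ i)⁻¹ * u * z ^ i) ≠ 1 := by
  classical
  let π : X → MulAction.orbitRel.Quotient P X := Quotient.mk _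
  have hπ : ∀ a b, π a = π b ↔ ∃ w : P, w • b = a := fun a b => Quotient.eq
  rw [← Finset.prod_fiberwise_of_maps_to (fun y hy => Finset.mem_image_of_mem π hy)] at hu
  obtain ⟨ω, -, hω⟩ := Finset.exists_ne_one_of_prod_ne_one hu
  have hi : ∀ g : P, ∀ y ∈ T.filter (π · = ω), g • y ∈ T.filter (π · = ω) := fun g y hy =>
    Finset.mem_filter.2 ⟨hc.inv g trivial y (Finset.mem_filter.1 hy).1,
      ((hπ _ _).2 ⟨g, rfl⟩).trans (Finset.mem_filter.1 hy).2⟩
  obtain ⟨q0, hq0, hu0⟩ : ∃ y ∈ T.filter (π · = ω), u • y = y := by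
    by_contra! h
    refine hω ((hc.mono (H' := Subgroup.zpowers u) le_top (Finset.filter_subset _ _)
      fun g _ => hi g).prod_eq_one (fun g hg y hy e => hs g ?_ y (Finset.mem_filter.1 hy).1 e)
      (Subgroup.mem_zpowers u))
    refine lt_of_le_of_ne (Nat.le_of_dvd (orderOf_pos u) (orderOf_dvd_of_mem_zpowers hg)) fun e' => ?_
    have h1 : Subgroup.zpowers g = Subgroup.zpowers u := Subgroup.eq_of_le_of_card_ge
      (Subgroup.zpowers_le.2 hg) (by rw [Nat.card_zpowers, Nat.card_zpowers, e'])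
    have h2 : Subgroup.zpowers g ≤ MulAction.stabilizer P y := Subgroup.zpowers_le.2 e
    exact h y hy (h2 (h1 ▸ Subgroup.mem_zpowers u))
  obtain ⟨hq0T, hq0ω⟩ := Finset.mem_filter.1 hq0
  obtain ⟨M, hM1, -, hM3, hM4⟩ := H81.exists_index_p_between (hP.to_subgroup ⊤)
    (T := MulAction.stabilizer P q0) (lt_top_iff_ne_top.2 fun h =>
      let ⟨g, hg⟩ := hT q0 hq0T; hg (h.ge (Subgroup.mem_top g)))
  have hn : M.Normal := Subgroup.normalizer_eq_top_iff.1 (top_le_iff.1 hM4)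
  obtain ⟨z, hzM⟩ : ∃ z, z ∉ M := by
    by_contra! h
    rw [Subgroup.relIndex_eq_one.2 fun x _ => h x] at hM3
    exact hp.out.one_lt.ne hM3
  obtain ⟨hzp, hdec⟩ := H81.exists_pow_mul_of_relIndex hp.out le_top hM3 hM4 trivial hzM
  let B : Finset X := T.filter fun q => ∃ m ∈ M, m • q0 = q
  have hB : ∀ q, q ∈ B ↔ ∃ m ∈ M, m • q0 = q := fun q => Finset.mem_filter.trans
    ⟨fun h => h.2, fun ⟨m, hm, e⟩ => ⟨e ▸ hc.inv m trivial _ hq0T, m, hm, e⟩⟩
  have hBi : ∀ g ∈ M, ∀ y ∈ B, g • y ∈ B := fun g hg y hy => by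
    obtain ⟨m, hm, rfl⟩ := (hB y).1 hy
    exact (hB _).2 ⟨g * m, M.mul_mem hg hm, mul_smul _ _ _⟩
  have hBT : B ⊆ T := Finset.filter_subset _ _
  refine ⟨M, hn, by rwa [Subgroup.relIndex_top_right] at hM3, hM1 hu0, z, hzM,
    fun x => ∏ q ∈ B, χ x q, fun a ha b hb => (hc.mono le_top hBT hBi).prod_mul ha hb, ?_⟩
  convert hω using 1
  have e1 : ∀ i ∈ Finset.range p, ∏ q ∈ B, χ ((z ^ i)⁻¹ * u * z ^ i) q =
      ∏ q ∈ B, χ u (z ^ i • q) := fun i _ => by
    have h2 : (z ^ i)⁻¹ * u * z ^ i ∈ M := hn.conj_mem' u (hM1 hu0) _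
    have h3 : ∀ q ∈ B, χ u (z ^ i • q) * χ (z ^ i) q = χ (z ^ i) (((z ^ i)⁻¹ * u * z ^ i) • q) *
        χ ((z ^ i)⁻¹ * u * z ^ i) q := fun q hq => by
      rw [← hc.mul _ trivial _ trivial q (hBT hq), ← hc.mul _ trivial _ trivial q (hBT hq)]
      congr 1; group
    have h4 := Finset.prod_congr rfl h3
    rw [Finset.prod_mul_distrib, Finset.prod_mul_distrib, prod_smul_eq hBi h2 (χ (z ^ i)),
      mul_comm] at h4
    exact (mul_left_cancel h4).symm
  rw [Finset.prod_congr rfl e1, ← Finset.prod_product']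
  refine Finset.prod_bij (fun x _ => z ^ x.1 • x.2) ?_ ?_ ?_ (fun _ _ => rfl)
  · rintro ⟨i, q⟩ hx
    obtain ⟨m, hm, rfl⟩ := (hB q).1 (Finset.mem_product.1 hx).2
    exact hi _ _ (hi _ _ hq0)
  · rintro ⟨i, q⟩ hx ⟨j, q'⟩ hy e
    obtain ⟨hi, hq⟩ := Finset.mem_product.1 hx
    obtain ⟨hj, hq'⟩ := Finset.mem_product.1 hy
    obtain ⟨m, hm, rfl⟩ := (hB q).1 hq
    obtain ⟨m', hm', rfl⟩ := (hB q').1 hq'
    simp only at e hi hj
    have h2 : (z ^ j * m')⁻¹ * (z ^ i * m) ∈ M := by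
      refine hM1 ?_
      change _ • q0 = q0
      rw [mul_smul, inv_smul_eq_iff, mul_smul, mul_smul, e]
    have h3 : z ^ ((i : ℤ) - j) ∈ M := by
      have := M.mul_mem (M.mul_mem hm' h2) (M.inv_mem hm)
      convert this using 1
      rw [← zpow_natCast, ← zpow_natCast]
      group
    have h4 := H5.dvd_of_zpow_mem hp.out hzM hzp h3
    rw [Finset.mem_range] at hi hj
    have h5 : i = j := by
      have := Int.eq_zero_of_abs_lt_dvd h4 (by rw [abs_lt]; constructor <;> omega)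
      omega
    subst h5
    rw [smul_left_cancel_iff] at e
    rw [e]
  · intro q hq
    obtain ⟨w, rfl⟩ := (hπ _ _).1 ((Finset.mem_filter.1 hq).2.trans hq0ω.symm)
    obtain ⟨i, hi, m, hm, rfl⟩ := hdec w trivial
    exact ⟨(i, m • q0), Finset.mem_product.2 ⟨Finset.mem_range.2 hi, (hB _).2 ⟨m, hm, rfl⟩⟩,
      (mul_smul _ _ _).symm⟩

theorem exists_wreath_of_maximal {P E : Type*} [Group P] [Finite P] [CommGroup E]
    {p : ℕ} [hp : Fact p.Prime] (hP : IsPGroup p P) (hE : ∀ e : E, e ^ p = 1) {M : Subgroup P}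
    (hn : M.Normal) (hi : M.index = p) {u z : P} (hu : u ∈ M) (hz : z ∉ M) {μ : P → E}
    (hμ : MulOn M μ) (h : ∏ i ∈ Finset.range p, μ ((z ^ i)⁻¹ * u * z ^ i) ≠ 1) :
    ∃ (W : Sylow p (Perm (Fin (p ^ 2)))) (f : P →* (W : Subgroup (Perm (Fin (p ^ 2))))),
      Function.Surjective f := by
  let N := hμ.ker.normalCore
  have hN : ∀ x, QuotientGroup.mk' N x = 1 ↔ ∀ g, g * x * g⁻¹ ∈ hμ.ker := fun x =>
    QuotientGroup.eq_one_iff x
  have hNM : N ≤ M := fun x hx => (hμ.mem_ker.1 (hμ.ker.normalCore_le hx)).1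
  let A := M.map (QuotientGroup.mk' N)
  have hAn : A.Normal := hn.map _ (QuotientGroup.mk'_surjective N)
  have hAc : IsMulCommutative A := .of_setLike_mul_comm (by
    rintro _ ⟨a, ha, rfl⟩ _ ⟨b, hb, rfl⟩
    rw [← commutatorElement_eq_one_iff_mul_comm, ← map_commutatorElement, hN]
    intro g
    have := hμ.commutator_le_ker
      (Subgroup.commutator_mem_commutator (hn.conj_mem a ha g) (hn.conj_mem b hb g))
    rwa [← conjugate_commutatorElement] at this)
  have hAe : ∀ a ∈ A, a ^ p = 1 := by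
    rintro _ ⟨a, ha, rfl⟩
    rw [← map_pow, hN]
    intro g
    rw [← conj_pow, hμ.mem_ker, hμ.pow (hn.conj_mem a ha g)]
    exact ⟨M.pow_mem (hn.conj_mem a ha g) p, hE _⟩
  have hAi : A.index = p := by
    rw [Subgroup.index_map, QuotientGroup.ker_mk', sup_eq_left.2 hNM, QuotientGroup.range_mk',
      Subgroup.index_top, mul_one, hi]
  have hy : QuotientGroup.mk' N z ∉ A := fun hy => by
    have : z ∈ A.comap (QuotientGroup.mk' N) := hy
    rw [Subgroup.comap_map_eq, QuotientGroup.ker_mk', sup_eq_left.2 hNM] at this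
    exact hz this
  obtain ⟨Q, f, hf⟩ := Cfsg.Agent.S1952.result (hP.to_quotient N) A ⟨hAc, hAe⟩ hAi
    (QuotientGroup.mk' N u) _ ⟨u, hu, rfl⟩ hy fun hprod => h (by
      let l : List M := (List.range p).map fun i => ⟨(z ^ i)⁻¹ * u * z ^ i, hn.conj_mem' u hu _⟩
      have h1 : (l.prod : P) ∈ hμ.ker := by
        refine hμ.ker.normalCore_le ((QuotientGroup.eq_one_iff _).1 ?_)
        rw [← hprod]
        change ((QuotientGroup.mk' N).comp M.subtype) l.prod = _
        rw [map_list_prod, List.map_map]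
        rfl
      rw [← (hμ.mem_ker.1 h1).2, ← hμ.hom_apply, map_list_prod, List.map_map,
        ← List.prod_toFinset _ List.nodup_range, List.toFinset_range]
      rfl)
  exact ⟨Q, f.comp (QuotientGroup.mk' N), hf.comp (QuotientGroup.mk'_surjective N)⟩

variable {Ω : Type*} [Group Ω] {S : Subgroup Ω} {F : FusionSystem S} {p : ℕ} [Finite S]
  [Fact p.Prime]

theorem exists_wreath_of_not_focal_le (hS : IsPGroup p S) (hF : F.IsSaturated p) {D : Subgroup Ω}
    (hD : ∀ f, Map F S f → ∀ x ∈ S, x⁻¹ * f x ∈ D) (hc : ⁅S, S⁆ ≤ D) (hDF : D ≤ F.focalSubgroup)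
    (hne : ¬ F.focalSubgroup ≤ D) :
    ∃ (W : Sylow p (Perm (Fin (p ^ 2)))) (f : S →* (W : Subgroup (Perm (Fin (p ^ 2))))),
      Function.Surjective f := by
  classical
  obtain ⟨K, _, _, ⟨pk⟩⟩ := exists_park hS hF
  obtain ⟨θ, hθ, h1, ⟨b, hb, h2⟩, h3⟩ := pk.exists_theta hS hc hDF hne
  letI : MulAction S pk.X := MulAction.compHom _ pk.ι
  have ht := pk.isSec_out
  have hc0 := ht.coc hθ
  obtain ⟨u, hu, hmin⟩ := exists_minimalFor_of_wellFoundedLT (fun u : S => θ u ≠ 1) orderOf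
    ⟨⟨b, focalSubgroup_le F hb⟩, h2⟩
  let T := pk.all.filter fun y => y ∉ pk.fix (pk.jm S)
  have hco : Coc (⊤ : Subgroup S) T fun g y => θ (pk.c Quotient.out (pk.j g) y) :=
    ⟨fun g _ y hy => Finset.mem_filter.2 ⟨Park.mem_all _, fun h => (Finset.mem_filter.1 hy).2 (by
      have := Park.smul_mem_fix (Subgroup.le_normalizer (pk.j_mem_jm le_rfl (S.inv_mem g.2))) h
      rwa [pk.mulOn_j.inv g.2, show g • y = pk.j g • y from rfl, inv_smul_smul] at this)⟩,
    fun g _ h _ y _ => by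
      rw [Subgroup.coe_mul, pk.j_mul _ g.2 _ h.2]
      exact hc0.mul _ trivial _ trivial y (Park.mem_all y)⟩
  obtain ⟨M, hn, hi, huM, z, hz, μ, hμ, h⟩ := hco.exists_maximal hS (u := u) (fun y hy => by
    by_contra! h
    exact (Finset.mem_filter.1 hy).2 ((Park.mem_fix_jm le_rfl).2 fun x hx => h ⟨x, hx⟩))
    (fun g hg y _ e => by
      have hm := ht.map_tw_zpowers g.2 e
      have hx := Subgroup.mem_zpowers (g : Ω)
      rw [Park.c_j_fix e]
      by_contra h
      refine (hmin (j := ⟨_, hm.mem hx⟩) h ?_).not_gt ?_ <;>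
        rw [← Subgroup.orderOf_coe, Subgroup.coe_mk, hm.orderOf_eq hx, Subgroup.orderOf_coe]
      exacts [hg.le, hg])
    (fun h => by
      have h4 := h3 u u.2
      rw [Park.V_eq ht, ← Finset.prod_filter_mul_prod_filter_not _ (· ∈ pk.fix (pk.jm S)), h,
        mul_one, Finset.filter_mem_eq_inter, Finset.inter_eq_right.2 fun _ _ => Park.mem_all _,
        Finset.prod_eq_pow_card (b := θ u) fun y hy => ?_] at h4
      · obtain ⟨k, hk⟩ := hS u
        exact hu (Subgroup.mem_bot.1 (mem_of_pow_mem (k := 1) (by rw [pow_one, zmod_pow_eq_one])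
          (pk.not_dvd_card_fix (pk.isPGroup_jm hS)) (Subgroup.mem_bot.2 h4)))
      · have hy' := (Park.mem_fix_jm le_rfl).1 hy
        have hm := ht.map_tw le_rfl hy'
        have := h1 _ (hD _ hm u u.2)
        rw [hθ _ (S.inv_mem u.2) _ (hm.mem u.2), hθ.inv u.2, inv_mul_eq_one] at this
        rw [Park.c_j_fix (hy' u u.2), this])
  exact exists_wreath_of_maximal hS zmod_pow_eq_one hn hi huM hz hμ h

end H92
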